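import Cfsg.Prelude.Def_Transfer
import Cfsg.Agent.Lib.Core.Cores
import Mathlib.GroupTheory.GroupAction.Basic
import Cfsg.Agent.Lib.TwoGroups.RankFourQuotient.Embeddings
import Cfsg.Agent.Lib.Classical.SLGroup

/-!
# The working form of the hypotheses (owner: helper28)
-/

set_option autoImplicit false

namespace CfsgLib.Recog.HsTwoLocal

open Subgroup
open scoped commutatorElement Pointwise

/-- An involution centraliser `(4 * 2^{1+4}).Sym(5)` meeting a two-local subgroup `4^3.L3(2)`. -/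
structure Ctx {G : Type*} [Group G] (t : G) (R M A V : Subgroup G) : Prop where
  t_ne : t ≠ 1
  t_sq : t * t = 1
  R_le : R ≤ centralizer ({t} : Set G)
  R_conj : ∀ g ∈ centralizer ({t} : Set G), ∀ r ∈ R, g * r * g⁻¹ ∈ R
  card_R : Nat.card R = 64
  t_R : t ∈ R
  sq : ∀ r ∈ R, r * r = 1 ∨ r * r = t
  abelian_le : ∀ B : Subgroup G, B ≤ R → (∀ x ∈ B, ∀ y ∈ B, x * y = y * x) → Nat.card B ≤ 16
  card_C : Nat.card (centralizer ({t} : Set G)) = 7680
  quot : ∃ f : centralizer ({t} : Set G) →* Equiv.Perm (Fin 5),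
    Function.Surjective f ∧ ∀ g, f g = 1 ↔ (g : G) ∈ R
  A_comm : ∀ x ∈ A, ∀ y ∈ A, x * y = y * x
  A_four : ∀ x ∈ A, x ^ 4 = 1
  card_A : Nat.card A = 64
  mem_V : ∀ x, x ∈ V ↔ x ∈ A ∧ x * x = 1
  card_V : Nat.card V = 8
  t_V : t ∈ V
  V_R : V ≤ R
  M_eq : M = normalizer (V : Set G)
  A_le : A ≤ M
  A_conj : ∀ g ∈ M, ∀ x ∈ A, g * x * g⁻¹ ∈ A
  card_M : Nat.card M = 10752
  fixed : ∀ g ∈ M, (∀ v ∈ V, g * v * g⁻¹ = v) → g ∈ A
  R_M : R ≤ M

variable {G : Type*} [Group G]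

theorem four_facts :
    Nat.card {m : Multiplicative (ZMod 4 × ZMod 4 × ZMod 4) // m * m = 1} = 8 := by
  rw [Nat.card_eq_fintype_card]
  decide +kernel

/-- The product formula for a subgroup normalised by another. -/
theorem card_sup [Finite G] {X Y : Subgroup G} (h : Y ≤ normalizer (X : Set G)) :
    Nat.card (X ⊔ Y : Subgroup G) = Nat.card X * Nat.card Y / Nat.card (X ⊓ Y : Subgroup G) := by
  classical
  have h1 : ((X ⊔ Y : Subgroup G) : Set G) = (X : Set G) * (Y : Set G) :=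
    Subgroup.coe_mul_of_right_le_normalizer_left X Y h
  haveI : (X.subgroupOf (X ⊔ Y)).Normal :=
    (normal_subgroupOf_iff_le_normalizer le_sup_left).2 (sup_le le_normalizer h)
  let f : Y →* (X ⊔ Y : Subgroup G) ⧸ X.subgroupOf (X ⊔ Y) :=
    (QuotientGroup.mk' _).comp (inclusion le_sup_right)
  have hf : Function.Surjective f := fun q => by
    obtain ⟨⟨g, hg⟩, rfl⟩ := QuotientGroup.mk'_surjective _ q
    have hg' : g ∈ (X : Set G) * (Y : Set G) := by rw [← h1]; exact hg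
    obtain ⟨x, hx, y, hy, e⟩ := Set.mem_mul.1 hg'
    refine ⟨⟨y, hy⟩, QuotientGroup.eq.2 (mem_subgroupOf.2 ?_)⟩
    show y⁻¹ * g ∈ X
    rw [← e, ← mul_assoc]
    have := (mem_normalizer_iff.1 (h (inv_mem hy)) x).1 hx
    rwa [inv_inv] at this
  have hk : Nat.card f.ker = Nat.card (X ⊓ Y : Subgroup G) := by
    rw [← Subgroup.card_map_of_injective (K := f.ker) Y.subtype_injective]
    congr 2
    ext g
    constructor
    · rintro ⟨y, hy, rfl⟩
      exact ⟨(mem_subgroupOf.1 ((QuotientGroup.eq_one_iff _).1 hy) : _), y.2⟩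
    · rintro ⟨hx, hy⟩
      exact ⟨⟨g, hy⟩, (QuotientGroup.eq_one_iff _).2 (mem_subgroupOf.2 hx), rfl⟩
  have hq := card_mul_index f.ker
  rw [index_ker, MonoidHom.range_eq_top.2 hf, card_top, hk] at hq
  have ht := card_eq_card_quotient_mul_card_subgroup (X.subgroupOf (X ⊔ Y))
  rw [Nat.card_congr (subgroupOfEquivOfLe (le_sup_left : X ≤ X ⊔ Y)).toEquiv] at ht
  rw [ht, ← hq, show Nat.card X * (Nat.card (X ⊓ Y : Subgroup G) * Nat.card ((X ⊔ Y : Subgroup G) ⧸ X.subgroupOf (X ⊔ Y)))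
    = Nat.card ((X ⊔ Y : Subgroup G) ⧸ X.subgroupOf (X ⊔ Y)) * Nat.card X * Nat.card (X ⊓ Y : Subgroup G) by ring,
    Nat.mul_div_cancel _ Nat.card_pos]

theorem card_GL32 : Nat.card (GL (Fin 3) (ZMod 2)) = 168 := by
  have : Fact (Nat.Prime 2) := ⟨Nat.prime_two⟩
  rw [Matrix.card_GL_field, ZMod.card, Fin.prod_univ_three]
  norm_num

/-- A group with central commutators of order two has no large abelian subgroup. -/
theorem abelian_bound [Finite G] {R B Z : Subgroup G} {t : G} (hB : B ≤ R) (hBc : ∀ x ∈ B, ∀ y ∈ B, x * y = y * x)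
    (hcom : ∀ r ∈ R, ∀ s ∈ R, ⁅r, s⁆ ∈ zpowers t) (htZ : zpowers t ≤ Z) (hZR : Z ≤ R)
    (hZ : ∀ z, z ∈ Z ↔ z ∈ R ∧ ∀ r ∈ R, r * z = z * r)
    (hcR : Nat.card R = 64) (hcZ : Nat.card Z = 4) (hct : Nat.card (zpowers t) = 2) : Nat.card B ≤ 16 := by
  classical
  by_contra hlt
  have hZc : ∀ z ∈ Z, ∀ r ∈ R, r * z = z * r := fun z hz => ((hZ z).1 hz).2
  set B' := B ⊔ Z with hB'
  have hB'R : B' ≤ R := sup_le hB hZR
  have hB'c : ∀ x ∈ B', ∀ y ∈ B', x * y = y * x := by
    have h1 : B' ≤ centralizer (B : Set G) := sup_le (fun x hx => mem_centralizer_iff.2 fun y hy => hBc y hy x hx)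
      fun z hz => mem_centralizer_iff.2 fun y hy => hZc z hz y (hB hy)
    intro x hx y hy
    have h2 : B' ≤ centralizer ({x} : Set G) := sup_le
      (fun y hy => mem_centralizer_singleton_iff.2 (mem_centralizer_iff.1 (h1 hx) y hy))
      fun z hz => mem_centralizer_singleton_iff.2 (hZc z hz x (hB'R hx)).symm
    exact (mem_centralizer_singleton_iff.1 (h2 hy)).symm
  -- the commutator pairing with an element outside
  by_cases hall : ∀ r ∈ R, r ∈ B'
  · have : R ≤ Z := fun r hr => (hZ r).2 ⟨hr, fun s hs => hB'c s (hall s hs) r (hall r hr)⟩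
    have := Subgroup.card_le_of_le this
    omega
  push Not at hall
  obtain ⟨r, hr, hrB⟩ := hall
  let T : Subgroup G := zpowers t
  let φ : B' →* T :=
    { toFun := fun x => ⟨⁅(x : G), r⁆, hcom x (hB'R x.2) r hr⟩
      map_one' := Subtype.ext (by simp [commutatorElement_def])
      map_mul' := fun x y => Subtype.ext (by
        show ⁅(x : G) * (y : G), r⁆ = ⁅(x : G), r⁆ * ⁅(y : G), r⁆
        have hc : (x : G) * ⁅(y : G), r⁆ = ⁅(y : G), r⁆ * x :=
          hZc _ (htZ (hcom y (hB'R y.2) r hr)) x (hB'R x.2)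
        have hc' : ⁅(y : G), r⁆ * ⁅(x : G), r⁆ = ⁅(x : G), r⁆ * ⁅(y : G), r⁆ :=
          (hZc _ (htZ (hcom y (hB'R y.2) r hr)) _ (hZR (htZ (hcom x (hB'R x.2) r hr)))).symm
        rw [← hc', show ⁅(x : G) * y, r⁆ = (x : G) * ⁅(y : G), r⁆ * (x : G)⁻¹ * ⁅(x : G), r⁆ by
          simp only [commutatorElement_def]; group, hc, mul_inv_cancel_right]) }
  have hker : ∀ x : B', φ x = 1 → (x : G) * r = r * x := fun x hx =>
    commutatorElement_eq_one_iff_mul_comm.1 (congrArg Subtype.val hx)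
  -- R is generated by B' and r up to index two
  have hle : Nat.card φ.ker ≤ 4 := by
    have hgen : ∀ x : B', φ x = 1 → ∀ s ∈ B' ⊔ zpowers r, s * x = (x : G) * s := fun x hx s hs => by
      have h2 : B' ⊔ zpowers r ≤ centralizer ({(x : G)} : Set G) := sup_le
        (fun y hy => mem_centralizer_singleton_iff.2 (hB'c y hy x x.2))
        (zpowers_le.2 (mem_centralizer_singleton_iff.2 (hker x hx).symm))
      exact mem_centralizer_singleton_iff.1 (h2 hs)
    have htop : R ≤ B' ⊔ zpowers r := by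
      have hle' : B' ⊔ zpowers r ≤ R := sup_le hB'R (zpowers_le.2 hr)
      refine (Subgroup.eq_of_le_of_card_ge hle' ?_).ge
      rw [hcR]
      have h1 : B' < B' ⊔ zpowers r :=
        lt_of_le_of_ne le_sup_left fun e => hrB (e.symm ▸ mem_sup_right (mem_zpowers r))
      obtain ⟨k, hk⟩ := Subgroup.card_dvd_of_le h1.le
      have hB16 : 32 ≤ Nat.card B' := by
        obtain ⟨j, -, hj⟩ := (Nat.dvd_prime_pow Nat.prime_two (m := 6) (i := Nat.card B)).1
          (by rw [show 2 ^ 6 = 64 from rfl, ← hcR]; exact Subgroup.card_dvd_of_le hB)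
        have hBle := Subgroup.card_le_of_le (show B ≤ B' from le_sup_left)
        have : 5 ≤ j := by
          by_contra h
          have : j ≤ 4 := by omega
          interval_cases j <;> omega
        have : 2 ^ 5 ≤ 2 ^ j := Nat.pow_le_pow_right (by norm_num) this
        rw [hj] at hBle
        exact this.trans hBle
      rcases Nat.lt_or_ge k 2 with hk2 | hk2
      · exfalso
        refine h1.ne (Subgroup.eq_of_le_of_card_ge h1.le ?_)
        rw [hk]
        interval_cases k <;> simp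
      · rw [hk]
        exact (Nat.mul_le_mul hB16 hk2).trans_eq' rfl
    have hsub : φ.ker.map B'.subtype ≤ Z := by
      rintro _ ⟨x, hx, rfl⟩
      exact (hZ _).2 ⟨hB'R x.2, fun s hs => hgen x hx s (htop hs)⟩
    rw [← hcZ, ← card_map_of_injective B'.subtype_injective]
    exact Subgroup.card_le_of_le hsub
  have h3 := Subgroup.card_mul_index φ.ker
  rw [Subgroup.index_ker] at h3
  have h4 : Nat.card φ.range ≤ 2 := hct ▸ Subgroup.card_le_card_group φ.range
  have h5 := Subgroup.card_le_of_le (show B ≤ B' from le_sup_left)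
  have h6 := Nat.mul_le_mul hle h4
  omega

theorem exists_ctx [Finite G]
    (t : G) (ht : orderOf t = 2) (H : Subgroup G) (hH : H = centralizer ({t} : Set G))
    (R : Subgroup G) (hR : R = (Cfsg.pCore 2 H).map H.subtype)
    (Cy E : Subgroup G) (hCy : IsCyclic Cy) (hCycard : Nat.card Cy = 4)
    (hCyle : Cy ≤ R ⊓ centralizer (R : Set G))
    (hEle : E ≤ R) (hEex : Cfsg.IsExtraspecial 2 E) (hEcard : Nat.card E = 32)
    (hprod : Cy ⊔ E = R) (hmeet : Cy ⊓ E = E ⊓ centralizer (E : Set G))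
    (eH : H ⧸ Cfsg.pCore 2 H ≃* Equiv.Perm (Fin 5))
    (V : Subgroup G) (hVcomm : IsMulCommutative V) (hVexp : ∀ v ∈ V, v ^ 2 = 1) (hVcard : Nat.card V = 8)
    (hVR : V ≤ R) (M : Subgroup G) (hM : M = normalizer (V : Set G))
    (eOM : Cfsg.pCore 2 M ≃* Multiplicative (ZMod 4 × ZMod 4 × ZMod 4))
    (eM : M ⧸ Cfsg.pCore 2 M ≃* GL (Fin 3) (ZMod 2)) :
    Ctx t R M ((Cfsg.pCore 2 M).map M.subtype) V := by
  classical
  haveI : Fact (Nat.Prime 2) := ⟨Nat.prime_two⟩
  set A := (Cfsg.pCore 2 M).map M.subtype with hA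
  have hRH : R ≤ H := hR ▸ map_subtype_le _
  have ht2 : t * t = 1 := by rw [← pow_two, ← ht, pow_orderOf_eq_one]
  have hRc : ∀ g ∈ H, ∀ r ∈ R, g * r * g⁻¹ ∈ R := by
    intro g hg r hr
    rw [hR] at hr ⊢
    obtain ⟨r, hr, rfl⟩ := hr
    exact ⟨⟨g, hg⟩ * r * ⟨g, hg⟩⁻¹, Normal.conj_mem inferInstance _ hr _, rfl⟩
  -- the centre of the extraspecial factor
  have hZE : E ⊓ centralizer (E : Set G) = (center E).map E.subtype := by
    ext g
    constructor
    · rintro ⟨h1, h2⟩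
      exact ⟨⟨g, h1⟩, mem_center_iff.2 fun e => Subtype.ext (mem_centralizer_iff.1 h2 e e.2), rfl⟩
    · rintro ⟨e, he, rfl⟩
      exact ⟨e.2, mem_centralizer_iff.2 fun x hx => congrArg Subtype.val (mem_center_iff.1 he ⟨x, hx⟩)⟩
  have hI2 : Nat.card (Cy ⊓ E : Subgroup G) = 2 := by
    rw [hmeet, hZE, card_map_of_injective E.subtype_injective]; exact hEex.2
  have hcomm : ∀ c ∈ Cy, ∀ r ∈ R, r * c = c * r := fun c hc r hr =>
    (mem_centralizer_iff.1 (hCyle hc).2 r hr)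
  have hCyE : E ≤ normalizer (Cy : Set G) := fun e he => mem_normalizer_iff.2 fun c => ⟨fun hc => by
    rw [hcomm c hc e (hEle he), mul_inv_cancel_right]; exact hc, fun hc => by
    have := hcomm _ hc e (hEle he)
    rw [show e * c * e⁻¹ = c from (mul_left_cancel (a := e) (by rw [this]; group))] at hc
    exact hc⟩
  have hdec : ∀ r ∈ R, ∃ c ∈ Cy, ∃ e ∈ E, c * e = r := fun r hr => by
    rw [← hprod] at hr
    have := (Subgroup.coe_mul_of_right_le_normalizer_left Cy E hCyE)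
    rw [← SetLike.mem_coe, this] at hr
    exact Set.mem_mul.1 hr
  -- the cyclic factor has t as its involution
  obtain ⟨⟨c0, hc0⟩, hgen⟩ := hCy.exists_generator
  have hc0o : orderOf c0 = 4 := by
    rw [show c0 = ((⟨c0, hc0⟩ : Cy) : G) from rfl, Subgroup.orderOf_coe, orderOf_eq_card_of_forall_mem_zpowers hgen,
      hCycard]
  have hCyinv : ∀ x ∈ Cy, x * x = 1 → x = 1 ∨ x = c0 ^ 2 := fun x hx hxx => by
    obtain ⟨n, hn⟩ := mem_powers_iff_mem_zpowers.2 (hgen ⟨x, hx⟩)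
    have hn' : c0 ^ n = x := congrArg Subtype.val hn
    rw [← hn', ← pow_add, ← orderOf_dvd_iff_pow_eq_one, hc0o] at hxx
    rw [← hn', ← pow_mod_orderOf, hc0o]
    rcases (show n % 4 = 0 ∨ n % 4 = 2 by omega) with e | e <;> rw [e]
    · exact Or.inl (pow_zero _)
    · exact Or.inr rfl
  have hZR : ∀ z, z ∈ Cy ↔ z ∈ R ∧ ∀ r ∈ R, r * z = z * r := fun z => ⟨fun hz => ⟨(hCyle hz).1, hcomm z hz⟩,
    fun ⟨hz, hzc⟩ => by
    obtain ⟨c, hc, e, he, rfl⟩ := hdec z hz
    refine mul_mem hc (inf_le_left (a := Cy) (b := E) ?_)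
    rw [hmeet]
    refine ⟨he, mem_centralizer_iff.2 fun f hf => ?_⟩
    have h := hzc f (hEle hf)
    rw [← mul_assoc, hcomm c hc f (hEle hf), mul_assoc, mul_assoc] at h
    exact mul_left_cancel h⟩
  have hHt : ∀ g ∈ H, g * t = t * g := fun g hg => mem_centralizer_singleton_iff.1 (hH ▸ hg)
  have htH : t ∈ H := hH.symm ▸ mem_centralizer_singleton_iff.2 rfl
  have htR0 : t ∈ R := by
    haveI : (zpowers (⟨t, htH⟩ : H)).Normal := ⟨fun n hn g => by
      obtain ⟨k, rfl⟩ := mem_zpowers_iff.1 hn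
      have hcg : Commute g (⟨t, htH⟩ : H) := Subtype.ext (hHt g g.2)
      rw [(hcg.zpow_right k).eq, mul_inv_cancel_right]
      exact zpow_mem (mem_zpowers _) k⟩
    have hp : IsPGroup 2 (zpowers (⟨t, htH⟩ : H)) :=
      IsPGroup.of_card (n := 1) (by rw [Nat.card_zpowers, pow_one, ← Subgroup.orderOf_coe]; exact ht)
    rw [hR]
    exact ⟨_, CfsgLib.Core.le_pCore (p := 2) hp (mem_zpowers _), rfl⟩
  have htCy : t ∈ Cy := (hZR t).2 ⟨htR0, fun r hr => hHt r (hRH hr)⟩
  have ht1 : t ≠ 1 := fun h => by rw [h, orderOf_one] at ht; norm_num at ht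
  have htI : zpowers t = Cy ⊓ E := by
    refine Subgroup.eq_of_le_of_card_ge (zpowers_le.2 ?_) (by rw [hI2, Nat.card_zpowers, ht])
    obtain ⟨x, hx, hx1⟩ := (nontrivial_iff_exists_ne_one _).1
      (Finite.one_lt_card_iff_nontrivial.1 (by rw [hI2]; norm_num : 1 < Nat.card (Cy ⊓ E : Subgroup G)))
    have h2 : x * x = 1 := by
      have := pow_card_eq_one' (x := (⟨x, hx⟩ : (Cy ⊓ E : Subgroup G)))
      rw [hI2, pow_two] at this
      exact congrArg Subtype.val this
    rw [(hCyinv t htCy ht2).resolve_left ht1, ← (hCyinv x hx.1 h2).resolve_left hx1]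
    exact hx
  have hsqE : ∀ e ∈ E, e * e ∈ Cy ⊓ E := by
    intro e he
    rw [hmeet, hZE]
    refine ⟨⟨e * e, mul_mem he he⟩, mem_center_iff.2 fun f => ?_, rfl⟩
    have hc : ⁅(⟨e, he⟩ : E), f⁆ ∈ center E := by
      rw [← hEex.1.2.2]; exact commutator_mem_commutator (mem_top _) (mem_top _)
    have hz : ⁅(⟨e, he⟩ : E), f⁆ * ⁅(⟨e, he⟩ : E), f⁆ = 1 := by
      have := pow_card_eq_one' (x := (⟨_, hc⟩ : center E))
      rw [hEex.2, pow_two] at this
      exact congrArg Subtype.val this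
    have := mem_center_iff.1 hc (⟨e, he⟩ : E)
    refine (commutatorElement_eq_one_iff_mul_comm.1 ?_).symm
    calc ⁅(⟨e * e, mul_mem he he⟩ : E), f⁆
        = ⟨e, he⟩ * ⁅(⟨e, he⟩ : E), f⁆ * ⟨e, he⟩⁻¹ * ⁅(⟨e, he⟩ : E), f⁆ := by
          rw [show (⟨e * e, mul_mem he he⟩ : E) = ⟨e, he⟩ * ⟨e, he⟩ from rfl]
          simp only [commutatorElement_def]; group
      _ = 1 := by rw [this, mul_inv_cancel_right, hz]
  have hcomI : ∀ r ∈ R, ∀ s ∈ R, ⁅r, s⁆ ∈ Cy ⊓ E := by
    intro r hr s hs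
    obtain ⟨c, hc, e, he, rfl⟩ := hdec r hr
    obtain ⟨d, hd, f, hf, rfl⟩ := hdec s hs
    have : ⁅c * e, d * f⁆ = ⁅e, f⁆ := by
      have h1 := hcomm c hc _ (mul_mem (mul_mem (hEle he) (mul_mem (hCyle hd).1 (hEle hf))) (inv_mem (hEle he)))
      have h2 : e * d = d * e := hcomm d hd e (hEle he)
      simp only [commutatorElement_def]
      rw [show c * e * (d * f) * (c * e)⁻¹ * (d * f)⁻¹ = c * (e * (d * f) * e⁻¹) * c⁻¹ * f⁻¹ * d⁻¹ by group,
        ← h1, mul_inv_cancel_right, show e * (d * f) * e⁻¹ = (e * d) * (f * e⁻¹) by group, h2,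
        show d * e * (f * e⁻¹) * f⁻¹ * d⁻¹ = d * (e * f * e⁻¹ * f⁻¹) * d⁻¹ by group,
        ← hcomm d hd _ (mul_mem (mul_mem (mul_mem (hEle he) (hEle hf)) (inv_mem (hEle he))) (inv_mem (hEle hf))),
        mul_inv_cancel_right]
    rw [this, hmeet, hZE]
    refine ⟨⁅(⟨e, he⟩ : E), ⟨f, hf⟩⁆, ?_, rfl⟩
    rw [← hEex.1.2.2]; exact commutator_mem_commutator (mem_top _) (mem_top _)
  have hct : Nat.card (zpowers t) = 2 := by rw [Nat.card_zpowers, ht]
  have htR : t ∈ R := hEle (htI.le (mem_zpowers t)).2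
  have hmem_t : ∀ x ∈ zpowers t, x = 1 ∨ x = t := fun x hx => by
    obtain ⟨k, rfl⟩ := mem_zpowers_iff.1 hx
    rcases Int.emod_two_eq_zero_or_one k with e | e <;>
      rw [← zpow_mod_orderOf, ht, Nat.cast_ofNat, e] <;> simp
  have hsq : ∀ r ∈ R, r * r = 1 ∨ r * r = t := by
    intro r hr
    obtain ⟨c, hc, e, he, rfl⟩ := hdec r hr
    refine hmem_t _ ?_
    rw [show c * e * (c * e) = c * c * (e * e) by
      rw [mul_assoc c e, ← mul_assoc e c, hcomm c hc e (hEle he)]; group]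
    refine mul_mem ?_ (htI.symm.le (hsqE e he))
    obtain ⟨k, hk⟩ := hgen ⟨c, hc⟩
    have hk' : c0 ^ k = c := congrArg Subtype.val hk
    rw [htI]
    have hc2 : c0 ^ 2 ∈ Cy ⊓ E := by
      obtain ⟨x, hx, hx1⟩ := (nontrivial_iff_exists_ne_one _).1
        (Finite.one_lt_card_iff_nontrivial.1 (by rw [hI2]; norm_num : 1 < Nat.card (Cy ⊓ E : Subgroup G)))
      have := pow_card_eq_one' (x := (⟨x, hx⟩ : (Cy ⊓ E : Subgroup G)))
      rw [hI2, pow_two] at this
      rcases hCyinv x hx.1 (congrArg Subtype.val this) with e | e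
      · exact absurd e hx1
      · rw [← e]; exact hx
    rw [← hk', ← zpow_add, show k + k = ((2 : ℕ) : ℤ) * k by push_cast; ring, zpow_mul, zpow_natCast]
    exact zpow_mem hc2 k
  have hRcard : Nat.card R = 64 := by
    rw [← hprod, card_sup hCyE, hCycard, hEcard, hI2]
  have hcomt : ∀ r ∈ R, ∀ s ∈ R, ⁅r, s⁆ ∈ zpowers t := fun r hr s hs => htI.symm.le (hcomI r hr s hs)
  have habel : ∀ B : Subgroup G, B ≤ R → (∀ x ∈ B, ∀ y ∈ B, x * y = y * x) → Nat.card B ≤ 16 := by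
    exact fun B hB hBc => abelian_bound (Z := Cy) hB hBc hcomt (htI.le.trans inf_le_left) (hCyle.trans inf_le_left)
      hZR hRcard hCycard hct
  have htV : t ∈ V := by
    by_contra hnot
    have hle : V ⊔ Cy ≤ R := sup_le hVR (hCyle.trans inf_le_left)
    have hn : Cy ≤ normalizer (V : Set G) := fun c hc => mem_normalizer_iff.2 fun v => ⟨fun hv => by
      rw [← hcomm c hc v (hVR hv), mul_inv_cancel_right]; exact hv, fun hv => by
      have h := hcomm c hc _ (hVR hv)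
      rw [show c * v * c⁻¹ * c = c * v by group] at h
      rwa [← mul_left_cancel h] at hv⟩
    have hbot : V ⊓ Cy = ⊥ := (eq_bot_iff_forall _).2 fun x hx => by
      obtain ⟨hx1, hx2⟩ := hx
      rcases hCyinv x hx2 (by rw [← pow_two]; exact hVexp x hx1) with h | h
      · exact h
      · exact absurd (by rw [(hCyinv t htCy ht2).resolve_left ht1, ← h]; exact hx1) hnot
    have hb := habel (V ⊔ Cy) hle (by
      have h1 : V ⊔ Cy ≤ centralizer (V : Set G) := sup_le
        (fun x hx => mem_centralizer_iff.2 fun y hy =>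
          congrArg Subtype.val (mul_comm' (⟨y, hy⟩ : V) ⟨x, hx⟩))
        fun c hc => mem_centralizer_iff.2 fun y hy => hcomm c hc y (hVR hy)
      intro x hx y hy
      have h2 : V ⊔ Cy ≤ centralizer ({x} : Set G) := sup_le
        (fun y hy => mem_centralizer_singleton_iff.2 (mem_centralizer_iff.1 (h1 hx) y hy))
        fun c hc => mem_centralizer_singleton_iff.2 (hcomm c hc x (hle hx)).symm
      exact (mem_centralizer_singleton_iff.1 (h2 hy)).symm)
    rw [card_sup hn, hVcard, hCycard, hbot, card_bot] at hb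
    omega
  -- the two-local subgroup
  have hVM : V ≤ M := hM ▸ le_normalizer
  have hAmem : ∀ x : M, (x : G) ∈ A ↔ x ∈ Cfsg.pCore 2 M := fun x =>
    ⟨fun ⟨y, hy, e⟩ => (Subtype.ext e : y = x) ▸ hy, fun h => ⟨x, h, rfl⟩⟩
  have hAc : Nat.card A = 64 := by
    rw [hA, card_map_of_injective M.subtype_injective, Nat.card_congr eOM.toEquiv]
    simp [Nat.card_eq_fintype_card]
  have hVA : V ≤ A := by
    haveI : (V.subgroupOf M).Normal :=
      (normal_subgroupOf_iff_le_normalizer hVM).2 hM.le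
    have hp : IsPGroup 2 (V.subgroupOf M) := IsPGroup.comap_of_injective (IsPGroup.of_card (n := 3) hVcard) _
      M.subtype_injective
    intro v hv
    exact (hAmem ⟨v, hVM hv⟩).2 (CfsgLib.Core.le_pCore (p := 2) (N := V.subgroupOf M) hp hv)
  have hAcomm : ∀ x ∈ A, ∀ y ∈ A, x * y = y * x := by
    rintro _ ⟨x, hx, rfl⟩ _ ⟨y, hy, rfl⟩
    have : eOM (⟨x, hx⟩ * ⟨y, hy⟩) = eOM (⟨y, hy⟩ * ⟨x, hx⟩) := by rw [map_mul, map_mul, mul_comm]
    exact congrArg M.subtype (congrArg Subtype.val (eOM.injective this))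
  have hA4 : ∀ x ∈ A, x ^ 4 = 1 := by
    rintro _ ⟨x, hx, rfl⟩
    have h4 : ∀ m : Multiplicative (ZMod 4 × ZMod 4 × ZMod 4), m * m * (m * m) = 1 := by decide +kernel
    have : (⟨x, hx⟩ : Cfsg.pCore 2 M) ^ 4 = 1 := eOM.injective (by
      rw [map_pow, map_one, pow_succ, pow_succ, pow_succ, pow_one, mul_assoc]; exact h4 _)
    exact congrArg (fun y : Cfsg.pCore 2 M => ((y : M) : G)) this
  have hV : ∀ x, x ∈ V ↔ x ∈ A ∧ x * x = 1 := by
    let S : Set G := {x | x ∈ A ∧ x * x = 1}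
    have hVS : (V : Set G) ⊆ S := fun v hv => ⟨hVA hv, by rw [← pow_two]; exact hVexp v hv⟩
    have hS : S.ncard ≤ 8 := by
      rw [← four_facts, ← Nat.card_coe_set_eq]
      refine Nat.card_le_card_of_injective (fun s : S => (⟨eOM ⟨⟨s.1, map_subtype_le _ s.2.1⟩,
        (hAmem _).1 s.2.1⟩, by rw [← map_mul, ← map_one eOM]; congr 1; exact Subtype.ext (Subtype.ext s.2.2)⟩ :
          {m : Multiplicative (ZMod 4 × ZMod 4 × ZMod 4) // m * m = 1})) fun s s' h => ?_
      exact Subtype.ext (congrArg (fun y : Cfsg.pCore 2 M => ((y : M) : G)) (eOM.injective (congrArg Subtype.val h)))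
    have := Set.eq_of_subset_of_ncard_le hVS (by rw [← Nat.card_coe_set_eq (V : Set G)]; exact hS.trans hVcard.ge)
    exact fun x => Set.ext_iff.1 this x
  have hMc : Nat.card M = 10752 := by
    rw [Subgroup.card_eq_card_quotient_mul_card_subgroup (Cfsg.pCore 2 M), Nat.card_congr eM.toEquiv, card_GL32,
      Nat.card_congr eOM.toEquiv]
    simp [Nat.card_eq_fintype_card]
  have hHc : Nat.card H = 7680 := by
    rw [Subgroup.card_eq_card_quotient_mul_card_subgroup (Cfsg.pCore 2 H), Nat.card_congr eH.toEquiv,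
      ← Subgroup.card_map_of_injective (K := Cfsg.pCore 2 H) H.subtype_injective, ← hR, hRcard]
    simp [Nat.card_eq_fintype_card, Fintype.card_perm]
    rfl
  have hRM : R ≤ M := by
    intro r hr
    rw [hM]
    have key : ∀ r ∈ R, ∀ v ∈ V, r * v * r⁻¹ ∈ V := fun r hr v hv => by
      rw [show r * v * r⁻¹ = ⁅r, v⁆ * v by simp [commutatorElement_def]]
      exact mul_mem (zpowers_le.2 htV (hcomt r hr v (hVR hv))) hv
    refine mem_normalizer_iff.2 fun v => ⟨key r hr v, fun hv => ?_⟩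
    have := key r⁻¹ (inv_mem hr) _ hv
    rwa [show r⁻¹ * (r * v * r⁻¹) * r⁻¹⁻¹ = v by group] at this
  refine ⟨fun h => by rw [h, orderOf_one] at ht; norm_num at ht, ht2, hH ▸ hRH, hH ▸ hRc, hRcard, htR, hsq, habel,
    hH ▸ hHc, ?_, hAcomm, hA4, hAc, hV, hVcard, htV, hVR, hM, map_subtype_le _, ?_, hMc, ?_, hRM⟩
  · subst hH
    refine ⟨eH.toMonoidHom.comp (QuotientGroup.mk' _), eH.surjective.comp (QuotientGroup.mk'_surjective _),
      fun g => ?_⟩
    rw [MonoidHom.comp_apply, MulEquiv.coe_toMonoidHom, MulEquiv.map_eq_one_iff, QuotientGroup.mk'_apply,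
      QuotientGroup.eq_one_iff, hR]
    exact ⟨fun h => ⟨g, h, rfl⟩, fun ⟨y, hy, e⟩ => (Subtype.ext e : y = g) ▸ hy⟩
  · rintro g hg _ ⟨x, hx, rfl⟩
    exact ⟨⟨g, hg⟩ * x * ⟨g, hg⟩⁻¹, Normal.conj_mem inferInstance _ hx _, rfl⟩
  · -- the kernel of the action on V is A, as M/A is simple and M does not centralise t
    intro g hg hfix
    let N : Subgroup M := (centralizer (V : Set G)).subgroupOf M
    haveI : N.Normal := ⟨fun n hn g => by
      rw [mem_subgroupOf] at hn ⊢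
      refine mem_centralizer_iff.2 fun v hv => ?_
      have hv' : (g : G)⁻¹ * v * g ∈ V := by
        have := (mem_normalizer_iff.1 (hM.le (inv_mem g.2)) v).1 hv
        rwa [inv_inv] at this
      have h := mem_centralizer_iff.1 hn _ hv'
      simp only [coe_mul, coe_inv]
      calc v * ((g : G) * n * (g : G)⁻¹) = g * ((g : G)⁻¹ * v * g * n) * (g : G)⁻¹ := by group
        _ = g * (n * ((g : G)⁻¹ * v * g)) * (g : G)⁻¹ := by rw [h]
        _ = g * n * (g : G)⁻¹ * v := by group⟩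
    have hgN : (⟨g, hg⟩ : M) ∈ N := mem_subgroupOf.2 (mem_centralizer_iff.2 fun v hv =>
      (mul_inv_eq_iff_eq_mul.1 (hfix v hv)).symm)
    obtain ⟨eG⟩ := CfsgLib.RankFourQuotient.nonempty_gl_three_two
    haveI := CfsgLib.Classical.isSimpleGroup_PSL (F := ZMod 2) (n := 3) le_rfl
    haveI : IsSimpleGroup (M ⧸ Cfsg.pCore 2 M) := (eM.trans eG).isSimpleGroup
    rcases IsSimpleGroup.eq_bot_or_eq_top_of_normal (N.map (QuotientGroup.mk' (Cfsg.pCore 2 M)))
      (Normal.map inferInstance _ (QuotientGroup.mk'_surjective _)) with h | h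
    · refine (hAmem ⟨g, hg⟩).2 ((QuotientGroup.eq_one_iff _).1 ?_)
      have := mem_map_of_mem (QuotientGroup.mk' (Cfsg.pCore 2 M)) hgN
      rwa [h, mem_bot] at this
    · exfalso
      have hMH : M ≤ H := fun m hm => by
        obtain ⟨n, hn, e⟩ := (mem_map.1 (h.ge (mem_top (QuotientGroup.mk' (Cfsg.pCore 2 M) ⟨m, hm⟩))))
        have ha : (n : G)⁻¹ * m ∈ A := (hAmem (n⁻¹ * ⟨m, hm⟩)).2 (QuotientGroup.eq.1
          (show ((n : M) : M ⧸ Cfsg.pCore 2 M) = ((⟨m, hm⟩ : M) : M ⧸ Cfsg.pCore 2 M) from e))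
        rw [show m = (n : G) * ((n : G)⁻¹ * m) by group, hH]
        refine mul_mem (centralizer_le (Set.singleton_subset_iff.2 htV) (mem_subgroupOf.1 hn)) ?_
        exact mem_centralizer_singleton_iff.2 (hAcomm _ ha t (hVA htV))
      have := Subgroup.card_dvd_of_le hMH
      rw [hMc, hHc] at this
      norm_num at this

end CfsgLib.Recog.HsTwoLocal
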