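import Cfsg.Agent.Lib.Recog.HsTwoLocal.Basics
import Mathlib.Tactic.Group

/-!
# Coordinates on `V` and on `4^3` (owner: helper28)
-/

set_option autoImplicit false

namespace CfsgLib.Recog.HsTwoLocal

open Subgroup

variable {G : Type*} [Group G]

theorem pow_eq_pow_mod_of {x : G} {m : ℕ} (h : x ^ m = 1) (n : ℕ) : x ^ n = x ^ (n % m) :=
  pow_eq_pow_mod n h

theorem conj_pow' (g x : G) (n : ℕ) : g * x ^ n * g⁻¹ = (g * x * g⁻¹) ^ n := conj_pow.symm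

/-! ### the three-dimensional space over two elements -/

/-- The product of a code below eight in three commuting involutions. -/
def vv (v₁ v₂ v₃ : G) (n : ℕ) : G := v₁ ^ (n % 2) * v₂ ^ (n / 2 % 2) * v₃ ^ (n / 4 % 2)

/-- A linear map on codes below eight from the images of `1, 2, 4`. -/
def lin2 (m₁ m₂ m₃ n : ℕ) : ℕ :=
  (if n % 2 = 1 then m₁ else 0) ^^^ (if n / 2 % 2 = 1 then m₂ else 0) ^^^ (if n / 4 % 2 = 1 then m₃ else 0)

theorem xor_bits : ∀ n < 8, ∀ m < 8, n ^^^ m < 8 ∧ (n % 2 + m % 2) % 2 = (n ^^^ m) % 2 ∧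
    (n / 2 % 2 + m / 2 % 2) % 2 = (n ^^^ m) / 2 % 2 ∧ (n / 4 % 2 + m / 4 % 2) % 2 = (n ^^^ m) / 4 % 2 := by
  decide +kernel

variable {t : G} {R M A V : Subgroup G}

theorem Ctx.conj_V (K : Ctx t R M A V) {g v : G} (hg : g ∈ M) (hv : v ∈ V) : g * v * g⁻¹ ∈ V :=
  (mem_normalizer_iff.1 (K.M_eq.le hg) v).1 hv

theorem Ctx.V_le (K : Ctx t R M A V) : V ≤ A := fun v hv => ((K.mem_V v).1 hv).1

/-- An ordered basis of `V`. -/
structure VBasis (V : Subgroup G) (v₁ v₂ v₃ : G) : Prop where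
  mem₁ : v₁ ∈ V
  mem₂ : v₂ ∈ V
  mem₃ : v₃ ∈ V
  ne₁ : v₁ ≠ 1
  ne₂ : v₂ ≠ 1
  ne₁₂ : v₂ ≠ v₁
  ne₃ : v₃ ≠ 1 ∧ v₃ ≠ v₁ ∧ v₃ ≠ v₂ ∧ v₃ ≠ v₁ * v₂

variable {v₁ v₂ v₃ : G}

theorem VBasis.vv_mem (B : VBasis V v₁ v₂ v₃) (n : ℕ) : vv v₁ v₂ v₃ n ∈ V :=
  mul_mem (mul_mem (pow_mem B.mem₁ _) (pow_mem B.mem₂ _)) (pow_mem B.mem₃ _)

theorem VBasis.vv_mul (B : VBasis V v₁ v₂ v₃) (K : Ctx t R M A V) {n m : ℕ} (hn : n < 8) (hm : m < 8) :
    vv v₁ v₂ v₃ n * vv v₁ v₂ v₃ m = vv v₁ v₂ v₃ (n ^^^ m) := by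
  obtain ⟨-, e1, e2, e3⟩ := xor_bits n hn m hm
  have hc : ∀ x ∈ V, ∀ y ∈ V, x * y = y * x := fun x hx y hy => K.A_comm x (K.V_le hx) y (K.V_le hy)
  have h2 : ∀ x ∈ V, x ^ 2 = 1 := fun x hx => by rw [pow_two]; exact ((K.mem_V x).1 hx).2
  simp only [vv]
  rw [← e1, ← e2, ← e3, ← pow_eq_pow_mod (n % 2 + m % 2) (h2 _ B.mem₁),
    ← pow_eq_pow_mod (n / 2 % 2 + m / 2 % 2) (h2 _ B.mem₂),
    ← pow_eq_pow_mod (n / 4 % 2 + m / 4 % 2) (h2 _ B.mem₃), pow_add, pow_add, pow_add]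
  have p := fun (x : G) (hx : x ∈ V) (k : ℕ) => pow_mem hx k
  calc v₁ ^ (n % 2) * v₂ ^ (n / 2 % 2) * v₃ ^ (n / 4 % 2) *
        (v₁ ^ (m % 2) * v₂ ^ (m / 2 % 2) * v₃ ^ (m / 4 % 2))
      = v₁ ^ (n % 2) * ((v₂ ^ (n / 2 % 2) * v₃ ^ (n / 4 % 2)) * v₁ ^ (m % 2)) * v₂ ^ (m / 2 % 2) *
          v₃ ^ (m / 4 % 2) := by group
    _ = v₁ ^ (n % 2) * v₁ ^ (m % 2) * (v₂ ^ (n / 2 % 2) * (v₃ ^ (n / 4 % 2) * v₂ ^ (m / 2 % 2))) *
          v₃ ^ (m / 4 % 2) := by rw [hc _ (mul_mem (p _ B.mem₂ _) (p _ B.mem₃ _)) _ (p _ B.mem₁ _)]; group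
    _ = _ := by rw [hc _ (p _ B.mem₃ _) _ (p _ B.mem₂ _)]; group

theorem VBasis.vv_one (B : VBasis V v₁ v₂ v₃) (K : Ctx t R M A V) {n : ℕ} (hn : n < 8)
    (h : vv v₁ v₂ v₃ n = 1) : n = 0 := by
  have hinv : ∀ x ∈ V, x⁻¹ = x := fun x hx => inv_eq_of_mul_eq_one_right ((K.mem_V x).1 hx).2
  obtain ⟨h3, h31, h32, h312⟩ := B.ne₃
  interval_cases n <;> simp [vv] at h ⊢
  · exact B.ne₁ h
  · exact B.ne₂ h
  · exact B.ne₁₂ (by rw [eq_inv_of_mul_eq_one_right h, hinv _ B.mem₁])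
  · exact h3 h
  · exact h31 (by rw [eq_inv_of_mul_eq_one_right h, hinv _ B.mem₁])
  · exact h32 (by rw [eq_inv_of_mul_eq_one_right h, hinv _ B.mem₂])
  · exact h312 (by rw [eq_inv_of_mul_eq_one_right h, hinv _ (mul_mem B.mem₁ B.mem₂)])

theorem VBasis.vv_inj (B : VBasis V v₁ v₂ v₃) (K : Ctx t R M A V) :
    ∀ n < 8, ∀ m < 8, vv v₁ v₂ v₃ n = vv v₁ v₂ v₃ m → n = m := by
  intro n hn m hm h
  have := B.vv_one K (xor_bits n hn m hm).1 (by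
    rw [← B.vv_mul K hn hm, h, ((K.mem_V _).1 (B.vv_mem m)).2])
  exact Nat.xor_eq_zero_iff.1 this

theorem VBasis.surj [Finite G] (B : VBasis V v₁ v₂ v₃) (K : Ctx t R M A V) {v : G} (hv : v ∈ V) :
    ∃ n < 8, v = vv v₁ v₂ v₃ n := by
  classical
  have h1 : (vv v₁ v₂ v₃ '' Set.Iio 8) = (V : Set G) := by
    refine Set.eq_of_subset_of_ncard_le ?_ ?_ (Set.toFinite _)
    · rintro _ ⟨n, -, rfl⟩; exact B.vv_mem n
    · have hi : Set.InjOn (vv v₁ v₂ v₃) (Set.Iio 8) := fun n hn m hm e => B.vv_inj K n hn m hm e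
      rw [hi.ncard_image, ← Nat.card_coe_set_eq]
      show Nat.card V ≤ _
      rw [K.card_V, ← Nat.card_coe_set_eq, Nat.card_eq_fintype_card]
      simp
  obtain ⟨n, hn, e⟩ := h1.ge hv
  exact ⟨n, hn, e.symm⟩

theorem VBasis.conj (B : VBasis V v₁ v₂ v₃) (K : Ctx t R M A V) {g : G} {m₁ m₂ m₃ : ℕ} (h₁ : m₁ < 8)
    (h₂ : m₂ < 8) (h₃ : m₃ < 8) (e₁ : g * v₁ * g⁻¹ = vv v₁ v₂ v₃ m₁) (e₂ : g * v₂ * g⁻¹ = vv v₁ v₂ v₃ m₂)
    (e₃ : g * v₃ * g⁻¹ = vv v₁ v₂ v₃ m₃) {n : ℕ} (hn : n < 8) :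
    g * vv v₁ v₂ v₃ n * g⁻¹ = vv v₁ v₂ v₃ (lin2 m₁ m₂ m₃ n) := by
  have h0 : vv v₁ v₂ v₃ 0 = 1 := by simp [vv]
  have hp : ∀ m < 8, ∀ i < 2, vv v₁ v₂ v₃ m ^ i = vv v₁ v₂ v₃ (if i = 1 then m else 0) := by
    intro m _ i hi
    interval_cases i <;> simp [h0]
  have hs : ∀ (c : Prop) [Decidable c] (m : ℕ), m < 8 → (if c then m else 0) < 8 := fun c _ m hm => by
    split_ifs <;> omega
  conv_lhs => rw [vv]
  rw [show g * (v₁ ^ (n % 2) * v₂ ^ (n / 2 % 2) * v₃ ^ (n / 4 % 2)) * g⁻¹ =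
      (g * v₁ ^ (n % 2) * g⁻¹) * (g * v₂ ^ (n / 2 % 2) * g⁻¹) * (g * v₃ ^ (n / 4 % 2) * g⁻¹) by group,
    conj_pow', conj_pow', conj_pow', e₁, e₂, e₃, hp _ h₁ _ (Nat.mod_lt _ (by norm_num)),
    hp _ h₂ _ (Nat.mod_lt _ (by norm_num)), hp _ h₃ _ (Nat.mod_lt _ (by norm_num)),
    B.vv_mul K (hs _ _ h₁) (hs _ _ h₂), B.vv_mul K (xor_bits _ (hs _ _ h₁) _ (hs _ _ h₂)).1 (hs _ _ h₃)]
  rfl

theorem VBasis.mem_A (B : VBasis V v₁ v₂ v₃) [Finite G] (K : Ctx t R M A V) {g : G} (hg : g ∈ M)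
    (e₁ : g * v₁ * g⁻¹ = v₁) (e₂ : g * v₂ * g⁻¹ = v₂) (e₃ : g * v₃ * g⁻¹ = v₃) : g ∈ A := by
  refine K.fixed g hg fun v hv => ?_
  obtain ⟨n, -, rfl⟩ := B.surj K hv
  rw [vv, show g * (v₁ ^ (n % 2) * v₂ ^ (n / 2 % 2) * v₃ ^ (n / 4 % 2)) * g⁻¹ =
      (g * v₁ ^ (n % 2) * g⁻¹) * (g * v₂ ^ (n / 2 % 2) * g⁻¹) * (g * v₃ ^ (n / 4 % 2) * g⁻¹) by group,
    conj_pow', conj_pow', conj_pow', e₁, e₂, e₃]

/-- Valid triples of images. -/
def goodTriples : Finset (Fin 8 × Fin 8 × Fin 8) :=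
  Finset.univ.filter fun p => p.1.1 ≠ 0 ∧ p.2.1.1 ≠ 0 ∧ p.2.1 ≠ p.1 ∧ p.2.2.1 ≠ 0 ∧ p.2.2 ≠ p.1 ∧
    p.2.2 ≠ p.2.1 ∧ p.2.2.1 ≠ p.1.1 ^^^ p.2.1.1

theorem card_goodTriples : goodTriples.card = 168 := by decide +kernel

/-- Every linear map of `V` is induced by conjugation in `N(V)`. -/
theorem VBasis.inducing [Finite G] (B : VBasis V v₁ v₂ v₃) (K : Ctx t R M A V) {m₁ m₂ m₃ : ℕ} (h₁ : m₁ < 8)
    (h₂ : m₂ < 8) (h₃ : m₃ < 8) (hv : (⟨m₁, h₁⟩, ⟨m₂, h₂⟩, ⟨m₃, h₃⟩) ∈ goodTriples) :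
    ∃ g ∈ M, g * v₁ * g⁻¹ = vv v₁ v₂ v₃ m₁ ∧ g * v₂ * g⁻¹ = vv v₁ v₂ v₃ m₂ ∧ g * v₃ * g⁻¹ = vv v₁ v₂ v₃ m₃ := by
  classical
  have hex : ∀ (g : M) (v : G), v ∈ V → ∃ n : Fin 8, (g : G) * v * (g : G)⁻¹ = vv v₁ v₂ v₃ n := fun g v hv => by
    obtain ⟨n, hn, e⟩ := B.surj K (K.conj_V g.2 hv)
    exact ⟨⟨n, hn⟩, e⟩
  choose im him using hex
  let F : M → Fin 8 × Fin 8 × Fin 8 := fun g => (im g v₁ B.mem₁, im g v₂ B.mem₂, im g v₃ B.mem₃)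
  haveI := Fintype.ofFinite M
  have himg : ∀ g, F g ∈ goodTriples := by
    intro g
    have hne : ∀ (u : G) (hu : u ∈ V), u ≠ 1 → ((im g u hu : ℕ) ≠ 0) := fun u hu h1 h0 => by
      have := him g u hu
      rw [h0, show vv v₁ v₂ v₃ 0 = 1 by simp [vv], conj_eq_one_iff] at this
      exact h1 this
    have hinj : ∀ (u w : G) (hu : u ∈ V) (hw : w ∈ V), u ≠ w → im g u hu ≠ im g w hw := fun u w hu hw h e => by
      have h1 := him g u hu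
      rw [e, ← him g w hw] at h1
      exact h (mul_left_cancel (mul_right_cancel h1))
    obtain ⟨h3, h31, h32, h312⟩ := B.ne₃
    refine Finset.mem_filter.2 ⟨Finset.mem_univ _, hne _ _ B.ne₁, hne _ _ B.ne₂, hinj _ _ _ _ B.ne₁₂,
      hne _ _ h3, hinj _ _ _ _ h31, hinj _ _ _ _ h32, fun e => ?_⟩
    have h := him g v₃ B.mem₃
    rw [show ((im g v₃ B.mem₃ : Fin 8) : ℕ) = _ from e, ← B.vv_mul K (im g v₁ B.mem₁).2 (im g v₂ B.mem₂).2,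
      ← him g v₁ B.mem₁, ← him g v₂ B.mem₂] at h
    exact h312 (mul_left_cancel (a := (g : G)) (mul_right_cancel (b := (g : G)⁻¹) (h.trans (by group))))
  have hfib : ∀ p ∈ Finset.univ.image F, (Finset.univ.filter fun g => F g = p).card ≤ 64 := by
    intro p hp
    obtain ⟨g₀, -, rfl⟩ := Finset.mem_image.1 hp
    rw [← K.card_A, ← Nat.card_eq_finsetCard]
    refine Nat.card_le_card_of_injective (fun g => (⟨(g₀ : G)⁻¹ * (g.1 : G), ?_⟩ : A)) ?_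
    · have e := (Finset.mem_filter.1 g.2).2
      have key : ∀ (u : G) (hu : u ∈ V), im g.1 u hu = im g₀ u hu →
          (g₀ : G)⁻¹ * (g.1 : G) * u * ((g₀ : G)⁻¹ * (g.1 : G))⁻¹ = u := fun u hu h => by
        rw [show (g₀ : G)⁻¹ * (g.1 : G) * u * ((g₀ : G)⁻¹ * (g.1 : G))⁻¹ =
            (g₀ : G)⁻¹ * ((g.1 : G) * u * (g.1 : G)⁻¹) * (g₀ : G) by group, him g.1 u hu, h, ← him g₀ u hu]
        group
      simp only [F, Prod.mk.injEq] at e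
      exact B.mem_A K (mul_mem (inv_mem g₀.2) g.1.2) (key _ _ e.1) (key _ _ e.2.1) (key _ _ e.2.2)
    · exact fun g g' h => Subtype.ext (Subtype.ext (mul_left_cancel (congrArg Subtype.val h)))
  have hcount := Finset.card_le_mul_card_image (Finset.univ : Finset M) 64 hfib
  rw [Finset.card_univ, ← Nat.card_eq_fintype_card, K.card_M] at hcount
  have hsub : Finset.univ.image F ⊆ goodTriples := fun p hp => by
    obtain ⟨g, -, rfl⟩ := Finset.mem_image.1 hp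
    exact himg g
  have heq := Finset.eq_of_subset_of_card_le hsub (by rw [card_goodTriples]; omega)
  obtain ⟨g, -, e⟩ := Finset.mem_image.1 (heq.ge hv)
  simp only [F, Prod.mk.injEq] at e
  exact ⟨g, g.2, by rw [him g v₁ B.mem₁, e.1], by rw [him g v₂ B.mem₂, e.2.1], by rw [him g v₃ B.mem₃, e.2.2]⟩

/-! ### the module over four residues -/

/-- The product of a code below 64 in three commuting elements of exponent four. -/
def vel (a b c : G) (n : ℕ) : G := a ^ (n % 4) * b ^ (n / 4 % 4) * c ^ (n / 16 % 4)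

/-- Addition of codes. -/
def vadd (n m : ℕ) : ℕ :=
  (n % 4 + m % 4) % 4 + 4 * ((n / 4 % 4 + m / 4 % 4) % 4) + 16 * ((n / 16 % 4 + m / 16 % 4) % 4)

/-- A multiple of a code. -/
def vsmul (k n : ℕ) : ℕ :=
  k * (n % 4) % 4 + 4 * (k * (n / 4 % 4) % 4) + 16 * (k * (n / 16 % 4) % 4)

/-- A linear map from the images of the basis. -/
def vlin (p q r n : ℕ) : ℕ := vadd (vadd (vsmul (n % 4) p) (vsmul (n / 4 % 4) q)) (vsmul (n / 16 % 4) r)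

theorem digits {p q r : ℕ} (hp : p < 4) (hq : q < 4) (hr : r < 4) :
    (p + 4 * q + 16 * r) % 4 = p ∧ (p + 4 * q + 16 * r) / 4 % 4 = q ∧ (p + 4 * q + 16 * r) / 16 % 4 = r := by
  interval_cases p <;> interval_cases q <;> interval_cases r <;> decide

theorem vadd_digits (n m : ℕ) : vadd n m % 4 = (n % 4 + m % 4) % 4 ∧
    vadd n m / 4 % 4 = (n / 4 % 4 + m / 4 % 4) % 4 ∧ vadd n m / 16 % 4 = (n / 16 % 4 + m / 16 % 4) % 4 :=
  digits (Nat.mod_lt _ (by norm_num)) (Nat.mod_lt _ (by norm_num)) (Nat.mod_lt _ (by norm_num))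

theorem vsmul_digits (k n : ℕ) : vsmul k n % 4 = k * (n % 4) % 4 ∧
    vsmul k n / 4 % 4 = k * (n / 4 % 4) % 4 ∧ vsmul k n / 16 % 4 = k * (n / 16 % 4) % 4 :=
  digits (Nat.mod_lt _ (by norm_num)) (Nat.mod_lt _ (by norm_num)) (Nat.mod_lt _ (by norm_num))

theorem bits {p q r : ℕ} (hp : p < 2) (hq : q < 2) (hr : r < 2) :
    (p + 2 * q + 4 * r) % 2 = p ∧ (p + 2 * q + 4 * r) / 2 % 2 = q ∧ (p + 2 * q + 4 * r) / 4 % 2 = r := by
  interval_cases p <;> interval_cases q <;> interval_cases r <;> decide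

theorem neg_check : ∀ n < 64, ∀ m < 64, vadd n (vsmul 3 m) = 0 → n = m := by decide +kernel

theorem vadd_lt (n m : ℕ) : vadd n m < 64 := by unfold vadd; omega

theorem vsmul_lt (k n : ℕ) : vsmul k n < 64 := by unfold vsmul; omega

/-- An ordered basis of `4^3`, with the fourth powers trivial. -/
structure ABasis (A : Subgroup G) (a b c : G) : Prop where
  ma : a ∈ A
  mb : b ∈ A
  mc : c ∈ A

variable {a b c : G}

theorem ABasis.vel_mem (B : ABasis A a b c) (n : ℕ) : vel a b c n ∈ A :=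
  mul_mem (mul_mem (pow_mem B.ma _) (pow_mem B.mb _)) (pow_mem B.mc _)

theorem ABasis.vel_mul (B : ABasis A a b c) (K : Ctx t R M A V) (n m : ℕ) :
    vel a b c n * vel a b c m = vel a b c (vadd n m) := by
  obtain ⟨e1, e2, e3⟩ := vadd_digits n m
  simp only [vel]
  rw [e1, e2, e3, ← pow_eq_pow_mod (n % 4 + m % 4) (K.A_four _ B.ma),
    ← pow_eq_pow_mod (n / 4 % 4 + m / 4 % 4) (K.A_four _ B.mb),
    ← pow_eq_pow_mod (n / 16 % 4 + m / 16 % 4) (K.A_four _ B.mc), pow_add, pow_add, pow_add]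
  have hc := K.A_comm
  have p := fun (x : G) (hx : x ∈ A) (k : ℕ) => pow_mem hx k
  calc a ^ (n % 4) * b ^ (n / 4 % 4) * c ^ (n / 16 % 4) * (a ^ (m % 4) * b ^ (m / 4 % 4) * c ^ (m / 16 % 4))
      = a ^ (n % 4) * ((b ^ (n / 4 % 4) * c ^ (n / 16 % 4)) * a ^ (m % 4)) * b ^ (m / 4 % 4) *
          c ^ (m / 16 % 4) := by group
    _ = a ^ (n % 4) * a ^ (m % 4) * (b ^ (n / 4 % 4) * (c ^ (n / 16 % 4) * b ^ (m / 4 % 4))) *
          c ^ (m / 16 % 4) := by rw [hc _ (mul_mem (p _ B.mb _) (p _ B.mc _)) _ (p _ B.ma _)]; group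
    _ = _ := by rw [hc _ (p _ B.mc _) _ (p _ B.mb _)]; group

theorem ABasis.vel_pow (B : ABasis A a b c) (K : Ctx t R M A V) (k : ℕ) (n : ℕ) :
    vel a b c n ^ k = vel a b c (vsmul k n) := by
  induction k with
  | zero => simp [vel, vsmul]
  | succ k ih =>
    rw [pow_succ, ih, B.vel_mul K]
    congr 1
    obtain ⟨e1, e2, e3⟩ := vsmul_digits k n
    unfold vadd
    rw [e1, e2, e3, vsmul, add_one_mul, add_one_mul, add_one_mul]
    simp only [Nat.add_mod_mod, Nat.mod_add_mod]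

theorem ABasis.conj (B : ABasis A a b c) (K : Ctx t R M A V) {g : G} {p q r : ℕ}
    (ea : g * a * g⁻¹ = vel a b c p) (eb : g * b * g⁻¹ = vel a b c q) (ec : g * c * g⁻¹ = vel a b c r) (n : ℕ) :
    g * vel a b c n * g⁻¹ = vel a b c (vlin p q r n) := by
  conv_lhs => rw [vel]
  rw [show g * (a ^ (n % 4) * b ^ (n / 4 % 4) * c ^ (n / 16 % 4)) * g⁻¹ =
      (g * a ^ (n % 4) * g⁻¹) * (g * b ^ (n / 4 % 4) * g⁻¹) * (g * c ^ (n / 16 % 4) * g⁻¹) by group,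
    conj_pow', conj_pow', conj_pow', ea, eb, ec, B.vel_pow K, B.vel_pow K, B.vel_pow K, B.vel_mul K, B.vel_mul K]
  rfl

theorem ABasis.vel_sq (B : ABasis A a b c) (K : Ctx t R M A V) (n : ℕ) :
    vel a b c n * vel a b c n = vv (a * a) (b * b) (c * c) (n % 2 + 2 * (n / 4 % 2) + 4 * (n / 16 % 2)) := by
  rw [B.vel_mul K, vel, vv]
  obtain ⟨d1, d2, d3⟩ := vadd_digits n n
  have e1 : vadd n n % 4 = 2 * (n % 2) := by omega
  have e2 : vadd n n / 4 % 4 = 2 * (n / 4 % 2) := by omega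
  have e3 : vadd n n / 16 % 4 = 2 * (n / 16 % 2) := by omega
  rw [e1, e2, e3, pow_mul, pow_mul, pow_mul, pow_two, pow_two, pow_two,
    (bits (Nat.mod_lt n (by norm_num)) (Nat.mod_lt (n / 4) (by norm_num)) (Nat.mod_lt (n / 16) (by norm_num))).1,
    (bits (Nat.mod_lt n (by norm_num)) (Nat.mod_lt (n / 4) (by norm_num)) (Nat.mod_lt (n / 16) (by norm_num))).2.1,
    (bits (Nat.mod_lt n (by norm_num)) (Nat.mod_lt (n / 4) (by norm_num)) (Nat.mod_lt (n / 16) (by norm_num))).2.2]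

theorem ABasis.vel_one (B : ABasis A a b c) (K : Ctx t R M A V) (hV : VBasis V (a * a) (b * b) (c * c))
    {n : ℕ} (hn : n < 64) (h : vel a b c n = 1) : n = 0 := by
  have h1 := hV.vv_one K (show n % 2 + 2 * (n / 4 % 2) + 4 * (n / 16 % 2) < 8 by omega)
    (by rw [← B.vel_sq K, h, mul_one])
  have h2 : vv (a * a) (b * b) (c * c) (n % 4 / 2 + 2 * (n / 4 % 4 / 2) + 4 * (n / 16 % 4 / 2)) = 1 := by
    rw [vv, show (n % 4 / 2 + 2 * (n / 4 % 4 / 2) + 4 * (n / 16 % 4 / 2)) % 2 = n % 4 / 2 by omega,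
      show (n % 4 / 2 + 2 * (n / 4 % 4 / 2) + 4 * (n / 16 % 4 / 2)) / 2 % 2 = n / 4 % 4 / 2 by omega,
      show (n % 4 / 2 + 2 * (n / 4 % 4 / 2) + 4 * (n / 16 % 4 / 2)) / 4 % 2 = n / 16 % 4 / 2 by omega,
      ← pow_two, ← pow_two, ← pow_two, ← pow_mul, ← pow_mul, ← pow_mul,
      show 2 * (n % 4 / 2) = n % 4 by omega, show 2 * (n / 4 % 4 / 2) = n / 4 % 4 by omega,
      show 2 * (n / 16 % 4 / 2) = n / 16 % 4 by omega]
    exact h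
  have h3 := hV.vv_one K (by omega) h2
  omega

theorem ABasis.vel_inj (B : ABasis A a b c) (K : Ctx t R M A V) (hV : VBasis V (a * a) (b * b) (c * c)) :
    ∀ n < 64, ∀ m < 64, vel a b c n = vel a b c m → n = m := by
  intro n hn m hm h
  have h4 : vel a b c (vadd n (vsmul 3 m)) = 1 := by
    rw [← B.vel_mul K, h, ← B.vel_pow K, ← pow_succ', K.A_four _ (B.vel_mem m)]
  have h5 := B.vel_one K hV (vadd_lt _ _) h4
  exact neg_check n hn m hm h5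

theorem ABasis.surj [Finite G] (B : ABasis A a b c) (K : Ctx t R M A V)
    (hV : VBasis V (a * a) (b * b) (c * c)) {g : G} (hg : g ∈ A) : ∃ n < 64, g = vel a b c n := by
  classical
  have h1 : (vel a b c '' Set.Iio 64) = (A : Set G) := by
    refine Set.eq_of_subset_of_ncard_le ?_ ?_ (Set.toFinite _)
    · rintro _ ⟨n, -, rfl⟩; exact B.vel_mem n
    · have hi : Set.InjOn (vel a b c) (Set.Iio 64) := fun n hn m hm e => B.vel_inj K hV n hn m hm e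
      rw [hi.ncard_image, ← Nat.card_coe_set_eq]
      show Nat.card A ≤ _
      rw [K.card_A, ← Nat.card_coe_set_eq, Nat.card_eq_fintype_card]
      simp
  obtain ⟨n, hn, e⟩ := h1.ge hg
  exact ⟨n, hn, e.symm⟩

end CfsgLib.Recog.HsTwoLocal
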