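import Cfsg.Agent.Lib.Recog.SporBound.Check

/-!
# Generated data: the two normal subgroups of order 64 (owner: helper28; notes/s3346_helper28/gen/datar.py)

`list k`: the element `bas(v) a^j` at place `4 v + j`; `form`: bit `16 u + v` says that classes `u, v` do not commute;
`gens`: actions of the six generators on the classes, four nibbles each; `mats`: the group they generate.
-/

set_option autoImplicit false

namespace CfsgLib.Recog.HsTwoLocal.DataR

/-- Data. -/
def list0 : List ℕ :=
  [0, 1, 7, 35, 13, 41, 143, 334, 18, 46, 148, 450, 234, 520, 894, 1255, 6, 12, 40, 142, 66, 168, 461, 95, 128, 222, 85, 186, 697, 794, 674, 874, 124, 218, 507, 387, 1029, 1314, 696, 1185, 814, 1014, 1307, 771, 1206, 1017, 1310, 768, 371, 619, 1148, 989, 1480, 1463, 1350, 1508, 1486, 1409, 1427, 1510, 1535, 1390, 1468, 1512]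

/-- Data. -/
def form0 : ℕ :=
  0x6996969699666666a55a5a5a55aaaaaac33c3c3c33cccccc0ff0f0f0ff000000

/-- Data. -/
def gens0 : List ℕ :=
  [33825, 46369, 42785, 51250, 18450, 33825]

/-- Data. -/
def mats0 : List ℕ :=
  [33825, 46369, 42785, 51250, 18450, 38433, 55858, 31250, 63794, 23314, 60210, 19475, 50225, 35875, 26898, 28435, 58673, 40739, 24083, 63025, 44323, 32019, 55089, 48675]

/-- Data. -/
def bas0 : List ℕ :=
  [13, 18, 6, 124]


/-- Data. -/
def list1 : List ℕ :=
  [0, 1, 7, 35, 13, 41, 143, 334, 18, 46, 148, 450, 234, 520, 894, 1255, 17, 45, 147, 328, 31, 58, 160, 256, 281, 552, 252, 533, 413, 641, 302, 568, 327, 587, 1133, 851, 1453, 1502, 1346, 1404, 396, 626, 1154, 971, 1383, 1450, 1353, 1373, 1413, 1503, 916, 1265, 1439, 1474, 1514, 1406, 1395, 1524, 1507, 1451, 940, 1281, 1505, 1522]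

/-- Data. -/
def form1 : ℕ :=
  0x6996969699666666a55a5a5a55aaaaaac33c3c3c33cccccc0ff0f0f0ff000000

/-- Data. -/
def gens1 : List ℕ :=
  [33825, 46369, 42785, 51250, 23058, 46369]

/-- Data. -/
def mats1 : List ℕ :=
  [33825, 46369, 42785, 51250, 23058, 38433, 55858, 26642, 63794, 18706, 60210, 19475, 62769, 44835, 31506, 28435, 54321, 48163, 24083, 50993, 36387, 32019, 58929, 40227]

/-- Data. -/
def bas1 : List ℕ :=
  [13, 18, 17, 327]


end CfsgLib.Recog.HsTwoLocal.DataR
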