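import Cfsg.Agent.Lib.Sporadic.PairEnum.Sound

/-!
# Letters in inverse pairs and the relators of the two local subgroups (owner: helper28)

Words are read as products; the certificates store them reversed.
-/

set_option autoImplicit false

namespace CfsgLib.Recog.HsTwoLocal

open CfsgLib.Sporadic.PairEnum
open CfsgLib.ThreeTrans.CosetIndex (eqLetter)

variable {G : Type*} [Group G]

/-- A list of elements as letters `2i`, `2i + 1` of inverse pairs. -/
def lets (l : List G) (i : ℕ) : G :=
  if i % 2 = 0 then l.getD (i / 2) 1 else (l.getD (i / 2) 1)⁻¹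

theorem flp_eq (x : ℕ) : flp x = if x % 2 = 0 then x + 1 else x - 1 := by
  show x ^^^ 1 = _
  have h1 : (x ^^^ 1) / 2 = x / 2 := by
    rw [← Nat.shiftRight_one, ← Nat.shiftRight_one, Nat.shiftRight_xor_distrib]; simp
  have h2 : (x ^^^ 1) % 2 = (x % 2 + 1) % 2 := by
    rw [show (2 : ℕ) = 2 ^ 1 from rfl, Nat.xor_mod_two_pow]
    rcases Nat.mod_two_eq_zero_or_one x with h | h <;> simp [h]
  split_ifs <;> omega

theorem lets_inv (l : List G) (x : ℕ) : lets l (flp x) = (lets l x)⁻¹ := by
  rw [flp_eq]
  rcases Nat.mod_two_eq_zero_or_one x with h | h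
  · rw [if_pos h, lets, lets, if_pos h, if_neg (show ¬ (x + 1) % 2 = 0 by omega),
      show (x + 1) / 2 = x / 2 by omega]
  · rw [if_neg (by omega), lets, lets, if_neg (show ¬ x % 2 = 0 by omega),
      if_pos (show (x - 1) % 2 = 0 by omega), show (x - 1) / 2 = x / 2 by omega, inv_inv]

theorem lets_eq (l : List G) (hl : l.length ≤ 7) : lets l eqLetter = 1 := by
  show lets l 15 = 1
  rw [lets, if_neg (by norm_num), List.getD_eq_default _ _ (by omega), inv_one]

theorem setup_of_rels {C : Cert} (l : List G) (hl : l.length ≤ 7) {R : List (List ℕ)}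
    (hC : C.rels = R.map List.reverse) (h : ∀ w ∈ R, (w.map (lets l)).prod = 1) : Cert.Setup C (lets l) where
  inv := lets_inv l
  eq := lets_eq l hl
  rel := fun w hw => by
    rw [hC, List.mem_map] at hw
    obtain ⟨u, hu, rfl⟩ := hw
    rw [List.reverse_reverse]
    exact h u hu

/-- Free reduction. -/
def red (w : List ℕ) : List ℕ :=
  w.foldr (fun x r => match r with
    | [] => [x]
    | y :: s => if y = x ^^^ 1 then s else x :: y :: s) []

theorem prod_red {a : ℕ → G} (hinv : ∀ x, a (flp x) = (a x)⁻¹) : ∀ w : List ℕ,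
    ((red w).map a).prod = (w.map a).prod
  | [] => rfl
  | x :: w => by
    have ih := prod_red hinv w
    rw [List.map_cons, List.prod_cons, ← ih]
    rw [show red (x :: w) = (match red w with
      | [] => [x]
      | y :: s => if y = x ^^^ 1 then s else x :: y :: s) from rfl]
    cases red w with
    | nil => rfl
    | cons y s =>
      simp only
      split_ifs with h
      · rw [List.map_cons, List.prod_cons, h, show (x ^^^ 1 : ℕ) = flp x from rfl, hinv, mul_inv_cancel_left]
      · simp

/-- Inverse word. -/
def iw (w : List ℕ) : List ℕ := w.reverse.map fun x => x ^^^ 1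

theorem prod_iw {a : ℕ → G} (hinv : ∀ x, a (flp x) = (a x)⁻¹) : ∀ w : List ℕ,
    ((iw w).map a).prod = ((w.map a).prod)⁻¹
  | [] => by simp [iw]
  | x :: w => by
    rw [show iw (x :: w) = iw w ++ [x ^^^ 1] by simp [iw], List.map_append, List.prod_append, prod_iw hinv w]
    rw [show [x ^^^ 1].map a = [a (flp x)] from rfl, hinv]
    simp

/-- The word `b = z a z⁻¹`. -/
def bWord : List ℕ := [2, 0, 3]
/-- The word `c = z b z⁻¹`. -/
def cWord : List ℕ := [2, 2, 0, 3, 3]
/-- The word `w = z x z⁻¹`. -/
def wWord : List ℕ := [2, 6, 3]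

/-- The letters `a, b, c, y, x, w, h` and their inverses as words. -/
def transTable : List (List ℕ) :=
  [[0], [1], bWord, iw bWord, cWord, iw cWord, [4], [5], [6], [7], wWord, iw wWord, [8], [9]]

/-- A word of the letters `a, b, c, y, x, w, h` as a word of the generators. -/
def trans (w : List ℕ) : List ℕ := w.flatMap fun x => transTable.getD x []

/-- The elements `a, b, c, y, x, w` and further ones made from generators. -/
def seven (a z y x h : G) : List G :=
  [a, z * a * z⁻¹, z * (z * a * z⁻¹) * z⁻¹, y, x, z * x * z⁻¹, h]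

theorem prod_trans (a z y x h : G) : ∀ w : List ℕ,
    ((trans w).map (lets [a, z, y, x, h])).prod = (w.map (lets (seven a z y x h))).prod
  | [] => rfl
  | k :: w => by
    rw [show trans (k :: w) = transTable.getD k [] ++ trans w from rfl, List.map_append, List.prod_append,
      prod_trans a z y x h w, List.map_cons, List.prod_cons]
    congr 1
    by_cases hk : k < 14
    · interval_cases k <;>
        simp [transTable, bWord, cWord, wWord, iw, lets, seven, mul_assoc]
    · rw [List.getD_eq_default _ _ (by simp [transTable]; omega), lets,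
        List.getD_eq_default _ _ (by simp [seven]; omega)]
      split_ifs <;> simp

/-- The letters `a, b, c` with exponents packed in two bits each. -/
def vecWord (n : ℕ) : List ℕ :=
  List.replicate (n % 4) 0 ++ (List.replicate (n / 4 % 4) bWord).flatten ++
    (List.replicate (n / 16 % 4) cWord).flatten

/-- A commutator. -/
def cmWord (u v : List ℕ) : List ℕ := u ++ v ++ iw u ++ iw v

/-- The relators of `N(V)`, with the constants of the extension. -/
def relM (k f₁ f₂ : ℕ) : List (List ℕ) :=
  [[0, 0, 0, 0], cmWord [0] bWord, cmWord [0] cWord, [2, 2, 2, 2, 2, 2, 2], [4, 4, 4], [4, 2, 5, 3, 3],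
    [4, 0, 5, 1], [2] ++ cWord ++ [3] ++ iw ([0] ++ bWord ++ bWord ++ cWord), [6, 0, 7, 0],
    [6] ++ bWord ++ [7] ++ cWord, [6, 4, 7, 4], [6, 6] ++ iw (vecWord k),
    [6, 2, 6, 2, 6, 2, 6, 2] ++ iw (vecWord f₁), [6, 2, 2, 6, 2, 2, 6, 2, 2] ++ iw (vecWord f₂)].map red

end CfsgLib.Recog.HsTwoLocal
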