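import Cfsg.Agent.Lib.Recog.HsTwoLocal.Coords
import Cfsg.Agent.Lib.Recog.HsTwoLocal.Words
import Mathlib.GroupTheory.Perm.Cycle.Type

/-!
# Generators of `N(V)` (owner: helper28)

An element `z` of order seven, an element `y` of order three normalising it, the fourth root `a` of `t` fixed by `y`
and an involution-like element `x` inverting `y`.
-/

set_option autoImplicit false

namespace CfsgLib.Recog.HsTwoLocal

open Subgroup

variable {G : Type*} [Group G]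

/-- Generators of `N(V)` with the constants of the extension. -/
structure Frame (t : G) (M A : Subgroup G) (a z y x : G) (k f₁ f₂ : ℕ) : Prop where
  a_mem : a ∈ A
  z_mem : z ∈ M
  y_mem : y ∈ M
  x_mem : x ∈ M
  t_eq : a * a = t
  z_t : z * t * z⁻¹ ≠ t
  rels : ∀ w ∈ relM k f₁ f₂, (w.map (lets [a, z, y, x, 1])).prod = 1
  basis : ∀ g ∈ A, ∃ n < 64, g = vel a (z * a * z⁻¹) (z * (z * a * z⁻¹) * z⁻¹) n
  inj : ∀ n < 64, ∀ m < 64, vel a (z * a * z⁻¹) (z * (z * a * z⁻¹) * z⁻¹) n =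
    vel a (z * a * z⁻¹) (z * (z * a * z⁻¹) * z⁻¹) m → n = m
  act_x : x * (z * t * z⁻¹) * x⁻¹ = z * (z * t * z⁻¹) * z⁻¹
  act_y : y * (z * t * z⁻¹) * y⁻¹ = z * (z * t * z⁻¹) * z⁻¹

variable {t : G} {R M A V : Subgroup G}

theorem exists_seven [Finite G] (K : Ctx t R M A V) :
    ∃ z ∈ M, z ^ 7 = 1 ∧ VBasis V t (z * t * z⁻¹) (z * (z * t * z⁻¹) * z⁻¹) ∧
      z * (z * (z * t * z⁻¹) * z⁻¹) * z⁻¹ = t * (z * (z * t * z⁻¹) * z⁻¹) := by
  haveI : Fact (Nat.Prime 7) := ⟨by norm_num⟩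
  obtain ⟨⟨z, hz⟩, hzo⟩ := exists_prime_orderOf_dvd_card' (G := M) 7 (by rw [K.card_M]; norm_num)
  rw [← Subgroup.orderOf_coe] at hzo
  have hC : ∀ g : G, orderOf g = 7 → g * t * g⁻¹ ≠ t := fun g hg h => by
    have h1 : g ∈ centralizer ({t} : Set G) := mem_centralizer_singleton_iff.2 (mul_inv_eq_iff_eq_mul.1 h)
    have := Subgroup.orderOf_dvd_natCard _ h1
    rw [hg, K.card_C] at this
    norm_num at this
  have hinv : ∀ x ∈ V, x⁻¹ = x := fun x hx => inv_eq_of_mul_eq_one_right ((K.mem_V x).1 hx).2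
  have key : ∀ g : G, g ∈ M → orderOf g = 7 →
      VBasis V t (g * t * g⁻¹) (g * (g * t * g⁻¹) * g⁻¹) ∧
        (g * (g * (g * t * g⁻¹) * g⁻¹) * g⁻¹ = t * (g * t * g⁻¹) ∨
          g * (g * (g * t * g⁻¹) * g⁻¹) * g⁻¹ = t * (g * (g * t * g⁻¹) * g⁻¹)) := by
    intro g hg hgo
    have hpow : ∀ i : ℕ, ¬ 7 ∣ i → g ^ i * t * (g ^ i)⁻¹ ≠ t := fun i hi =>
      hC _ ((Nat.Coprime.orderOf_pow (by
        rw [hgo]; exact (Nat.Prime.coprime_iff_not_dvd (by norm_num : Nat.Prime 7)).2 hi)).trans hgo)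
    set u := g * t * g⁻¹ with hu
    set w := g * u * g⁻¹ with hw
    have m1 : u ∈ V := K.conj_V hg K.t_V
    have m2 : w ∈ V := K.conj_V hg m1
    have p1 : u ≠ t := by simpa using hpow 1 (by norm_num)
    have p2 : w ≠ t := by
      rw [hw, hu, show g * (g * t * g⁻¹) * g⁻¹ = g ^ 2 * t * (g ^ 2)⁻¹ by simp [pow_succ, mul_assoc]]; exact hpow 2 (by norm_num)
    have p3 : g * w * g⁻¹ ≠ t := by
      rw [hw, hu, show g * (g * (g * t * g⁻¹) * g⁻¹) * g⁻¹ = g ^ 3 * t * (g ^ 3)⁻¹ by simp [pow_succ, mul_assoc]]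
      exact hpow 3 (by norm_num)
    have p4 : g * (g * w * g⁻¹) * g⁻¹ ≠ t := by
      rw [hw, hu, show g * (g * (g * (g * t * g⁻¹) * g⁻¹) * g⁻¹) * g⁻¹ = g ^ 4 * t * (g ^ 4)⁻¹ by simp [pow_succ, mul_assoc]]
      exact hpow 4 (by norm_num)
    have cinj : ∀ p q : G, g * p * g⁻¹ = g * q * g⁻¹ → p = q := fun p q e => mul_left_cancel (mul_right_cancel e)
    have cmul : ∀ p q : G, g * (p * q) * g⁻¹ = (g * p * g⁻¹) * (g * q * g⁻¹) := fun p q => by group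
    have hu1 : u ≠ 1 := fun e => K.t_ne (conj_eq_one_iff.1 e)
    have hw1 : w ≠ 1 := fun e => hu1 (conj_eq_one_iff.1 e)
    have hwu : w ≠ u := fun e => p1 (cinj _ _ (e.trans rfl))
    have hc : ∀ p ∈ V, ∀ q ∈ V, p * q = q * p := fun p hp q hq => K.A_comm p (K.V_le hp) q (K.V_le hq)
    have h3 : w ≠ t * u := by
      intro e
      refine p3 ?_
      rw [e, cmul, ← hw, e, ← hu, ← mul_assoc, hc _ m1 _ K.t_V, mul_assoc, ((K.mem_V u).1 m1).2, mul_one]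
    have B : VBasis V t u w := ⟨K.t_V, m1, m2, K.t_ne, hu1, p1, hw1, p2, hwu, h3⟩
    refine ⟨B, ?_⟩
    obtain ⟨n, hn, e⟩ := B.surj K (K.conj_V hg m2)
    interval_cases n <;> simp [vv] at e
    · exact absurd (conj_eq_one_iff.1 e) hu1
    · exact absurd e p3
    · exact absurd (cinj _ _ e) (fun h => p2 (by rw [h]))
    · exact Or.inl e
    · exact absurd (cinj _ _ e) hwu
    · exact Or.inr e
    · -- the image would fix a vector one step earlier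
      exfalso
      rw [show u * w = g * (t * u) * g⁻¹ by rw [cmul, ← hu, ← hw]] at e
      exact h3 (cinj _ _ e)
    · exfalso
      refine p4 ?_
      rw [e, cmul, cmul, ← hu, ← hw, e]
      rw [show u * w * (t * u * w) = u * (w * (t * u)) * w by group, hc _ m2 _ (mul_mem K.t_V m1),
        show u * (t * u * w) * w = u * (t * u) * (w * w) by group, ((K.mem_V w).1 m2).2, mul_one,
        hc _ K.t_V _ m1, ← mul_assoc, ((K.mem_V u).1 m1).2, one_mul]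
  obtain ⟨B, h | h⟩ := key z hz hzo
  swap
  · exact ⟨z, hz, by rw [← hzo, pow_orderOf_eq_one], B, h⟩
  · obtain ⟨B', -⟩ := key z⁻¹ (inv_mem hz) (by rw [orderOf_inv, hzo])
    refine ⟨z⁻¹, inv_mem hz, by rw [inv_pow, ← hzo, pow_orderOf_eq_one, inv_one], B', ?_⟩
    set u := z * t * z⁻¹ with hu
    set w := z * u * z⁻¹ with hw
    have hc : ∀ p ∈ V, ∀ q ∈ V, p * q = q * p := fun p hp q hq => K.A_comm p (K.V_le hp) q (K.V_le hq)
    -- conjugating `z^3 t = t (z t)` back three times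
    have h' : z ^ 3 * t * (z ^ 3)⁻¹ = t * (z * t * z⁻¹) := by
      rw [← h, hw, hu]; simp [pow_succ, mul_assoc]
    have : z⁻¹ * (z⁻¹ * (z⁻¹ * (z ^ 3 * t * (z ^ 3)⁻¹) * z⁻¹⁻¹) * z⁻¹⁻¹) * z⁻¹⁻¹ =
        (z⁻¹ * (z⁻¹ * (z⁻¹ * t * z⁻¹⁻¹) * z⁻¹⁻¹) * z⁻¹⁻¹) * (z⁻¹ * (z⁻¹ * t * z⁻¹⁻¹) * z⁻¹⁻¹) := by
      rw [h']; group
    rw [show z⁻¹ * (z⁻¹ * (z⁻¹ * (z ^ 3 * t * (z ^ 3)⁻¹) * z⁻¹⁻¹) * z⁻¹⁻¹) * z⁻¹⁻¹ = t by group] at this
    conv_rhs => arg 1; rw [this]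
    conv_rhs => rw [mul_assoc, ((K.mem_V _).1 B'.mem₃).2, mul_one]

theorem z_option : ∀ u < 64, vadd u u = 34 →
    vlin 4 16 u (vlin 4 16 u (vlin 4 16 u (vlin 4 16 u (vlin 4 16 u (vlin 4 16 u (vlin 4 16 u 16)))))) = 16 →
    u = 25 := by decide +kernel

theorem y_cubes : ∀ n < 64, vadd (vadd n (vlin 1 (vlin 1 16 61 16) (vlin 1 16 61 61) n))
    (vlin 1 16 61 n) = 0 → ∃ m < 64, vadd m n = vlin 1 (vlin 1 16 61 16) (vlin 1 16 61 61) m := by decide +kernel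

/-- The action of `x` from the image of `b`. -/
def xLin (p q : ℕ) (n : ℕ) : ℕ := vlin p q (vlin 1 (vlin 1 16 61 16) (vlin 1 16 61 61) q) n

/-- The action of `z`. -/
def zLin (n : ℕ) : ℕ := vlin 4 16 25 n

theorem x_option_check : (([1, 3] : List ℕ).all fun p => (List.range 64).all fun q =>
    !(Nat.beq (vadd q q) 32 && [1, 4, 16].all fun n => Nat.beq (xLin p q (xLin p q n)) n &&
      (Nat.beq (xLin p q (zLin (xLin p q (zLin (xLin p q (zLin (xLin p q (zLin n)))))))) n &&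
      Nat.beq (xLin p q (zLin (zLin (xLin p q (zLin (zLin (xLin p q (zLin (zLin n))))))))) n)) ||
      (Nat.beq p 3 && Nat.beq q 48)) = true := by
  decide +kernel

theorem x_option (p : ℕ) (hp : p = 1 ∨ p = 3) (q : ℕ) (hq : q < 64) (h32 : vadd q q = 32)
    (h : ∀ n ∈ [1, 4, 16], xLin p q (xLin p q n) = n ∧
      xLin p q (zLin (xLin p q (zLin (xLin p q (zLin (xLin p q (zLin n))))))) = n ∧
      xLin p q (zLin (zLin (xLin p q (zLin (zLin (xLin p q (zLin (zLin n)))))))) = n) : p = 3 ∧ q = 48 := by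
  have hk := List.all_eq_true.1 (List.all_eq_true.1 x_option_check p (by simp [hp])) q (List.mem_range.2 hq)
  simp only [Bool.or_eq_true, Bool.and_eq_true, Bool.not_eq_true', Nat.beq_eq] at hk
  refine hk.resolve_left fun hf => ?_
  rw [Bool.eq_false_iff] at hf
  refine hf ?_
  simp only [Bool.and_eq_true, List.all_eq_true, Nat.beq_eq]
  exact ⟨h32, h⟩

theorem fixed_one : ∀ n < 64, vlin 3 48 12 (zLin n) = n → n = 0 ∨ n = 8 ∨ n = 38 ∨ n = 46 := by decide +kernel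

theorem fixed_two : ∀ n < 64, vlin 3 48 12 (zLin (zLin n)) = n → n = 0 ∨ n = 25 ∨ n = 34 ∨ n = 59 := by
  decide +kernel

theorem gauge_one : vadd (vadd (vadd 1 (vlin 3 48 12 (zLin 1))) (vlin 3 48 12 (zLin (vlin 3 48 12 (zLin 1)))))
    (vlin 3 48 12 (zLin (vlin 3 48 12 (zLin (vlin 3 48 12 (zLin 1)))))) = 8 := by decide +kernel

theorem gauge_two : vadd 8 8 = 0 ∧ vadd 8 0 = 8 ∧ vadd 8 38 = 46 := by decide +kernel

theorem exists_frame [Finite G] (K : Ctx t R M A V) :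
    ∃ a z y x : G, ∃ k f₁ f₂ : ℕ, Frame t M A a z y x k f₁ f₂ ∧ (k = 0 ∨ k = 2) ∧ (f₁ = 0 ∨ f₁ = 38) ∧
      (f₂ = 0 ∨ f₂ = 25 ∨ f₂ = 34 ∨ f₂ = 59) := by
  classical
  obtain ⟨z, hz, hz7, BV, hz3⟩ := exists_seven K
  set v₂ := z * t * z⁻¹ with hv₂
  set v₃ := z * v₂ * z⁻¹ with hv₃
  have hAC : ∀ g ∈ A, ∀ v ∈ V, g * v * g⁻¹ = v := fun g hg v hv => by
    rw [K.A_comm g hg v (K.V_le hv), mul_inv_cancel_right]
  have vz : ∀ n < 8, z * vv t v₂ v₃ n * z⁻¹ = vv t v₂ v₃ (lin2 2 4 5 n) := fun n hn =>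
    BV.conj K (by norm_num) (by norm_num) (by norm_num) (by simp [vv, hv₂]) (by simp [vv, hv₃])
      (by rw [hz3]; simp [vv]) hn
  -- an element acting as the cube of z squared
  obtain ⟨g, hg, g1, g2, g3⟩ := BV.inducing K (m₁ := 1) (m₂ := 4) (m₃ := 7) (by norm_num) (by norm_num) (by norm_num)
    (by decide +kernel)
  have vg : ∀ n < 8, g * vv t v₂ v₃ n * g⁻¹ = vv t v₂ v₃ (lin2 1 4 7 n) := fun n hn =>
    BV.conj K (by norm_num) (by norm_num) (by norm_num) g1 g2 g3 hn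
  have v1 : vv t v₂ v₃ 1 = t := by simp [vv]
  have v2' : vv t v₂ v₃ 2 = v₂ := by simp [vv]
  have v4' : vv t v₂ v₃ 4 = v₃ := by simp [vv]
  have A_of : ∀ h ∈ M, (∀ n ∈ [1, 2, 4], h * vv t v₂ v₃ n * h⁻¹ = vv t v₂ v₃ n) → h ∈ A := fun h hh e =>
    BV.mem_A K hh (by have := e 1 (by simp); rwa [v1] at this) (by have := e 2 (by simp); rwa [v2'] at this)
      (by have := e 4 (by simp); rwa [v4'] at this)
  have vginv : ∀ n < 8, g⁻¹ * vv t v₂ v₃ (lin2 1 4 7 n) * g = vv t v₂ v₃ n := fun n hn => by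
    rw [← vg n hn]; group
  have vzinv : ∀ n < 8, z⁻¹ * vv t v₂ v₃ (lin2 2 4 5 n) * z = vv t v₂ v₃ n := fun n hn => by
    rw [← vz n hn]; group
  have hgz : g * z * g⁻¹ * (z * z)⁻¹ ∈ A := by
    refine A_of _ (mul_mem (mul_mem (mul_mem hg hz) (inv_mem hg)) (inv_mem (mul_mem hz hz))) fun n hn => ?_
    have key : ∀ n < 8, (g * z) * vv t v₂ v₃ n * (g * z)⁻¹ = (z * z * g) * vv t v₂ v₃ n * (z * z * g)⁻¹ := by
      intro n hn
      have l1 : lin2 2 4 5 n < 8 ∧ lin2 1 4 7 n < 8 ∧ lin2 2 4 5 (lin2 1 4 7 n) < 8 ∧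
          lin2 1 4 7 (lin2 2 4 5 n) = lin2 2 4 5 (lin2 2 4 5 (lin2 1 4 7 n)) :=
        (by decide +kernel : ∀ n < 8, lin2 2 4 5 n < 8 ∧ lin2 1 4 7 n < 8 ∧ lin2 2 4 5 (lin2 1 4 7 n) < 8 ∧
          lin2 1 4 7 (lin2 2 4 5 n) = lin2 2 4 5 (lin2 2 4 5 (lin2 1 4 7 n))) n hn
      rw [show g * z * vv t v₂ v₃ n * (g * z)⁻¹ = g * (z * vv t v₂ v₃ n * z⁻¹) * g⁻¹ by group, vz n hn,
        vg _ l1.1, l1.2.2.2, show z * z * g * vv t v₂ v₃ n * (z * z * g)⁻¹ =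
          z * (z * (g * vv t v₂ v₃ n * g⁻¹) * z⁻¹) * z⁻¹ by group, vg n hn, vz _ l1.2.1, vz _ l1.2.2.1]
    obtain ⟨m, hm, e⟩ := (by decide +kernel : ∀ n ∈ [1, 2, 4], ∃ m < 8, lin2 2 4 5 (lin2 2 4 5 (lin2 1 4 7 m)) = n)
      n hn
    have hval : (z * z * g) * vv t v₂ v₃ m * (z * z * g)⁻¹ = vv t v₂ v₃ n := by
      have l2 := (by decide +kernel : ∀ n < 8, lin2 1 4 7 n < 8 ∧ lin2 2 4 5 (lin2 1 4 7 n) < 8) m hm
      rw [show z * z * g * vv t v₂ v₃ m * (z * z * g)⁻¹ = z * (z * (g * vv t v₂ v₃ m * g⁻¹) * z⁻¹) * z⁻¹ by group,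
        vg m hm, vz _ l2.1, vz _ l2.2, e]
    conv_lhs => rw [← hval]
    rw [show g * z * g⁻¹ * (z * z)⁻¹ * (z * z * g * vv t v₂ v₃ m * (z * z * g)⁻¹) *
      (g * z * g⁻¹ * (z * z)⁻¹)⁻¹ = (g * z) * vv t v₂ v₃ m * (g * z)⁻¹ by group, key m hm, hval]
  -- the squaring map and fixed points of z
  have hsq : ∀ p ∈ A, p * p ∈ V := fun p hp => (K.mem_V _).2 ⟨mul_mem hp hp, by
    have := K.A_four p hp
    rw [show p * p * (p * p) = p ^ 4 by simp [pow_succ, mul_assoc]]; exact this⟩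
  have zfix : ∀ p ∈ A, (z * z) * p * (z * z)⁻¹ = p → p = 1 := by
    have zfV : ∀ v ∈ V, (z * z) * v * (z * z)⁻¹ = v → v = 1 := by
      intro v hv e
      obtain ⟨n, hn, rfl⟩ := BV.surj K hv
      have l := (by decide +kernel : ∀ n < 8, lin2 2 4 5 n < 8 ∧ (lin2 2 4 5 (lin2 2 4 5 n) = n → n = 0) ∧
        lin2 2 4 5 (lin2 2 4 5 n) < 8) n hn
      rw [show z * z * vv t v₂ v₃ n * (z * z)⁻¹ = z * (z * vv t v₂ v₃ n * z⁻¹) * z⁻¹ by group, vz n hn,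
        vz _ l.1] at e
      rw [l.2.1 (BV.vv_inj K _ l.2.2 _ hn e)]
      simp [vv]
    intro p hp e
    have h1 : p * p = 1 := zfV _ (hsq p hp) (by
      rw [show z * z * (p * p) * (z * z)⁻¹ = (z * z * p * (z * z)⁻¹) * (z * z * p * (z * z)⁻¹) by group, e])
    exact zfV p ((K.mem_V p).2 ⟨hp, h1⟩) e
  let φ : A → A := fun p => ⟨(p : G) * ((z * z) * (p : G) * (z * z)⁻¹)⁻¹,
    mul_mem p.2 (inv_mem (K.A_conj _ (mul_mem hz hz) _ p.2))⟩
  have hφ : Function.Surjective φ := by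
    refine (Finite.injective_iff_surjective (f := φ)).1 fun p q e => Subtype.ext ?_
    have e' : (p : G) * ((z * z) * (p : G) * (z * z)⁻¹)⁻¹ = (q : G) * ((z * z) * (q : G) * (z * z)⁻¹)⁻¹ :=
      congrArg Subtype.val e
    refine (inv_mul_eq_one.1 (zfix _ (mul_mem (inv_mem q.2) p.2) ?_)).symm
    rw [show z * z * ((q : G)⁻¹ * p) * (z * z)⁻¹ = (z * z * q * (z * z)⁻¹)⁻¹ * (z * z * p * (z * z)⁻¹) by simp [mul_assoc],
      ]
    conv_rhs => rw [show (p : G) = (q : G) * (z * z * (q : G) * (z * z)⁻¹)⁻¹ * (z * z * (p : G) * (z * z)⁻¹) from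
      eq_mul_of_mul_inv_eq e']
    simp [mul_assoc]
  obtain ⟨⟨β, hβ⟩, hβe⟩ := hφ ⟨_, inv_mem hgz⟩
  have hβe' : β * ((z * z) * β * (z * z)⁻¹)⁻¹ = (g * z * g⁻¹ * (z * z)⁻¹)⁻¹ := congrArg Subtype.val hβe
  set y1 := β * g with hy1
  have hy1z : y1 * z * y1⁻¹ = z * z := by
    have hcm : Commute β (g * z * g⁻¹ * (z * z)⁻¹) := K.A_comm _ hβ _ hgz
    rw [hy1, show β * g * z * (β * g)⁻¹ = β * (g * z * g⁻¹ * (z * z)⁻¹) * ((z * z) * β⁻¹ * (z * z)⁻¹) * (z * z) by group,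
      hcm.eq, mul_assoc (g * z * g⁻¹ * (z * z)⁻¹) β,
      show β * (z * z * β⁻¹ * (z * z)⁻¹) = β * ((z * z) * β * (z * z)⁻¹)⁻¹ by simp [mul_assoc], hβe']
    group
  have hy1M : y1 ∈ M := mul_mem (K.A_le hβ) hg
  have vy1 : ∀ n < 8, y1 * vv t v₂ v₃ n * y1⁻¹ = vv t v₂ v₃ (lin2 1 4 7 n) := fun n hn => by
    rw [hy1, show β * g * vv t v₂ v₃ n * (β * g)⁻¹ = β * (g * vv t v₂ v₃ n * g⁻¹) * β⁻¹ by group, vg n hn,
      hAC β hβ _ (BV.vv_mem _)]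
  have hy3 : y1 ^ 3 ∈ A := by
    refine A_of _ (pow_mem hy1M 3) fun n hn => ?_
    have l := (by decide +kernel : ∀ n ∈ [1, 2, 4], n < 8 ∧ lin2 1 4 7 n < 8 ∧ lin2 1 4 7 (lin2 1 4 7 n) < 8 ∧
      lin2 1 4 7 (lin2 1 4 7 (lin2 1 4 7 n)) = n) n hn
    rw [show y1 ^ 3 * vv t v₂ v₃ n * (y1 ^ 3)⁻¹ = y1 * (y1 * (y1 * vv t v₂ v₃ n * y1⁻¹) * y1⁻¹) * y1⁻¹ by simp [pow_succ, mul_assoc],
      vy1 n l.1, vy1 _ l.2.1, vy1 _ l.2.2.1, l.2.2.2]
  set y := y1 ^ 4 with hy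
  have hyM : y ∈ M := pow_mem hy1M 4
  have hy3' : y ^ 3 = 1 := by
    rw [hy, ← pow_mul, show 4 * 3 = 3 * 4 from rfl, pow_mul]; exact K.A_four _ hy3
  have hyz : y * z * y⁻¹ = z * z := by
    have c1 : ∀ k : ℕ, y1 * z ^ k * y1⁻¹ = z ^ (2 * k) := fun k => by
      rw [conj_pow', hy1z, ← pow_two, ← pow_mul]
    rw [hy, show y1 ^ 4 * z * (y1 ^ 4)⁻¹ = y1 * (y1 * (y1 * (y1 * z ^ 1 * y1⁻¹) * y1⁻¹) * y1⁻¹) * y1⁻¹ by simp [pow_succ, mul_assoc],
      c1, c1, c1, c1, show 2 * (2 * (2 * (2 * 1))) = 7 * 2 + 2 from rfl, pow_add, pow_mul, hz7, one_pow, one_mul,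
      pow_two]
  have vy : ∀ n < 8, y * vv t v₂ v₃ n * y⁻¹ = vv t v₂ v₃ (lin2 1 4 7 n) := fun n hn => by
    have hlt : lin2 1 4 7 n < 8 := (by decide +kernel : ∀ n < 8, lin2 1 4 7 n < 8) n hn
    rw [hy, show y1 ^ 4 = y1 ^ 3 * y1 from pow_succ y1 3,
      show y1 ^ 3 * y1 * vv t v₂ v₃ n * (y1 ^ 3 * y1)⁻¹ = y1 ^ 3 * (y1 * vv t v₂ v₃ n * y1⁻¹) * (y1 ^ 3)⁻¹ by group,
      vy1 n hn, hAC _ hy3 _ (BV.vv_mem _)]
  have hyt : y * t * y⁻¹ = t := by have := vy 1 (by norm_num); rwa [v1, show lin2 1 4 7 1 = 1 from rfl, v1] at this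
  -- the fourth root
  have hroot : ∃ α ∈ A, α * α = t := by
    by_contra hne
    push Not at hne
    classical
    let sq : A →* V :=
      { toFun := fun p => ⟨(p : G) * p, hsq p p.2⟩
        map_one' := Subtype.ext (mul_one 1)
        map_mul' := fun p q => Subtype.ext (by
          show (p : G) * q * ((p : G) * q) = (p : G) * p * ((q : G) * q)
          rw [show (p : G) * q * ((p : G) * q) = (p : G) * ((q : G) * p) * q by group, K.A_comm q q.2 p p.2]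
          group) }
    have hk : Nat.card sq.ker = 8 := by
      rw [← K.card_V]
      refine Nat.card_congr ⟨fun p => ⟨p.1.1, (K.mem_V _).2 ⟨p.1.2, congrArg Subtype.val p.2⟩⟩,
        fun v => ⟨⟨v.1, K.V_le v.2⟩, Subtype.ext ((K.mem_V _).1 v.2).2⟩, fun p => rfl, fun v => rfl⟩
    have h := card_mul_index sq.ker
    rw [index_ker, hk, K.card_A] at h
    have htop : sq.range = ⊤ := eq_top_of_card_eq _ (by rw [K.card_V]; omega)
    obtain ⟨⟨p, hp⟩, e⟩ := htop.ge (mem_top (⟨t, K.t_V⟩ : V))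
    exact hne p hp (congrArg Subtype.val e)
  obtain ⟨α, hα, hα2⟩ := hroot
  set a := α * (y * α * y⁻¹) * (y * (y * α * y⁻¹) * y⁻¹) with ha
  have m1 : y * α * y⁻¹ ∈ A := K.A_conj y hyM α hα
  have m2 : y * (y * α * y⁻¹) * y⁻¹ ∈ A := K.A_conj y hyM _ m1
  have haA : a ∈ A := mul_mem (mul_mem hα m1) m2
  have hy3'' : y * (y * (y * α * y⁻¹) * y⁻¹) * y⁻¹ = α := by
    rw [show y * (y * (y * α * y⁻¹) * y⁻¹) * y⁻¹ = y ^ 3 * α * (y ^ 3)⁻¹ by simp [pow_succ, mul_assoc], hy3', one_mul, inv_one, mul_one]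
  have hya : y * a * y⁻¹ = a := by
    rw [ha, show y * (α * (y * α * y⁻¹) * (y * (y * α * y⁻¹) * y⁻¹)) * y⁻¹ =
      (y * α * y⁻¹) * (y * (y * α * y⁻¹) * y⁻¹) * (y * (y * (y * α * y⁻¹) * y⁻¹) * y⁻¹) by group, hy3'',
      K.A_comm _ (mul_mem m1 m2) α hα]
    simp only [mul_assoc]
  have hat : a * a = t := by
    have e1 : (y * α * y⁻¹) * (y * α * y⁻¹) = t := by
      rw [show y * α * y⁻¹ * (y * α * y⁻¹) = y * (α * α) * y⁻¹ by group, hα2, hyt]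
    have e2 : (y * (y * α * y⁻¹) * y⁻¹) * (y * (y * α * y⁻¹) * y⁻¹) = t := by
      rw [show y * (y * α * y⁻¹) * y⁻¹ * (y * (y * α * y⁻¹) * y⁻¹) = y * ((y * α * y⁻¹) * (y * α * y⁻¹)) * y⁻¹ by group,
        e1, hyt]
    have c1 := K.A_comm α hα _ m1
    have : ∀ p q : G, p ∈ A → q ∈ A → p * q * (p * q) = (p * p) * (q * q) := fun p q hp hq => by
      rw [show p * q * (p * q) = p * (q * p) * q by group, K.A_comm q hq p hp]; group
    rw [ha, this _ _ (mul_mem hα m1) m2, this _ _ hα m1, hα2, e1, e2, K.t_sq, one_mul]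
  -- coordinates
  set b := z * a * z⁻¹ with hb
  set c := z * b * z⁻¹ with hc
  have hbb : b * b = v₂ := by rw [hb, hv₂, ← hat]; group
  have hcc : c * c = v₃ := by rw [hc, hv₃, ← hbb]; group
  have hbA : b ∈ A := K.A_conj z hz a haA
  have hcA : c ∈ A := K.A_conj z hz b hbA
  have BA : ABasis A a b c := ⟨haA, hbA, hcA⟩
  have BV' : VBasis V (a * a) (b * b) (c * c) := by rw [hat, hbb, hcc]; exact BV
  have vinj := BA.vel_inj K BV'
  have vval : ∀ n, vel a b c n * vel a b c n =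
      vv t v₂ v₃ (n % 2 + 2 * (n / 4 % 2) + 4 * (n / 16 % 2)) := fun n => by rw [BA.vel_sq K, hat, hbb, hcc]
  obtain ⟨u, hu, huc⟩ := BA.surj K BV' (K.A_conj z hz c hcA)
  have e4 : vel a b c 4 = b := by simp [vel]
  have e16 : vel a b c 16 = c := by simp [vel]
  have e1 : vel a b c 1 = a := by simp [vel]
  have vz' : ∀ n, z * vel a b c n * z⁻¹ = vel a b c (vlin 4 16 u n) :=
    BA.conj K (by rw [e4]) (by rw [e16]) huc
  have hu25 : u = 25 := by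
    refine z_option u hu ?_ ?_
    · refine vinj _ (vadd_lt _ _) _ (by norm_num) ?_
      rw [← BA.vel_mul K, ← huc]
      rw [show z * c * z⁻¹ * (z * c * z⁻¹) = z * (c * c) * z⁻¹ by group, hcc, hz3,
        show vel a b c 34 = a ^ 2 * c ^ 2 from by simp [vel], pow_two, pow_two, hat, hcc]
    · refine vinj _ (by unfold vlin; exact vadd_lt _ _) _ (by norm_num) ?_
      simp only [← vz']
      rw [show z * (z * (z * (z * (z * (z * (z * vel a b c 16 * z⁻¹) * z⁻¹) * z⁻¹) * z⁻¹) * z⁻¹) * z⁻¹) * z⁻¹ =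
        z ^ 7 * vel a b c 16 * (z ^ 7)⁻¹ by simp [pow_succ, mul_assoc], hz7, one_mul, inv_one, mul_one]
  subst hu25
  have hyb : y * b * y⁻¹ = c := by
    rw [hb, show y * (z * a * z⁻¹) * y⁻¹ = (y * z * y⁻¹) * (y * a * y⁻¹) * (y * z * y⁻¹)⁻¹ by group, hyz, hya,
      hc, hb]
    group
  have hyc : y * c * y⁻¹ = vel a b c 61 := by
    rw [hc, show y * (z * b * z⁻¹) * y⁻¹ = (y * z * y⁻¹) * (y * b * y⁻¹) * (y * z * y⁻¹)⁻¹ by group, hyz, hyb,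
      show z * z * c * (z * z)⁻¹ = z * (z * c * z⁻¹) * z⁻¹ by group, huc, vz']
    congr 1
  have vy' : ∀ n, y * vel a b c n * y⁻¹ = vel a b c (vlin 1 16 61 n) :=
    BA.conj K (by rw [e1, hya]) (by rw [e16, hyb]) hyc
  have vyy : ∀ n, (y * y) * vel a b c n * (y * y)⁻¹ =
      vel a b c (vlin 1 (vlin 1 16 61 16) (vlin 1 16 61 61) n) :=
    BA.conj K (by rw [e1, show y * y * a * (y * y)⁻¹ = y * (y * a * y⁻¹) * y⁻¹ by group, hya, hya])
      (by rw [show y * y * b * (y * y)⁻¹ = y * (y * b * y⁻¹) * y⁻¹ by group, hyb]; conv_lhs => rw [← e16]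
          exact vy' 16)
      (by rw [show y * y * c * (y * y)⁻¹ = y * (y * c * y⁻¹) * y⁻¹ by group, hyc, vy'])
  -- an element inverting y
  obtain ⟨h, hh, h1, h2, h3⟩ := BV.inducing K (m₁ := 1) (m₂ := 4) (m₃ := 2) (by norm_num) (by norm_num) (by norm_num)
    (by decide +kernel)
  have vh : ∀ n < 8, h * vv t v₂ v₃ n * h⁻¹ = vv t v₂ v₃ (lin2 1 4 2 n) := fun n hn =>
    BV.conj K (by norm_num) (by norm_num) (by norm_num) h1 h2 h3 hn
  have hyy_inv : (y * y)⁻¹ = y := inv_eq_of_mul_eq_one_right (by rw [← hy3']; simp [pow_succ, mul_assoc])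
  have hw : h * y * h⁻¹ * y ∈ A := by
    refine A_of _ (mul_mem (mul_mem (mul_mem hh hyM) (inv_mem hh)) hyM) fun n hn => ?_
    have l := (by decide +kernel : ∀ n ∈ [1, 2, 4], n < 8 ∧ lin2 1 4 7 n < 8 ∧ ∃ m < 8, lin2 1 4 2 m =
      lin2 1 4 7 n ∧ lin2 1 4 7 m < 8 ∧ lin2 1 4 2 (lin2 1 4 7 m) = n) n hn
    obtain ⟨hn8, hl, m, hm, em, hm7, emn⟩ := l
    have : h⁻¹ * vv t v₂ v₃ (lin2 1 4 7 n) * h = vv t v₂ v₃ m := by rw [← em, ← vh m hm]; group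
    rw [show h * y * h⁻¹ * y * vv t v₂ v₃ n * (h * y * h⁻¹ * y)⁻¹ =
      h * (y * (h⁻¹ * (y * vv t v₂ v₃ n * y⁻¹) * h) * y⁻¹) * h⁻¹ by group, vy n hn8, this, vy m hm, vh _ hm7, emn]
  obtain ⟨n, hn, hne⟩ := BA.surj K BV' hw
  have hhy : h * y * h⁻¹ = vel a b c n * (y * y) := by
    rw [← hne, show h * y * h⁻¹ * y * (y * y) = h * y * h⁻¹ * y ^ 3 by simp [pow_succ, mul_assoc], hy3', mul_one]
  have hn0 : vadd (vadd n (vlin 1 (vlin 1 16 61 16) (vlin 1 16 61 61) n)) (vlin 1 16 61 n) = 0 := by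
    refine vinj _ (vadd_lt _ _) 0 (by norm_num) ?_
    have e3 : (h * y * h⁻¹) ^ 3 = 1 := by rw [← conj_pow', hy3', mul_one, mul_inv_cancel]
    rw [hhy] at e3
    rw [← BA.vel_mul K, ← BA.vel_mul K, ← vyy, ← vy', show vel a b c 0 = 1 by simp [vel], ← e3]
    calc vel a b c n * (y * y * vel a b c n * (y * y)⁻¹) * (y * vel a b c n * y⁻¹)
        = vel a b c n * (y * y * vel a b c n * (y * y)⁻¹) * (y * vel a b c n * y⁻¹) * (y ^ 3 * y ^ 3) := by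
          rw [hy3', mul_one, mul_one]
      _ = vel a b c n * (y * y) * (vel a b c n * (y * y)⁻¹ * y) * vel a b c n * y⁻¹ * y ^ 6 := by group
      _ = (vel a b c n * (y * y)) ^ 3 := by rw [hyy_inv, mul_assoc (_ * vel a b c n), show y⁻¹ * y ^ 6 = y * y * y ^ 3 by simp [pow_succ, mul_assoc],
          hy3', mul_one] <;> simp [pow_succ, mul_assoc]
  obtain ⟨m, hm, hmn⟩ := y_cubes n hn hn0
  set x := vel a b c m * h with hx
  have hxy : x * y * x⁻¹ = y⁻¹ := by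
    rw [hx, show vel a b c m * h * y * (vel a b c m * h)⁻¹ = vel a b c m * (h * y * h⁻¹) * (vel a b c m)⁻¹ by group,
      hhy, ← mul_assoc, BA.vel_mul K, hmn, ← vyy]
    rw [show y * y * vel a b c m * (y * y)⁻¹ * (y * y) * (vel a b c m)⁻¹ = (y * y * vel a b c m) * (vel a b c m)⁻¹ by group,
      mul_inv_cancel_right]
    exact (inv_eq_of_mul_eq_one_left (by rw [← hy3']; simp [pow_succ, mul_assoc])).symm
  have hxM : x ∈ M := mul_mem (K.A_le (BA.vel_mem m)) hh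
  have vx : ∀ n < 8, x * vv t v₂ v₃ n * x⁻¹ = vv t v₂ v₃ (lin2 1 4 2 n) := fun k hk => by
    rw [hx, show vel a b c m * h * vv t v₂ v₃ k * (vel a b c m * h)⁻¹ =
      vel a b c m * (h * vv t v₂ v₃ k * h⁻¹) * (vel a b c m)⁻¹ by group, vh k hk,
      hAC _ (BA.vel_mem m) _ (BV.vv_mem _)]
  obtain ⟨p, hp, hpa⟩ := BA.surj K BV' (K.A_conj x hxM a haA)
  obtain ⟨q, hq, hqb⟩ := BA.surj K BV' (K.A_conj x hxM b hbA)
  have hxyinv : x⁻¹ * y * x = y⁻¹ := by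
    have : y = x * y⁻¹ * x⁻¹ := by (conv_lhs => rw [← inv_inv y, ← hxy]); group
    conv_lhs => rw [this]
    group
  have hp13 : p = 1 ∨ p = 3 := by
    have hfix : vlin 1 16 61 p = p := by
      refine vinj _ (by unfold vlin; exact vadd_lt _ _) _ hp ?_
      rw [← vy', ← hpa, show y * (x * a * x⁻¹) * y⁻¹ = x * ((x⁻¹ * y * x) * a * (x⁻¹ * y * x)⁻¹) * x⁻¹ by group,
        hxyinv, inv_inv, show y⁻¹ * a * y = y⁻¹ * (y * a * y⁻¹) * y by rw [hya]]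
      group
    have hsq' : p % 2 + 2 * (p / 4 % 2) + 4 * (p / 16 % 2) = 1 := by
      refine BV.vv_inj K _ (by omega) 1 (by norm_num) ?_
      rw [← vval, ← hpa, show x * a * x⁻¹ * (x * a * x⁻¹) = x * (a * a) * x⁻¹ by group, hat]
      have := vx 1 (by norm_num)
      rw [v1]; rwa [v1, show lin2 1 4 2 1 = 1 from rfl, v1] at this
    exact (by decide +kernel : ∀ p < 64, vlin 1 16 61 p = p → p % 2 + 2 * (p / 4 % 2) + 4 * (p / 16 % 2) = 1 →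
      p = 1 ∨ p = 3) p hp hfix hsq'
  have hq32 : vadd q q = 32 := by
    refine vinj _ (vadd_lt _ _) _ (by norm_num) ?_
    rw [← BA.vel_mul K, ← hqb, show x * b * x⁻¹ * (x * b * x⁻¹) = x * (b * b) * x⁻¹ by group, hbb, ← v2',
      vx 2 (by norm_num), show vel a b c 32 = c ^ 2 by simp [vel], pow_two, hcc, show lin2 1 4 2 2 = 4 from rfl, v4']
  have hxc : x * c * x⁻¹ = vel a b c (vlin 1 (vlin 1 16 61 16) (vlin 1 16 61 61) q) := by
    conv_lhs => rw [← hyb]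
    rw [show x * (y * b * y⁻¹) * x⁻¹ = (x * y * x⁻¹) * (x * b * x⁻¹) * (x * y * x⁻¹)⁻¹ by group, hxy, hqb,
      show y⁻¹ = y * y from inv_eq_of_mul_eq_one_right (by rw [← hy3']; simp [pow_succ, mul_assoc]), vyy]
  have vxl : ∀ k, x * vel a b c k * x⁻¹ = vel a b c (xLin p q k) := BA.conj K hpa hqb hxc
  -- powers acting trivially on V lie in A
  have hx2A : x * x ∈ A := by
    refine A_of _ (mul_mem hxM hxM) fun k hk => ?_
    have l := (by decide +kernel : ∀ n ∈ [1, 2, 4], n < 8 ∧ lin2 1 4 2 n < 8 ∧ lin2 1 4 2 (lin2 1 4 2 n) = n) k hk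
    rw [show x * x * vv t v₂ v₃ k * (x * x)⁻¹ = x * (x * vv t v₂ v₃ k * x⁻¹) * x⁻¹ by group, vx k l.1, vx _ l.2.1,
      l.2.2]
  have hu4 : (x * z) ^ 4 ∈ A := by
    refine A_of _ (pow_mem (mul_mem hxM hz) 4) fun k hk => ?_
    have st : ∀ n < 8, lin2 2 4 5 n < 8 ∧ lin2 1 4 2 (lin2 2 4 5 n) < 8 := by decide +kernel
    have one : ∀ n < 8, (x * z) * vv t v₂ v₃ n * (x * z)⁻¹ = vv t v₂ v₃ (lin2 1 4 2 (lin2 2 4 5 n)) := fun n hn => by
      rw [show x * z * vv t v₂ v₃ n * (x * z)⁻¹ = x * (z * vv t v₂ v₃ n * z⁻¹) * x⁻¹ by group, vz n hn,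
        vx _ (st n hn).1]
    have l := (by decide +kernel : ∀ n ∈ [1, 2, 4], n < 8 ∧ lin2 1 4 2 (lin2 2 4 5 (lin2 1 4 2 (lin2 2 4 5
      (lin2 1 4 2 (lin2 2 4 5 (lin2 1 4 2 (lin2 2 4 5 n))))))) = n) k hk
    rw [show (x * z) ^ 4 * vv t v₂ v₃ k * ((x * z) ^ 4)⁻¹ = x * z * (x * z * (x * z * (x * z * vv t v₂ v₃ k *
      (x * z)⁻¹) * (x * z)⁻¹) * (x * z)⁻¹) * (x * z)⁻¹ by simp [pow_succ, mul_assoc], one k l.1]
    rw [one _ (st _ l.1).2, one _ (st _ (st _ l.1).2).2, one _ (st _ (st _ (st _ l.1).2).2).2, l.2]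
  have hu3 : (x * z * z) ^ 3 ∈ A := by
    refine A_of _ (pow_mem (mul_mem (mul_mem hxM hz) hz) 3) fun k hk => ?_
    have st : ∀ n < 8, lin2 2 4 5 n < 8 ∧ lin2 2 4 5 (lin2 2 4 5 n) < 8 ∧
        lin2 1 4 2 (lin2 2 4 5 (lin2 2 4 5 n)) < 8 := by decide +kernel
    have one : ∀ n < 8, (x * z * z) * vv t v₂ v₃ n * (x * z * z)⁻¹ =
        vv t v₂ v₃ (lin2 1 4 2 (lin2 2 4 5 (lin2 2 4 5 n))) := fun n hn => by
      rw [show x * z * z * vv t v₂ v₃ n * (x * z * z)⁻¹ = x * (z * (z * vv t v₂ v₃ n * z⁻¹) * z⁻¹) * x⁻¹ by group,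
        vz n hn, vz _ (st n hn).1, vx _ (st n hn).2.1]
    have l := (by decide +kernel : ∀ n ∈ [1, 2, 4], n < 8 ∧ lin2 1 4 2 (lin2 2 4 5 (lin2 2 4 5 (lin2 1 4 2
      (lin2 2 4 5 (lin2 2 4 5 (lin2 1 4 2 (lin2 2 4 5 (lin2 2 4 5 n)))))))) = n) k hk
    rw [show (x * z * z) ^ 3 * vv t v₂ v₃ k * ((x * z * z) ^ 3)⁻¹ = x * z * z * (x * z * z * (x * z * z *
      vv t v₂ v₃ k * (x * z * z)⁻¹) * (x * z * z)⁻¹) * (x * z * z)⁻¹ by simp [pow_succ, mul_assoc], one k l.1,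
      one _ (st _ l.1).2.2, one _ (st _ (st _ l.1).2.2).2.2, l.2]
  have hAtriv : ∀ g' ∈ A, ∀ k, g' * vel a b c k * g'⁻¹ = vel a b c k := fun g' hg' k => by
    rw [K.A_comm g' hg' _ (BA.vel_mem k), mul_inv_cancel_right]
  have hxlt : ∀ n, xLin p q n < 64 := fun n => by unfold xLin vlin; exact vadd_lt _ _
  have vzz : ∀ n, z * vel a b c n * z⁻¹ = vel a b c (zLin n) := vz'
  obtain ⟨rfl, rfl⟩ := x_option p hp13 q hq hq32 (fun k hk => by
    have hk64 : k < 64 := by simp at hk; omega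
    refine ⟨vinj _ (hxlt _) _ hk64 ?_, vinj _ (hxlt _) _ hk64 ?_, vinj _ (hxlt _) _ hk64 ?_⟩
    · rw [← vxl, ← vxl]
      rw [show x * (x * vel a b c k * x⁻¹) * x⁻¹ = x * x * vel a b c k * (x * x)⁻¹ by group, hAtriv _ hx2A]
    · simp only [← vxl, ← vzz]
      rw [show x * (z * (x * (z * (x * (z * (x * (z * vel a b c k * z⁻¹) * x⁻¹) * z⁻¹) * x⁻¹) * z⁻¹) * x⁻¹) * z⁻¹) * x⁻¹ =
        (x * z) ^ 4 * vel a b c k * ((x * z) ^ 4)⁻¹ by simp [pow_succ, mul_assoc], hAtriv _ hu4]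
    · simp only [← vxl, ← vzz]
      rw [show x * (z * (z * (x * (z * (z * (x * (z * (z * vel a b c k * z⁻¹) * z⁻¹) * x⁻¹) * z⁻¹) * z⁻¹) * x⁻¹) * z⁻¹) * z⁻¹) * x⁻¹ =
        (x * z * z) ^ 3 * vel a b c k * ((x * z * z) ^ 3)⁻¹ by simp [pow_succ, mul_assoc], hAtriv _ hu3])
  have hxl : ∀ k, xLin 3 48 k = vlin 3 48 12 k := fun k => by
    rw [xLin, show vlin 1 (vlin 1 16 61 16) (vlin 1 16 61 61) 48 = 12 by decide +kernel]
  -- the constants
  obtain ⟨k, hk, hkx⟩ := BA.surj K BV' hx2A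
  obtain ⟨f₁, hf1, hf1x⟩ := BA.surj K BV' hu4
  obtain ⟨f₂, hf2, hf2x⟩ := BA.surj K BV' hu3
  have hk02 : k = 0 ∨ k = 2 := by
    have e1' : xLin 3 48 k = k := vinj _ (hxlt _) _ hk (by rw [← vxl, ← hkx]; group)
    have e2' : vlin 1 16 61 k = k := vinj _ (by unfold vlin; exact vadd_lt _ _) _ hk (by
      rw [← vy', ← hkx, show y * (x * x) * y⁻¹ = x * x * ((x⁻¹ * (x⁻¹ * y * x) * x) * y⁻¹) by group, hxyinv,
        show x⁻¹ * y⁻¹ * x = (x⁻¹ * y * x)⁻¹ by group, hxyinv, inv_inv, mul_inv_cancel, mul_one])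
    exact (by decide +kernel : ∀ k < 64, xLin 3 48 k = k → vlin 1 16 61 k = k → k = 0 ∨ k = 2) k hk e1' e2'
  have hf2' : f₂ = 0 ∨ f₂ = 25 ∨ f₂ = 34 ∨ f₂ = 59 := fixed_two f₂ hf2 (vinj _ (by unfold vlin; exact vadd_lt _ _) _ hf2 (by
    rw [← hxl, ← vxl, ← vzz, ← vzz, ← hf2x]; simp [pow_succ, mul_assoc]))
  have hf1' : f₁ = 0 ∨ f₁ = 8 ∨ f₁ = 38 ∨ f₁ = 46 := fixed_one f₁ hf1 (vinj _ (by unfold vlin; exact vadd_lt _ _) _ hf1 (by
    rw [← hxl, ← vxl, ← vzz, ← hf1x]; simp [pow_succ, mul_assoc]))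
  -- the relators hold for x, and for a x
  have main : ∀ (x' : G) (f₁' f₂' : ℕ), x' ∈ M → x' * y * x'⁻¹ = y⁻¹ → x' * a * x'⁻¹ = a⁻¹ →
      x' * b * x'⁻¹ = c⁻¹ → x' * x' = vel a b c k → (x' * z) ^ 4 = vel a b c f₁' →
      (x' * z * z) ^ 3 = vel a b c f₂' → x' * v₂ * x'⁻¹ = v₃ →
      Frame t M A a z y x' k f₁' f₂' := by
    intro x' f₁' f₂' hx'M r1 r2 r3 r4 r5 r6 r7
    have inv : ∀ i, lets [a, z, y, x', 1] (CfsgLib.Sporadic.PairEnum.flp i) = (lets [a, z, y, x', 1] i)⁻¹ :=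
      lets_inv _
    have wb : (bWord.map (lets [a, z, y, x', 1])).prod = b := by simp [bWord, lets, hb, mul_assoc]
    have wc : (cWord.map (lets [a, z, y, x', 1])).prod = c := by simp [cWord, lets, hb, hc, mul_assoc]
    have wv : ∀ n, ((vecWord n).map (lets [a, z, y, x', 1])).prod = vel a b c n := fun n => by
      simp [mul_assoc, vecWord, List.map_flatten, List.prod_flatten, wb, wc, vel, lets]
    have cmv : ∀ u' w' : G, u' * w' = w' * u' → u' * w' * u'⁻¹ * w'⁻¹ = 1 := fun u' w' e => by rw [e]; group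
    refine ⟨haA, hz, hyM, hx'M, hat, ?_, ?_, fun p' hp' => BA.surj K BV' hp', vinj, r7, ?_⟩
    · exact fun e => BV.ne₁₂ e
    · intro w hw
      simp only [relM, List.mem_map] at hw
      obtain ⟨w₀, hw₀, rfl⟩ := hw
      rw [prod_red inv]
      simp only [List.mem_cons, List.not_mem_nil, or_false] at hw₀
      rcases hw₀ with rfl | rfl | rfl | rfl | rfl | rfl | rfl | rfl | rfl | rfl | rfl | rfl | rfl | rfl <;>
        (try simp only [cmWord, List.map_append, List.prod_append, prod_iw inv, wv, wb, wc]) <;>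
        simp [lets]
      · simpa [pow_succ, mul_assoc] using K.A_four a haA
      · rw [K.A_comm a haA b hbA]; group
      · rw [K.A_comm a haA c hcA]; group
      · simpa [pow_succ, mul_assoc] using hz7
      · simpa [pow_succ, mul_assoc] using hy3'
      · rw [← mul_assoc, ← mul_assoc, ← mul_assoc, hyz]; group
      · rw [← mul_assoc, ← mul_assoc, hya, mul_inv_cancel]
      · rw [huc, show vel a b c 25 = a * b ^ 2 * c by simp [vel], pow_two]; group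
      · rw [← mul_assoc, ← mul_assoc, r2, inv_mul_cancel]
      · rw [← mul_assoc, ← mul_assoc, r3, hc]; group
      · rw [← mul_assoc, ← mul_assoc, r1, inv_mul_cancel]
      · rw [r4, mul_inv_cancel]
      · rw [← r5]; simp [pow_succ, mul_assoc]
      · rw [← r6]; simp [pow_succ, mul_assoc]
    · have := vy 2 (by norm_num)
      rwa [v2', show lin2 1 4 7 2 = 4 from rfl, v4'] at this
  have hinva : vel a b c 3 = a⁻¹ := by
    rw [show vel a b c 3 = a ^ 3 by simp [vel]]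
    exact eq_inv_of_mul_eq_one_left (by rw [← pow_succ]; exact K.A_four a haA)
  have hinvc : vel a b c 48 = c⁻¹ := by
    rw [show vel a b c 48 = c ^ 3 by simp [vel]]
    exact eq_inv_of_mul_eq_one_left (by rw [← pow_succ]; exact K.A_four c hcA)
  have hv23 : x * v₂ * x⁻¹ = v₃ := by
    have := vx 2 (by norm_num)
    rwa [v2', show lin2 1 4 2 2 = 4 from rfl, v4'] at this
  by_cases hf : f₁ = 0 ∨ f₁ = 38
  · exact ⟨a, z, y, x, k, f₁, f₂, main x f₁ f₂ hxM hxy (by rw [hpa, hinva]) (by rw [hqb, hinvc]) hkx hf1x hf2x hv23,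
      hk02, hf, hf2'⟩
  -- replace x by a x
  have hax : x * a * x⁻¹ = a⁻¹ := by rw [hpa, hinva]
  have hu3' : (a * x * z * z) ^ 3 ∈ A := by
    refine A_of _ (pow_mem (mul_mem (mul_mem (mul_mem (K.A_le haA) hxM) hz) hz) 3) fun k' hk' => ?_
    have same : ∀ w ∈ V, a * x * z * z * w * (a * x * z * z)⁻¹ = x * z * z * w * (x * z * z)⁻¹ := fun w hw => by
      rw [show a * x * z * z * w * (a * x * z * z)⁻¹ = a * (x * z * z * w * (x * z * z)⁻¹) * a⁻¹ by group,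
        hAC a haA _ (K.conj_V (mul_mem (mul_mem hxM hz) hz) hw)]
    have hm := mul_mem (mul_mem hxM hz) hz
    have i1 := K.conj_V hm (BV.vv_mem k')
    rw [show (a * x * z * z) ^ 3 * vv t v₂ v₃ k' * ((a * x * z * z) ^ 3)⁻¹ = a * x * z * z * (a * x * z * z *
      (a * x * z * z * vv t v₂ v₃ k' * (a * x * z * z)⁻¹) * (a * x * z * z)⁻¹) * (a * x * z * z)⁻¹ by simp [pow_succ, mul_assoc],
      same _ (BV.vv_mem k'), same _ i1, same _ (K.conj_V hm i1)]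
    rw [show x * z * z * (x * z * z * (x * z * z * vv t v₂ v₃ k' * (x * z * z)⁻¹) * (x * z * z)⁻¹) * (x * z * z)⁻¹ =
      (x * z * z) ^ 3 * vv t v₂ v₃ k' * ((x * z * z) ^ 3)⁻¹ by simp [pow_succ, mul_assoc], hAC _ hu3 _ (BV.vv_mem _)]
  obtain ⟨g₂, hg2, hg2x⟩ := BA.surj K BV' hu3'
  have hg2' : g₂ = 0 ∨ g₂ = 25 ∨ g₂ = 34 ∨ g₂ = 59 := fixed_two g₂ hg2 (vinj _ (by unfold vlin; exact vadd_lt _ _) _ hg2 (by
    rw [← hxl, ← vxl, ← vzz, ← vzz]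
    conv_lhs => rw [← hAtriv a haA g₂, ← hg2x]
    rw [← hg2x]
    have hcz : z * z * ((a * x * z * z) ^ 3) * (z * z)⁻¹ ∈ A := K.A_conj _ (mul_mem hz hz) _ hu3'
    have hcx := K.A_conj _ hxM _ hcz
    calc x * (z * (z * (a * (a * x * z * z) ^ 3 * a⁻¹) * z⁻¹) * z⁻¹) * x⁻¹
        = x * (z * (z * ((a * x * z * z) ^ 3) * z⁻¹) * z⁻¹) * x⁻¹ := by
          rw [K.A_comm a haA _ hu3', mul_inv_cancel_right]
      _ = a * (x * (z * z * (a * x * z * z) ^ 3 * (z * z)⁻¹) * x⁻¹) * a⁻¹ := by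
          rw [K.A_comm a haA _ hcx, mul_inv_cancel_right]; group
      _ = (a * x * z * z) ^ 3 := by simp [pow_succ, mul_assoc]))
  obtain ⟨g₁, hg1, hg1e⟩ : ∃ g₁, (g₁ = 0 ∨ g₁ = 38) ∧ (a * x * z) ^ 4 = vel a b c g₁ := by
    refine ⟨vadd 8 f₁, by
      rcases hf1' with rfl | rfl | rfl | rfl <;> first | (norm_num at hf; done) | decide +kernel, ?_⟩
    have one : ∀ n, (x * z) * vel a b c n * (x * z)⁻¹ = vel a b c (vlin 3 48 12 (zLin n)) := fun n => by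
      rw [show x * z * vel a b c n * (x * z)⁻¹ = x * (z * vel a b c n * z⁻¹) * x⁻¹ by group, vzz, vxl, hxl]
    rw [← BA.vel_mul K, ← hf1x, ← gauge_one, ← BA.vel_mul K, ← BA.vel_mul K, ← BA.vel_mul K]
    simp only [← one, e1]
    simp [pow_succ, mul_assoc]
  refine ⟨a, z, y, a * x, k, g₁, g₂, main (a * x) g₁ g₂ (mul_mem (K.A_le haA) hxM) ?_ ?_ ?_ ?_ hg1e hg2x ?_,
    hk02, hg1, hg2'⟩
  · rw [show a * x * y * (a * x)⁻¹ = a * (x * y * x⁻¹) * a⁻¹ by group, hxy]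
    have hc' : Commute y a := mul_inv_eq_iff_eq_mul.1 hya
    rw [mul_inv_eq_iff_eq_mul]
    exact (hc'.inv_left.eq).symm
  · rw [show a * x * a * (a * x)⁻¹ = a * (x * a * x⁻¹) * a⁻¹ by group, hax]; group
  · rw [show a * x * b * (a * x)⁻¹ = a * (x * b * x⁻¹) * a⁻¹ by group, hqb, hinvc,
      K.A_comm a haA _ (inv_mem hcA), mul_inv_cancel_right]
  · rw [show a * x * (a * x) = a * (x * a * x⁻¹) * (x * x) by group, hax, mul_inv_cancel, one_mul, hkx]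
  · rw [show a * x * v₂ * (a * x)⁻¹ = a * (x * v₂ * x⁻¹) * a⁻¹ by group, hv23, hAC a haA v₃ BV.mem₃]

end CfsgLib.Recog.HsTwoLocal
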