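import Cfsg.Agent.Lib.Recog.HsTwoLocal.HCheck

/-!
# Classes of `O_2(C(t))` modulo its centre in the group (owner: helper28)
-/

set_option autoImplicit false

namespace CfsgLib.Recog.HsTwoLocal

open Subgroup CfsgLib.Sporadic.PairEnum
open CfsgLib.Recog.SporBound (Q)

/-! ### classes in the group -/

variable {G : Type*} [Group G] {t : G} {R M A V : Subgroup G} {a z y x : G} {el : ℕ → G} {C : Cert} {T : Q ℕ}
  {L bas : List ℕ} {F : ℕ}

/-- The class of an element of `R`. -/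
noncomputable def gcls (L : List ℕ) (el : ℕ → G) (g : G) : ℕ := by
  classical exact if h : ∃ c ∈ L, el c = g then clsOf L h.choose else 0

/-- The standing data for classes. -/
structure Classes (C : Cert) (T : Q ℕ) (t : G) (R M A V : Subgroup G) (a z y x : G) (el : ℕ → G) (L bas : List ℕ)
    (F : ℕ) : Prop where
  ctx : Ctx t R M A V
  tab : PTable C T t M a z y x el
  a_mem : a ∈ A
  t_eq : a * a = t
  b_mem : z * a * z⁻¹ ∈ A ∧ z * (z * a * z⁻¹) * z⁻¹ ∈ A
  memR : ∀ g, g ∈ R ↔ ∃ c ∈ L, el c = g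
  vsurj : ∀ {v}, v ∈ V → ∃ n < 8, v = vv t (z * a * z⁻¹ * (z * a * z⁻¹))
    (z * (z * a * z⁻¹) * z⁻¹ * (z * (z * a * z⁻¹) * z⁻¹)) n
  pairs : pairsOK C T = true
  ok : listOK C T L bas F = true

namespace Classes

variable (S : Classes C T t R M A V a z y x el L bas F)
include S

/-- What the check says. -/
theorem facts : L.length = 64 ∧ (∀ c ∈ L, c < 1536) ∧
    (∀ i < 64, L.getD i 0 = Tab.mul C T (chain4 C T bas (i / 4)) (aPow C (i % 4))) ∧
    (∀ k < 4, bas.getD k 0 ∈ L ∧ clsOf L (bas.getD k 0) = 2 ^ k) ∧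
    (∀ c ∈ L, ∀ d ∈ L, Tab.mul C T c d ∈ L ∧ clsOf L (Tab.mul C T c d) = Nat.xor (clsOf L c) (clsOf L d) ∧
      Nat.beq (Tab.mul C T c d) (Tab.mul C T d c) = !(fbit F (clsOf L c) (clsOf L d))) ∧
    (∀ v, 1 ≤ v → v < 16 → ∃ u < 16, fbit F u v = true) ∧
    (∀ c ∈ L, Tab.mul C T c (Tab.ev C [0]) = Tab.mul C T (Tab.ev C [0]) c) ∧
    bas.getD 0 0 = Tab.ev C [1, 1] ∧ bas.getD 1 0 = Tab.ev C [2, 2] := by
  have := S.ok
  simp only [listOK, Bool.and_eq_true, List.all_eq_true, List.any_eq_true, Nat.beq_eq, Nat.blt_eq,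
    List.contains_iff_mem, beq_iff_eq, List.mem_range, List.mem_range'_1] at this
  obtain ⟨h1, h2, h3, h4, h5, h6, h7, h8, h9⟩ := this
  exact ⟨h1, h2, h3, h4, fun c hc d hd => ⟨(h5 c hc d hd).1.1, (h5 c hc d hd).1.2, (h5 c hc d hd).2⟩,
    fun v hv hv' => h6 v ⟨hv, by omega⟩, h7, h8, h9⟩

theorem lt_of_mem {c : ℕ} (h : c ∈ L) : c < C.n := by
  rw [S.tab.n_eq]
  exact S.facts.2.1 c h

theorem gcls_el {c : ℕ} (h : c ∈ L) : gcls L el (el c) = clsOf L c := by
  have he : ∃ d ∈ L, el d = el c := ⟨c, h, rfl⟩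
  rw [gcls, dif_pos he, S.tab.inj _ (S.lt_of_mem he.choose_spec.1) _ (S.lt_of_mem h) he.choose_spec.2]

theorem gcls_lt {g : G} (h : g ∈ R) : gcls L el g < 16 := by
  obtain ⟨c, hc, rfl⟩ := (S.memR g).1 h
  rw [S.gcls_el hc, clsOf]
  have h64 : L.idxOf c < 64 := S.facts.1 ▸ List.idxOf_lt_length_iff.2 hc
  omega

theorem gcls_mul {g g' : G} (h : g ∈ R) (h' : g' ∈ R) :
    gcls L el (g * g') = Nat.xor (gcls L el g) (gcls L el g') ∧
      (g * g' = g' * g ↔ fbit F (gcls L el g) (gcls L el g') = false) := by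
  obtain ⟨c, hc, rfl⟩ := (S.memR g).1 h
  obtain ⟨d, hd, rfl⟩ := (S.memR g').1 h'
  obtain ⟨h1, h2, h3⟩ := S.facts.2.2.2.2.1 c hc d hd
  have l1 := S.lt_of_mem hc
  have l2 := S.lt_of_mem hd
  rw [← S.tab.elts.el_mul l1 l2, ← S.tab.elts.el_mul l2 l1, S.gcls_el hc, S.gcls_el hd, S.gcls_el h1, h2]
  refine ⟨rfl, ⟨fun e => ?_, fun e => ?_⟩⟩
  · have hb : Nat.beq (Tab.mul C T c d) (Tab.mul C T d c) = true :=
      Nat.beq_eq ▸ S.tab.inj _ (S.tab.elts.mul_lt l1 l2) _ (S.tab.elts.mul_lt l2 l1) e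
    rw [hb] at h3
    simpa using h3.symm
  · rw [e] at h3
    exact congrArg el (Nat.eq_of_beq_eq_true (by simpa using h3))

theorem a_R : a ∈ R ∧ gcls L el a = 0 := by
  have hlen : L.length = 64 := S.facts.1
  have h1 := S.facts.2.2.1 1 (by norm_num)
  have hc : chain4 C T bas 0 = 0 := by
    show Tab.mul C T (Tab.mul C T (Tab.mul C T 0 0) 0) 0 = 0
    have hz : ∀ d, Tab.mul C T 0 d = d := fun d => by
      unfold Tab.mul Tab.mulAux
      cases C.n with
      | zero => rfl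
      | succ n => rfl
    rw [hz, hz, hz]
  obtain ⟨hl, he⟩ := S.tab.ev (w := [0]) (by simp)
  simp [pLets, lets, seven] at he
  have h0' : 0 < C.n := by rw [S.tab.n_eq]; norm_num
  have hm : Tab.mul C T 0 (Tab.ev C [0]) = Tab.ev C [0] :=
    S.tab.inj _ (S.tab.elts.mul_lt h0' hl) _ hl (by rw [S.tab.elts.el_mul h0' hl, S.tab.elts.el_zero, one_mul])
  rw [show 1 / 4 = 0 from rfl, hc, show aPow C (1 % 4) = Tab.ev C [0] from rfl, hm,
    List.getD_eq_getElem _ _ (by omega : 1 < L.length)] at h1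
  have hmem : Tab.ev C [0] ∈ L := h1 ▸ List.getElem_mem _
  refine ⟨(S.memR a).2 ⟨_, hmem, he⟩, ?_⟩
  rw [← he, S.gcls_el hmem, clsOf]
  have hle : L.idxOf (Tab.ev C [0]) ≤ 1 := by
    by_contra hlt
    have hlt' : 1 < L.idxOf (Tab.ev C [0]) := not_le.1 hlt
    rw [List.idxOf, List.lt_findIdx_iff] at hlt'
    have := (hlt'.2 1 le_rfl)
    simp [h1] at this
  omega

/-- `a` is central in `R`. -/
theorem a_comm {r : G} (hr : r ∈ R) : r * a = a * r := by
  obtain ⟨c, hc, rfl⟩ := (S.memR r).1 hr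
  obtain ⟨hl, he⟩ := S.tab.ev (w := [0]) (by simp)
  simp [pLets, lets, seven] at he
  rw [← he, ← S.tab.elts.el_mul (S.lt_of_mem hc) hl, ← S.tab.elts.el_mul hl (S.lt_of_mem hc),
    S.facts.2.2.2.2.2.2.1 c hc]

theorem gcls_one : gcls L el (1 : G) = 0 := by
  have h := (S.gcls_mul (one_mem R) (one_mem R)).1
  rw [one_mul] at h
  rw [h]
  exact Nat.xor_self _

theorem gcls_pow {g : G} (hg : g ∈ R) (h : gcls L el g = 0) (n : ℕ) : gcls L el (g ^ n) = 0 := by
  induction n with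
  | zero => rw [pow_zero]; exact S.gcls_one
  | succ n ih =>
    rw [pow_succ, (S.gcls_mul (pow_mem hg n) hg).1, ih, h]
    rfl

/-- A basis element. -/
theorem bas_mem {k : ℕ} (hk : k < 4) : el (bas.getD k 0) ∈ R ∧ gcls L el (el (bas.getD k 0)) = 2 ^ k := by
  obtain ⟨h1, h2⟩ := S.facts.2.2.2.1 k hk
  exact ⟨(S.memR _).2 ⟨_, h1, rfl⟩, by rw [S.gcls_el h1, h2]⟩

/-- Every element is a selection of basis elements times a power of `a`. -/
theorem decomp {g : G} (hg : g ∈ R) : ∃ j < 4,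
    g = el (bas.getD 0 0) ^ (gcls L el g % 2) * el (bas.getD 1 0) ^ (gcls L el g / 2 % 2) *
      el (bas.getD 2 0) ^ (gcls L el g / 4 % 2) * el (bas.getD 3 0) ^ (gcls L el g / 8 % 2) * a ^ j := by
  obtain ⟨c, hc, rfl⟩ := (S.memR g).1 hg
  have hlen : L.length = 64 := S.facts.1
  have hi : L.idxOf c < 64 := hlen ▸ List.idxOf_lt_length_iff.2 hc
  refine ⟨L.idxOf c % 4, Nat.mod_lt _ (by norm_num), ?_⟩
  rw [S.gcls_el hc]
  have h := S.facts.2.2.1 _ hi
  rw [List.getD_eq_getElem _ _ (by omega : L.idxOf c < L.length), List.getElem_idxOf] at h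
  obtain ⟨hl, he⟩ := S.tab.ev (w := List.replicate (L.idxOf c % 4) 0) (fun j hj => by
    rw [List.eq_of_mem_replicate hj]; norm_num)
  have hb : ∀ k < 4, bas.getD k 0 < C.n := fun k hk => by
    exact S.lt_of_mem (S.facts.2.2.2.1 k hk).1
  have h0' : 0 < C.n := by rw [S.tab.n_eq]; norm_num
  have sel : ∀ v k, k < 4 → cond (Nat.beq (v % 2) 1) (bas.getD k 0) 0 < C.n ∧
      el (cond (Nat.beq (v % 2) 1) (bas.getD k 0) 0) = el (bas.getD k 0) ^ (v % 2) := fun v k hk => by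
    rcases Nat.mod_two_eq_zero_or_one v with e | e <;> rw [e]
    · exact ⟨h0', by rw [pow_zero]; exact S.tab.elts.el_zero⟩
    · exact ⟨hb k hk, (pow_one _).symm⟩
  set v := L.idxOf c / 4
  obtain ⟨a0, b0⟩ := sel v 0 (by norm_num)
  obtain ⟨a1, b1⟩ := sel (v / 2) 1 (by norm_num)
  obtain ⟨a2, b2⟩ := sel (v / 4) 2 (by norm_num)
  obtain ⟨a3, b3⟩ := sel (v / 8) 3 (by norm_num)
  have m1 := S.tab.elts.mul_lt a0 a1
  have m2 := S.tab.elts.mul_lt m1 a2
  have m3 := S.tab.elts.mul_lt m2 a3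
  show el c = el (bas.getD 0 0) ^ (v % 2) * el (bas.getD 1 0) ^ (v / 2 % 2) * el (bas.getD 2 0) ^ (v / 4 % 2) *
    el (bas.getD 3 0) ^ (v / 8 % 2) * a ^ (L.idxOf c % 4)
  rw [← b0, ← b1, ← b2, ← b3, ← S.tab.elts.el_mul a0 a1, ← S.tab.elts.el_mul m1 a2, ← S.tab.elts.el_mul m2 a3]
  conv_lhs => rw [h]
  show el (Tab.mul C T (chain4 C T bas v) (Tab.ev C (List.replicate (L.idxOf c % 4) 0))) = _
  unfold chain4
  rw [S.tab.elts.el_mul m3 hl]
  congr 1
  rw [he, List.map_replicate,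
    List.prod_replicate]
  rfl

/-- Elements of class zero are powers of `a`. -/
theorem of_zero {g : G} (hg : g ∈ R) (h : gcls L el g = 0) : ∃ j < 4, g = a ^ j := by
  obtain ⟨j, hj, e⟩ := S.decomp hg
  exact ⟨j, hj, by rw [e, h]; simp⟩

theorem central {g : G} (hg : g ∈ R) (h : ∀ r ∈ R, r * g = g * r) : gcls L el g = 0 := by
  by_contra hne
  have hlt := S.gcls_lt hg
  obtain ⟨u, hu', hb⟩ := S.facts.2.2.2.2.2.1 (gcls L el g) (by omega) hlt
  -- an element of class u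
  set r := el (bas.getD 0 0) ^ (u % 2) * el (bas.getD 1 0) ^ (u / 2 % 2) * el (bas.getD 2 0) ^ (u / 4 % 2) *
    el (bas.getD 3 0) ^ (u / 8 % 2)
  have hr : r ∈ R ∧ gcls L el r = u := by
    have p : ∀ k < 4, ∀ e < 2, el (bas.getD k 0) ^ e ∈ R ∧ gcls L el (el (bas.getD k 0) ^ e) = e * 2 ^ k :=
      fun k hk e he => by
      interval_cases e
      · rw [pow_zero, S.gcls_one, zero_mul]; exact ⟨one_mem R, rfl⟩
      · rw [pow_one, one_mul]; exact S.bas_mem hk
    obtain ⟨q0, w0⟩ := p 0 (by norm_num) (u % 2) (Nat.mod_lt _ (by norm_num))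
    obtain ⟨q1, w1⟩ := p 1 (by norm_num) (u / 2 % 2) (Nat.mod_lt _ (by norm_num))
    obtain ⟨q2, w2⟩ := p 2 (by norm_num) (u / 4 % 2) (Nat.mod_lt _ (by norm_num))
    obtain ⟨q3, w3⟩ := p 3 (by norm_num) (u / 8 % 2) (Nat.mod_lt _ (by norm_num))
    refine ⟨mul_mem (mul_mem (mul_mem q0 q1) q2) q3, ?_⟩
    show gcls L el (_ * _ * _ * _) = u
    rw [(S.gcls_mul (mul_mem (mul_mem q0 q1) q2) q3).1, (S.gcls_mul (mul_mem q0 q1) q2).1, (S.gcls_mul q0 q1).1,
      w0, w1, w2, w3]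
    exact (by decide +kernel : ∀ u < 16, Nat.xor (Nat.xor (Nat.xor (u % 2 * 2 ^ 0) (u / 2 % 2 * 2 ^ 1))
      (u / 4 % 2 * 2 ^ 2)) (u / 8 % 2 * 2 ^ 3) = u) u hu'
  have h2 := (S.gcls_mul hr.1 hg).2.1 (h r hr.1)
  rw [hr.2, hb] at h2
  exact absurd h2 (by simp)

omit S in
/-- The matrix of an element normalising `R`. -/
noncomputable def mat (L : List ℕ) (el : ℕ → G) (bas : List ℕ) (g : G) : ℕ :=
  pack4 (gcls L el (g * el (bas.getD 0 0) * g⁻¹)) (gcls L el (g * el (bas.getD 1 0) * g⁻¹))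
    (gcls L el (g * el (bas.getD 2 0) * g⁻¹)) (gcls L el (g * el (bas.getD 3 0) * g⁻¹))

theorem conj_a {g : G} (hg : g ∈ centralizer ({t} : Set G)) : ∃ j < 4, g * a * g⁻¹ = a ^ j := by
  have hR := S.ctx.R_conj
  obtain ⟨haR, -⟩ := S.a_R
  refine S.of_zero (hR g hg a haR) (S.central (hR g hg a haR) fun r hr => ?_)
  have hr' : g⁻¹ * r * g ∈ R := by
    have := hR g⁻¹ (inv_mem hg) r hr
    rwa [inv_inv] at this
  have hc : g⁻¹ * r * g * a = a * (g⁻¹ * r * g) := S.a_comm hr'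
  calc r * (g * a * g⁻¹) = g * (g⁻¹ * r * g * a) * g⁻¹ := by group
    _ = g * (a * (g⁻¹ * r * g)) * g⁻¹ := by rw [hc]
    _ = g * a * g⁻¹ * r := by group

theorem conj_mem {g r : G} (hg : g ∈ centralizer ({t} : Set G)) (hr : r ∈ R) : g * r * g⁻¹ ∈ R :=
  S.ctx.R_conj g hg r hr

theorem nib_mat {g : G} (hg : g ∈ centralizer ({t} : Set G)) {k : ℕ} (hk : k < 4) :
    nib (mat L el bas g) k = gcls L el (g * el (bas.getD k 0) * g⁻¹) := by
  have h : ∀ k < 4, gcls L el (g * el (bas.getD k 0) * g⁻¹) < 16 := fun k hk =>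
    S.gcls_lt (S.conj_mem hg (S.bas_mem hk).1)
  obtain ⟨e0, e1, e2, e3⟩ := nib_pack (h 0 (by norm_num)) (h 1 (by norm_num)) (h 2 (by norm_num)) (h 3 (by norm_num))
  interval_cases k <;> assumption

theorem mat_lt {g : G} (hg : g ∈ centralizer ({t} : Set G)) : mat L el bas g < 65536 := by
  have h : ∀ k < 4, gcls L el (g * el (bas.getD k 0) * g⁻¹) < 16 := fun k hk =>
    S.gcls_lt (S.conj_mem hg (S.bas_mem hk).1)
  have := h 0 (by norm_num); have := h 1 (by norm_num); have := h 2 (by norm_num); have := h 3 (by norm_num)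
  simp only [mat, pack4]
  omega

/-- Conjugation is linear on classes. -/
theorem conj_lin {g r : G} (hg : g ∈ centralizer ({t} : Set G)) (hr : r ∈ R) :
    gcls L el (g * r * g⁻¹) = app (mat L el bas g) (gcls L el r) := by
  obtain ⟨j, -, e⟩ := S.decomp hr
  obtain ⟨i, -, ei⟩ := S.conj_a hg
  set v := gcls L el r with hv
  have p : ∀ k < 4, ∀ d < 2, g * el (bas.getD k 0) ^ d * g⁻¹ ∈ R ∧
      gcls L el (g * el (bas.getD k 0) ^ d * g⁻¹) = cond (Nat.beq d 1) (nib (mat L el bas g) k) 0 := fun k hk d hd => by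
    refine ⟨S.conj_mem hg (pow_mem (S.bas_mem hk).1 _), ?_⟩
    interval_cases d
    · rw [pow_zero, mul_one, mul_inv_cancel, S.gcls_one]; rfl
    · rw [pow_one, S.nib_mat hg hk]; rfl
  obtain ⟨q0, w0⟩ := p 0 (by norm_num) (v % 2) (Nat.mod_lt _ (by norm_num))
  obtain ⟨q1, w1⟩ := p 1 (by norm_num) (v / 2 % 2) (Nat.mod_lt _ (by norm_num))
  obtain ⟨q2, w2⟩ := p 2 (by norm_num) (v / 4 % 2) (Nat.mod_lt _ (by norm_num))
  obtain ⟨q3, w3⟩ := p 3 (by norm_num) (v / 8 % 2) (Nat.mod_lt _ (by norm_num))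
  have e' : g * r * g⁻¹ = (g * el (bas.getD 0 0) ^ (v % 2) * g⁻¹) * (g * el (bas.getD 1 0) ^ (v / 2 % 2) * g⁻¹) *
      (g * el (bas.getD 2 0) ^ (v / 4 % 2) * g⁻¹) * (g * el (bas.getD 3 0) ^ (v / 8 % 2) * g⁻¹) *
      (g * a ^ j * g⁻¹) := by
    conv_lhs => rw [e]
    group
  rw [e', conj_pow' g a j, ei, ← pow_mul]
  have za := S.gcls_pow S.a_R.1 S.a_R.2 (i * j)
  rw [(S.gcls_mul (mul_mem (mul_mem (mul_mem q0 q1) q2) q3) (pow_mem S.a_R.1 _)).1,
    (S.gcls_mul (mul_mem (mul_mem q0 q1) q2) q3).1, (S.gcls_mul (mul_mem q0 q1) q2).1, (S.gcls_mul q0 q1).1,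
    w0, w1, w2, w3, za]
  exact Nat.xor_zero _

theorem mat_mul {g g' : G} (hg : g ∈ centralizer ({t} : Set G)) (hg' : g' ∈ centralizer ({t} : Set G)) :
    mat L el bas (g * g') = comp (mat L el bas g) (mat L el bas g') := by
  have h : ∀ k < 4, gcls L el (g * g' * el (bas.getD k 0) * (g * g')⁻¹) =
      app (mat L el bas g) (nib (mat L el bas g') k) := fun k hk => by
    rw [S.nib_mat hg' hk, ← S.conj_lin hg (S.conj_mem hg' (S.bas_mem hk).1)]
    congr 1
    group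
  rw [mat, comp, h 0 (by norm_num), h 1 (by norm_num), h 2 (by norm_num), h 3 (by norm_num)]

theorem mat_one : mat L el bas (1 : G) = 33825 := by
  simp only [mat, one_mul, inv_one, mul_one, (S.bas_mem (k := 0) (by norm_num)).2,
    (S.bas_mem (k := 1) (by norm_num)).2, (S.bas_mem (k := 2) (by norm_num)).2,
    (S.bas_mem (k := 3) (by norm_num)).2]
  rfl

theorem mat_pow {g : G} (hg : g ∈ centralizer ({t} : Set G)) (n : ℕ) :
    mat L el bas (g ^ n) = mpow (mat L el bas g) n := by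
  induction n with
  | zero => rw [pow_zero]; exact S.mat_one
  | succ n ih => rw [pow_succ', S.mat_mul hg (pow_mem hg n), ih]; rfl

theorem el_mem {c : ℕ} (hc : c < C.n) : el c ∈ centralizer ({t} : Set G) :=
  mem_centralizer_singleton_iff.2 (S.tab.mem c hc).2

variable {gens mats : List ℕ}

theorem mat_gen (hG : gensOK C T L bas gens mats = true) {i : ℕ} (hi : i < 6) :
    Tab.ev C [i] < C.n ∧ mat L el bas (el (Tab.ev C [i])) = gens.getD i 0 := by
  have := hG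
  simp only [gensOK, Bool.and_eq_true, List.all_eq_true, Nat.beq_eq, Nat.blt_eq, List.mem_range,
    List.contains_iff_mem] at this
  obtain ⟨⟨hlt, -⟩, hk⟩ := this.2 i hi
  obtain ⟨h1, h2⟩ := S.tab.ev (w := [i]) (by simpa using hi)
  refine ⟨h1, ?_⟩
  have hj : ∀ j ∈ (cjPairs.getD i ([], [])).2, j < 6 := by
    interval_cases i <;> simp [cjPairs]
  obtain ⟨l2, e2⟩ := S.tab.ev hj
  have hinv : el (Tab.ev C (cjPairs.getD i ([], [])).2) = (el (Tab.ev C [i]))⁻¹ := by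
    refine eq_inv_of_mul_eq_one_right ?_
    have hp := S.pairs
    simp only [pairsOK, List.all_eq_true, Nat.beq_eq] at hp
    have hin : cjPairs.getD i ([], []) ∈ cjPairs ∧ (cjPairs.getD i ([], [])).1 = [i] := by
      interval_cases i <;> simp [cjPairs]
    have h := hp _ hin.1
    rw [hin.2] at h
    rw [← S.tab.elts.el_mul h1 l2, h, S.tab.elts.el_zero]
  have hcl : ∀ k < 4, gcls L el (el (Tab.ev C [i]) * el (bas.getD k 0) * (el (Tab.ev C [i]))⁻¹) =
      nib (gens.getD i 0) k := fun k hk' => by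
    have hb := S.lt_of_mem (S.facts.2.2.2.1 k hk').1
    rw [← hk k hk', ← hinv, ← S.tab.elts.el_mul h1 hb, ← S.tab.elts.el_mul (S.tab.elts.mul_lt h1 hb) l2]
    have hm : el (Tab.mul C T (Tab.mul C T (Tab.ev C [i]) (bas.getD k 0)) (Tab.ev C (cjPairs.getD i ([], [])).2)) ∈ R := by
      rw [S.tab.elts.el_mul (S.tab.elts.mul_lt h1 hb) l2, S.tab.elts.el_mul h1 hb, hinv]
      exact S.conj_mem (S.el_mem h1) (S.bas_mem hk').1
    obtain ⟨c, hc, ec⟩ := (S.memR _).1 hm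
    rw [S.tab.inj _ (S.lt_of_mem hc) _ (S.tab.elts.mul_lt (S.tab.elts.mul_lt h1 hb) l2) ec] at hc
    exact S.gcls_el hc
  rw [mat, hcl 0 (by norm_num), hcl 1 (by norm_num), hcl 2 (by norm_num), hcl 3 (by norm_num)]
  have e : ∀ n k : ℕ, nib n k = n / 2 ^ (4 * k) % 16 := fun n k => by
    show (n >>> (4 * k)) &&& 15 = _
    rw [Nat.shiftRight_eq_div_pow, show 15 = 2 ^ 4 - 1 from rfl, Nat.and_two_pow_sub_one_eq_mod]
  generalize gens.getD i 0 = gg at hlt ⊢
  simp only [e, pack4]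
  norm_num
  omega

theorem mat_el (hG : gensOK C T L bas gens mats = true) : ∀ c < C.n, mat L el bas (el c) ∈ mats := by
  have := hG
  simp only [gensOK, Bool.and_eq_true, List.all_eq_true, Nat.beq_eq, Nat.blt_eq, List.mem_range,
    List.contains_iff_mem] at this
  intro c
  induction c using Nat.strong_induction_on with
  | _ c ih =>
    intro hc
    by_cases hc0 : c = 0
    · rw [hc0, S.tab.elts.el_zero, S.mat_one]; exact this.1.2
    obtain ⟨hp, hj, hx⟩ := S.tab.elts.step_spec hc hc0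
    rw [S.tab.kl_eq] at hj
    have hj' : Tab.step T c % 16 < 6 := hj
    obtain ⟨hl, hm⟩ := S.mat_gen hG hj'
    have e : el c = el (Tab.ev C [Tab.step T c % 16]) * el (Tab.step T c / 16) := by
      conv_lhs => rw [← hx]
      rw [S.tab.elts.el_nx _ (by omega) _ (by rw [S.tab.kl_eq]; exact hj)]
      congr 1
      obtain ⟨-, h2⟩ := S.tab.elts.ev_spec (by omega) (w := [Tab.step T c % 16]) (by
        rw [S.tab.kl_eq]; simpa using hj')
      rw [h2]
      simp
    rw [e, S.mat_mul (S.el_mem hl) (S.el_mem (by omega)), hm]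
    exact (this.2 _ hj').1.2 _ (ih _ hp (by omega))

theorem V_class {v : G} (hv : v ∈ V) : gcls L el v < 4 := by
  obtain ⟨hb, hc⟩ := S.b_mem
  obtain ⟨l0, e0⟩ := S.tab.ev (w := [1, 1]) (by simp)
  obtain ⟨l1, e1⟩ := S.tab.ev (w := [2, 2]) (by simp)
  replace e0 : el (Tab.ev C [1, 1]) = z * a * z⁻¹ * (z * a * z⁻¹) := by rw [e0]; simp [pLets, lets, seven]
  replace e1 : el (Tab.ev C [2, 2]) = z * (z * a * z⁻¹) * z⁻¹ * (z * (z * a * z⁻¹) * z⁻¹) := by
    rw [e1]; simp [pLets, lets, seven]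
  obtain ⟨b0, c0⟩ := S.bas_mem (k := 0) (by norm_num)
  obtain ⟨b1, c1⟩ := S.bas_mem (k := 1) (by norm_num)
  rw [S.facts.2.2.2.2.2.2.2.1, e0] at b0 c0
  rw [S.facts.2.2.2.2.2.2.2.2, e1] at b1 c1
  obtain ⟨n, hn, rfl⟩ := S.vsurj hv
  have hta := S.gcls_pow S.a_R.1 S.a_R.2
  have p : ∀ (g : G) (m d : ℕ), g ∈ R → gcls L el g = m → d < 2 → g ^ d ∈ R ∧ gcls L el (g ^ d) = d * m :=
    fun g m d hg hm hd => by
    interval_cases d
    · rw [pow_zero, S.gcls_one, zero_mul]; exact ⟨one_mem R, rfl⟩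
    · rw [pow_one, one_mul]; exact ⟨hg, hm⟩
  have ht : t ∈ R ∧ gcls L el t = 0 := by
    rw [← S.t_eq, ← pow_two]
    exact ⟨pow_mem S.a_R.1 2, hta 2⟩
  obtain ⟨q0, w0⟩ := p _ _ (n % 2) ht.1 ht.2 (Nat.mod_lt _ (by norm_num))
  obtain ⟨q1, w1⟩ := p _ _ (n / 2 % 2) b0 c0 (Nat.mod_lt _ (by norm_num))
  obtain ⟨q2, w2⟩ := p _ _ (n / 4 % 2) b1 c1 (Nat.mod_lt _ (by norm_num))
  rw [vv, mul_assoc, (S.gcls_mul q0 (mul_mem q1 q2)).1, (S.gcls_mul q1 q2).1, w0, w1, w2]
  exact (by decide +kernel : ∀ n < 8, Nat.xor (n % 2 * 0) (Nat.xor (n / 2 % 2 * 2 ^ 0) (n / 4 % 2 * 2 ^ 1)) < 4) n hn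

theorem class_A {r : G} (hr : r ∈ R) (h : gcls L el r < 4) : r ∈ A := by
  obtain ⟨j, -, e⟩ := S.decomp hr
  obtain ⟨l0, e0⟩ := S.tab.ev (w := [1, 1]) (by simp)
  obtain ⟨l1, e1⟩ := S.tab.ev (w := [2, 2]) (by simp)
  replace e0 : el (Tab.ev C [1, 1]) = z * a * z⁻¹ * (z * a * z⁻¹) := by rw [e0]; simp [pLets, lets, seven]
  replace e1 : el (Tab.ev C [2, 2]) = z * (z * a * z⁻¹) * z⁻¹ * (z * (z * a * z⁻¹) * z⁻¹) := by
    rw [e1]; simp [pLets, lets, seven]
  rw [e, show gcls L el r / 4 % 2 = 0 by omega, show gcls L el r / 8 % 2 = 0 by omega, pow_zero, pow_zero, mul_one,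
    mul_one, S.facts.2.2.2.2.2.2.2.1, S.facts.2.2.2.2.2.2.2.2, e0, e1]
  exact mul_mem (mul_mem (pow_mem (mul_mem S.b_mem.1 S.b_mem.1) _)
    (pow_mem (mul_mem S.b_mem.2 S.b_mem.2) _)) (pow_mem S.a_mem _)

variable {h : G}

/-- Every element of `C(t)` is a table element times a power of `h`. -/
theorem cover [Finite G] (h5 : h ^ 5 = 1) (h1 : h ≠ 1) (hh : h ∈ centralizer ({t} : Set G)) {g : G}
    (hg : g ∈ centralizer ({t} : Set G)) : ∃ c < 1536, ∃ l < 5, g = el c * h ^ l := by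
  haveI : Fact (Nat.Prime 5) := ⟨by norm_num⟩
  have ho : orderOf h = 5 := orderOf_eq_prime h5 h1
  let f : Fin 5 × Fin 1536 → centralizer ({t} : Set G) := fun p =>
    ⟨el p.2.1 * h ^ p.1.1, mul_mem (S.el_mem (by rw [S.tab.n_eq]; exact p.2.2)) (pow_mem hh _)⟩
  have hM : ∀ n, ¬ 5 ∣ n → h ^ n ∉ M := fun n hn hm => by
    have h2 := Subgroup.orderOf_dvd_natCard M hm
    rw [(Nat.Coprime.orderOf_pow (by
      rw [ho]; exact (Nat.Prime.coprime_iff_not_dvd (by norm_num : Nat.Prime 5)).2 hn)).trans ho, S.ctx.card_M] at h2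
    norm_num at h2
  have key : ∀ i j c d, c < C.n → d < C.n → i ≤ j → j < 5 → el c * h ^ i = el d * h ^ j → i = j := by
    intro i j c d hc hd hij hj e
    by_contra hne
    refine hM (j - i) (fun hdvd => by
      have := Nat.le_of_dvd (by omega) hdvd
      omega) ?_
    rw [← pow_sub_mul_pow h hij, ← mul_assoc] at e
    rw [show h ^ (j - i) = (el d)⁻¹ * el c by rw [mul_right_cancel e, inv_mul_cancel_left]]
    exact mul_mem (inv_mem (S.tab.mem d hd).1) (S.tab.mem c hc).1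
  have hf : Function.Injective f := by
    rintro ⟨⟨i, hi⟩, ⟨c, hc⟩⟩ ⟨⟨j, hj⟩, ⟨d, hd⟩⟩ e
    have e' : el c * h ^ i = el d * h ^ j := congrArg Subtype.val e
    rw [← S.tab.n_eq] at hc hd
    have hij : i = j := by
      rcases Nat.le_total i j with hle | hle
      · exact key i j c d hc hd hle hj e'
      · exact (key j i d c hd hc hle hi e'.symm).symm
    subst hij
    rw [Prod.mk.injEq]
    exact ⟨rfl, Fin.ext (S.tab.inj c hc d hd (mul_right_cancel e'))⟩
  have hbij : Function.Bijective f := (Nat.bijective_iff_injective_and_card f).2 ⟨hf, by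
    rw [Nat.card_prod, Nat.card_fin, Nat.card_fin, S.ctx.card_C]⟩
  obtain ⟨⟨⟨l, hl⟩, ⟨c, hc⟩⟩, e⟩ := hbij.2 ⟨g, hg⟩
  exact ⟨c, hc, l, hl, (congrArg Subtype.val e).symm⟩

/-- The matrix of an element of order five is among the candidates. -/
theorem candidate [Finite G] {good : List ℕ} (hG : gensOK C T L bas gens mats = true)
    (hE : enumOK F gens mats good = true) (h5 : h ^ 5 = 1) (h1 : h ≠ 1) (hh : h ∈ centralizer ({t} : Set G)) :
    mat L el bas h ∈ good := by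
  haveI : Fact (Nat.Prime 5) := ⟨by norm_num⟩
  have ho : orderOf h = 5 := orderOf_eq_prime h5 h1
  have hne : ∀ k < 4, gcls L el (h * el (bas.getD k 0) * h⁻¹) ≠ 0 := fun k hk h0 => by
    obtain ⟨j, -, e⟩ := S.of_zero (S.conj_mem hh (S.bas_mem hk).1) h0
    obtain ⟨i, -, ei⟩ := S.conj_a (inv_mem hh)
    have e2 : el (bas.getD k 0) = a ^ (i * j) := by
      rw [pow_mul, ← ei, ← conj_pow' h⁻¹ a j, ← e]; group
    have h2 := (S.bas_mem hk).2
    rw [e2, S.gcls_pow S.a_R.1 S.a_R.2] at h2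
    interval_cases k <;> norm_num at h2
  have pair : ∀ i < 4, ∀ j < 4, fbit F (gcls L el (h * el (bas.getD i 0) * h⁻¹))
      (gcls L el (h * el (bas.getD j 0) * h⁻¹)) = fbit F (2 ^ i) (2 ^ j) := fun i hi j hj => by
    have p1 := (S.gcls_mul (S.conj_mem hh (S.bas_mem hi).1) (S.conj_mem hh (S.bas_mem hj).1)).2
    have p2 := (S.gcls_mul (S.bas_mem hi).1 (S.bas_mem hj).1).2
    rw [(S.bas_mem hi).2, (S.bas_mem hj).2] at p2
    have e : h * el (bas.getD i 0) * h⁻¹ * (h * el (bas.getD j 0) * h⁻¹) =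
        h * el (bas.getD j 0) * h⁻¹ * (h * el (bas.getD i 0) * h⁻¹) ↔
        el (bas.getD i 0) * el (bas.getD j 0) = el (bas.getD j 0) * el (bas.getD i 0) := by
      constructor
      · intro e
        have := congrArg (fun g => h⁻¹ * g * h) e
        simpa [mul_assoc] using this
      · intro e
        rw [show h * el (bas.getD i 0) * h⁻¹ * (h * el (bas.getD j 0) * h⁻¹) =
          h * (el (bas.getD i 0) * el (bas.getD j 0)) * h⁻¹ by group, e]
        group
    rw [p1, p2] at e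
    generalize fbit F (gcls L el (h * el (bas.getD i 0) * h⁻¹)) (gcls L el (h * el (bas.getD j 0) * h⁻¹)) = u at e ⊢
    generalize fbit F (2 ^ i) (2 ^ j) = w at e ⊢
    cases u <;> cases w <;> simp at e <;> rfl
  have hcand : candOK gens mats (mat L el bas h) = true := by
    have hM : ∀ n, ¬ 5 ∣ n → h ^ n ∉ M := fun n hn hm => by
      have h2 := Subgroup.orderOf_dvd_natCard M hm
      rw [(Nat.Coprime.orderOf_pow (by
        rw [ho]; exact (Nat.Prime.coprime_iff_not_dvd (by norm_num : Nat.Prime 5)).2 hn)).trans ho,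
        S.ctx.card_M] at h2
      norm_num at h2
    simp only [candOK, Bool.and_eq_true, List.all_eq_true, List.any_eq_true, List.contains_iff_mem, Nat.beq_eq]
    refine ⟨⟨by rw [← S.mat_pow hh, h5, S.mat_one], fun j hj => ?_⟩, fun j hj g hg => ?_⟩
    · simp only [Bool.not_eq_true', Bool.and_eq_false_iff]
      by_contra hcon
      push Not at hcon
      simp only [ne_eq, Bool.not_eq_false, Nat.blt_eq] at hcon
      rw [← S.mat_pow hh] at hcon
      have hj' : ¬ 5 ∣ j := by simp at hj; omega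
      refine hM j hj' ?_
      rw [S.ctx.M_eq]
      have hlin : ∀ v < 4, app (mat L el bas (h ^ j)) v < 4 := fun v hv => by
        obtain ⟨c1, c2⟩ := hcon
        interval_cases v
        · simp [app, Nat.beq]
        · exact c1
        · exact c2
        · rw [show app (mat L el bas (h ^ j)) 3 = app (mat L el bas (h ^ j)) 1 ^^^ app (mat L el bas (h ^ j)) 2 by
            simp [app, Nat.beq]]
          exact Nat.xor_lt_two_pow (n := 2) c1 c2
      have fwd : ∀ v ∈ V, h ^ j * v * (h ^ j)⁻¹ ∈ V := fun v hv => by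
        have hr := S.ctx.V_R hv
        refine (S.ctx.mem_V _).2 ⟨S.class_A (S.conj_mem (pow_mem hh j) hr) ?_, ?_⟩
        · rw [S.conj_lin (pow_mem hh j) hr]
          exact hlin _ (S.V_class hv)
        · rw [show h ^ j * v * (h ^ j)⁻¹ * (h ^ j * v * (h ^ j)⁻¹) = h ^ j * (v * v) * (h ^ j)⁻¹ by group,
            ((S.ctx.mem_V v).1 hv).2, mul_one, mul_inv_cancel]
      exact mem_normalizer_iff.2 fun v => ⟨fwd v, fun hv => by
        have hsub : (fun g => h ^ j * g * (h ^ j)⁻¹) '' (V : Set G) = V := by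
          refine Set.eq_of_subset_of_ncard_le ?_ ?_ (Set.toFinite _)
          · rintro _ ⟨v, hv, rfl⟩; exact fwd v hv
          · rw [Set.ncard_image_of_injective _ fun p q e => mul_left_cancel (mul_right_cancel e)]
        obtain ⟨w, hw, e⟩ := hsub.ge hv
        rwa [← mul_left_cancel (mul_right_cancel e)]⟩
    · obtain ⟨i, hi, rfl⟩ := List.getElem_of_mem hg
      have h6 : i < 6 := by
        have := hG
        simp only [gensOK, Bool.and_eq_true, Nat.beq_eq] at this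
        rw [this.1.1] at hi
        exact hi
      obtain ⟨hl, hm⟩ := S.mat_gen hG h6
      rw [← List.getD_eq_getElem _ 0 hi, ← hm]
      have hin := mul_mem (pow_mem hh j) (S.el_mem hl)
      obtain ⟨c, hc, l, hl5, e⟩ := S.cover h5 h1 hh hin
      have hc' : c < C.n := by rw [S.tab.n_eq]; exact hc
      refine ⟨l, by interval_cases l <;> simp, ?_⟩
      rw [← S.mat_pow hh j, ← S.mat_mul (pow_mem hh j) (S.el_mem hl), ← S.mat_pow hh (5 - l),
        ← S.mat_mul hin (pow_mem hh _), e, mul_assoc, ← pow_add, show l + (5 - l) = 5 by omega, h5, mul_one]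
      exact S.mat_el hG c hc'
  have r : ∀ k < 4, List.Mem (gcls L el (h * el (bas.getD k 0) * h⁻¹)) (List.range' 1 15) := fun k hk => by
    have := S.gcls_lt (S.conj_mem hh (S.bas_mem hk).1)
    have := hne k hk
    exact List.mem_range'_1.2 ⟨by omega, by omega⟩
  simp only [enumOK, List.all_eq_true, Bool.or_eq_true, bne_iff_ne, List.contains_iff_mem] at hE
  have h2 := (hE _ (r 0 (by norm_num)) _ (r 1 (by norm_num))).resolve_left (not_not.2 (pair 0 (by norm_num) 1 (by norm_num)))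
  rcases h2 _ (r 2 (by norm_num)) with (h3 | h3) | h3
  · exact absurd (pair 0 (by norm_num) 2 (by norm_num)) h3
  · exact absurd (pair 1 (by norm_num) 2 (by norm_num)) h3
  rcases h3 _ (r 3 (by norm_num)) with (((h4 | h4) | h4) | h4) | h4
  · exact absurd (pair 0 (by norm_num) 3 (by norm_num)) h4
  · exact absurd (pair 1 (by norm_num) 3 (by norm_num)) h4
  · exact absurd (pair 2 (by norm_num) 3 (by norm_num)) h4
  · rw [show pack4 _ _ _ _ = mat L el bas h from rfl, hcand] at h4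
    exact absurd h4 (by simp)
  · exact h4

end Classes

end CfsgLib.Recog.HsTwoLocal
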