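import Cfsg.Agent.Lib.Recog.HsTwoLocal.MLevel

/-!
# Matrices of the action on `O_2(C(t))` modulo its centre (owner: helper28)

The sixteen classes modulo `<a>` are coded by four bits, linear maps by four nibbles.  An element of order five acts by
one of 48 candidate matrices; none exists for the second candidate subgroup.
-/

set_option autoImplicit false

namespace CfsgLib.Recog.HsTwoLocal

open Subgroup CfsgLib.Sporadic.PairEnum
open CfsgLib.ThreeTrans.CosetIndex (forallFrom)
open CfsgLib.Recog.SporBound (Q)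

/-! ### bit matrices -/

/-- A column of a matrix. -/
def nib (M k : ℕ) : ℕ := Nat.land (Nat.shiftRight M (4 * k)) 15

/-- The value of a matrix on a class. -/
def app (M v : ℕ) : ℕ :=
  Nat.xor (Nat.xor (Nat.xor (cond (Nat.beq (v % 2) 1) (nib M 0) 0) (cond (Nat.beq (v / 2 % 2) 1) (nib M 1) 0))
    (cond (Nat.beq (v / 4 % 2) 1) (nib M 2) 0)) (cond (Nat.beq (v / 8 % 2) 1) (nib M 3) 0)

/-- Four columns as a matrix. -/
def pack4 (c₀ c₁ c₂ c₃ : ℕ) : ℕ := c₀ + 16 * c₁ + 256 * c₂ + 4096 * c₃

/-- The product of two matrices. -/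
def comp (M N : ℕ) : ℕ := pack4 (app M (nib N 0)) (app M (nib N 1)) (app M (nib N 2)) (app M (nib N 3))

/-- Powers of a matrix. -/
def mpow (M : ℕ) : ℕ → ℕ
  | 0 => 33825
  | n + 1 => comp M (mpow M n)

theorem nib_pack {c₀ c₁ c₂ c₃ : ℕ} (h₀ : c₀ < 16) (h₁ : c₁ < 16) (h₂ : c₂ < 16) (h₃ : c₃ < 16) :
    nib (pack4 c₀ c₁ c₂ c₃) 0 = c₀ ∧ nib (pack4 c₀ c₁ c₂ c₃) 1 = c₁ ∧ nib (pack4 c₀ c₁ c₂ c₃) 2 = c₂ ∧
      nib (pack4 c₀ c₁ c₂ c₃) 3 = c₃ := by
  have e : ∀ n k : ℕ, nib n k = n / 2 ^ (4 * k) % 16 := fun n k => by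
    show (n >>> (4 * k)) &&& 15 = _
    rw [Nat.shiftRight_eq_div_pow, show 15 = 2 ^ 4 - 1 from rfl, Nat.and_two_pow_sub_one_eq_mod]
  refine ⟨?_, ?_, ?_, ?_⟩ <;> rw [e] <;> simp only [pack4] <;> norm_num <;> omega

/-- The bit of two classes in a form. -/
def fbit (F u v : ℕ) : Bool := !(Nat.beq (Nat.land (Nat.shiftRight F (16 * u + v)) 1) 0)

/-- The conditions on the matrix of an element of order five, but for the commutators. -/
def candOK (gens mats : List ℕ) (M : ℕ) : Bool :=
  Nat.beq (mpow M 5) 33825 && ([1, 2, 3, 4].all fun j => !(Nat.blt (app (mpow M j) 1) 4 && Nat.blt (app (mpow M j) 2) 4)) &&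
    [0, 1, 2, 3, 4].all fun j => gens.all fun g => [0, 1, 2, 3, 4].any fun l =>
      mats.contains (comp (comp (mpow M j) g) (mpow M (5 - l)))

/-- All matrices satisfying the conditions are listed. -/
def enumOK (F : ℕ) (gens mats good : List ℕ) : Bool :=
  (List.range' 1 15).all fun c₀ => (List.range' 1 15).all fun c₁ =>
    (fbit F c₀ c₁ != fbit F 1 2) || (List.range' 1 15).all fun c₂ =>
      (fbit F c₀ c₂ != fbit F 1 4) || (fbit F c₁ c₂ != fbit F 2 4) || (List.range' 1 15).all fun c₃ =>
        (fbit F c₀ c₃ != fbit F 1 8) || (fbit F c₁ c₃ != fbit F 2 8) || (fbit F c₂ c₃ != fbit F 4 8) ||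
          !(candOK gens mats (pack4 c₀ c₁ c₂ c₃)) || good.contains (pack4 c₀ c₁ c₂ c₃)

theorem enum_zero : enumOK DataR.form0 DataR.gens0 DataR.mats0 (Data.hCands.map fun e => e.1) = true := by
  decide +kernel

theorem enum_one : enumOK DataR.form1 DataR.gens1 DataR.mats1 [] = true := by decide +kernel

/-! ### checks on a list of codes -/

section

variable (C : Cert) (T : Q ℕ)

/-- Powers of `a`. -/
noncomputable def aPow (j : ℕ) : ℕ := Tab.ev C (List.replicate j 0)

/-- The product of basis elements selected by the bits of a class. -/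
noncomputable def chain4 (bas : List ℕ) (v : ℕ) : ℕ :=
  Tab.mul C T (Tab.mul C T (Tab.mul C T (cond (Nat.beq (v % 2) 1) (bas.getD 0 0) 0)
    (cond (Nat.beq (v / 2 % 2) 1) (bas.getD 1 0) 0)) (cond (Nat.beq (v / 4 % 2) 1) (bas.getD 2 0) 0))
    (cond (Nat.beq (v / 8 % 2) 1) (bas.getD 3 0) 0)

/-- The class of a code. -/
def clsOf (L : List ℕ) (c : ℕ) : ℕ := L.idxOf c / 4

/-- A list of codes is a group with the given classes, basis and commutator form. -/
noncomputable def listOK (L bas : List ℕ) (F : ℕ) : Bool :=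
  Nat.beq L.length 64 && ((L.all fun c => Nat.blt c 1536) && (
    ((List.range 64).all fun i => Nat.beq (L.getD i 0) (Tab.mul C T (chain4 C T bas (i / 4)) (aPow C (i % 4)))) && (
    ((List.range 4).all fun k => L.contains (bas.getD k 0) && Nat.beq (clsOf L (bas.getD k 0)) (2 ^ k)) && (
    (L.all fun c => L.all fun d => L.contains (Tab.mul C T c d) &&
      Nat.beq (clsOf L (Tab.mul C T c d)) (Nat.xor (clsOf L c) (clsOf L d)) &&
      (Nat.beq (Tab.mul C T c d) (Tab.mul C T d c) == !(fbit F (clsOf L c) (clsOf L d)))) && (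
    ((List.range' 1 15).all fun v => (List.range 16).any fun u => fbit F u v) && (
    (L.all fun c => Nat.beq (Tab.mul C T c (Tab.ev C [0])) (Tab.mul C T (Tab.ev C [0]) c)) && (
    Nat.beq (bas.getD 0 0) (Tab.ev C [1, 1]) && Nat.beq (bas.getD 1 0) (Tab.ev C [2, 2]))))))))

/-- The generators act by the listed matrices and the list of matrices is closed. -/
noncomputable def gensOK (L bas gens mats : List ℕ) : Bool :=
  Nat.beq gens.length 6 && mats.contains 33825 && ((List.range 6).all fun i =>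
    Nat.blt (gens.getD i 0) 65536 && (mats.all fun m => mats.contains (comp (gens.getD i 0) m)) &&
      (List.range 4).all fun k => Nat.beq (clsOf L (Tab.mul C T (Tab.mul C T (Tab.ev C [i]) (bas.getD k 0))
        (Tab.ev C ((cjPairs.getD i ([], [])).2)))) (nib (gens.getD i 0) k))

end

open Certs in
theorem list0_ok : listOK PSplit.cert Data.treeP DataR.list0 DataR.bas0 DataR.form0 = true := by decide +kernel

open Certs in
theorem list1_ok : listOK PSplit.cert Data.treeP DataR.list1 DataR.bas1 DataR.form1 = true := by decide +kernel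

open Certs in
theorem gens0_ok : gensOK PSplit.cert Data.treeP DataR.list0 DataR.bas0 DataR.gens0 DataR.mats0 = true := by
  decide +kernel

open Certs in
theorem gens1_ok : gensOK PSplit.cert Data.treeP DataR.list1 DataR.bas1 DataR.gens1 DataR.mats1 = true := by
  decide +kernel

end CfsgLib.Recog.HsTwoLocal
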