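import Cfsg.Agent.Lib.Recog.HsTwoLocal.HAction

/-!
# An element of order five with a fixed matrix (owner: helper28)

Only the first candidate for `O_2(C(t))` is left, and after conjugation in `C(t) ∩ N(V)` and, if needed, the change of
`x` to `t x` the element of order five acts by the chosen matrix.
-/

set_option autoImplicit false

namespace CfsgLib.Recog.HsTwoLocal

open Subgroup CfsgLib.Sporadic.PairEnum
open CfsgLib.Recog.SporBound (Q)

variable {G : Type*} [Group G] {t : G} {R M A V : Subgroup G} {a z y x : G}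

/-- The target matrix of a class. -/
def target (cl : ℕ) : ℕ := cond (Nat.beq cl 0) Data.hMat (comp (comp Data.phiMat Data.hMat) Data.phiMat)

/-- The matrix of a word of generator positions. -/
def wordMat (gens : List ℕ) (w : List ℕ) : ℕ := w.foldr (fun j m => comp (gens.getD j 0) m) 33825

/-- Each candidate is moved to its target by the listed element. -/
def candsOK : Bool :=
  Data.hCands.all fun e =>
    (Nat.beq e.2.1 0 || Nat.beq e.2.1 1) && ((Data.pMats.getD e.2.2 (0, [])).2.all fun j => decide (j < 6)) &&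
      (let P := wordMat DataR.gens0 (Data.pMats.getD e.2.2 (0, [])).2
       Nat.beq (comp P e.1) (comp (target e.2.1) P) &&
        Data.hCands.all fun f => !(Nat.beq (comp f.1 P) (comp (target e.2.1) P)) || Nat.beq f.1 (target e.2.1))

theorem cands_ok : candsOK = true := by decide +kernel

/-- `x` replaced by `t x` in a word. -/
def shiftX (w : List ℕ) : List ℕ :=
  w.flatMap fun l => if l = 6 then [0, 0, 6] else if l = 7 then [7, 1, 1] else [l]

open Certs in
theorem shift_ok : ((relM 0 0 0).all fun w => (w.all fun l => decide (l < 8)) && traced MSplit.closers (shiftX w)) &&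
    traced MSplit.closers ([2, 0, 0, 6, 3] ++ iw ([2, 6, 3] ++ bWord ++ bWord)) = true := by decide +kernel

open Certs in
theorem frame_numbers : Tab.ev PSplit.cert [1, 1] = 13 ∧ Tab.ev PSplit.cert [2, 2] = 18 ∧
    Tab.ev PSplit.cert [5] = 6 ∧ Tab.ev PSplit.cert [3, 5, 3, 3] = 124 ∧
    DataR.list0.contains (Tab.ev PSplit.cert [5, 1, 1]) = true ∧
    clsOf DataR.list0 (Tab.ev PSplit.cert [5, 1, 1]) = 5 ∧
    DataR.list0.contains (Tab.ev PSplit.cert [3, 5, 1, 1, 3, 3]) = true ∧
    clsOf DataR.list0 (Tab.ev PSplit.cert [3, 5, 1, 1, 3, 3]) = 10 := by decide +kernel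

theorem app_phi : (∀ v < 16, app Data.phiMat v < 16) ∧ nib Data.phiMat 0 = 1 ∧ nib Data.phiMat 1 = 2 ∧
    nib Data.phiMat 2 = 5 ∧ nib Data.phiMat 3 = 10 ∧
    (∀ u < 16, ∀ v < 16, app Data.phiMat (Nat.xor u v) = Nat.xor (app Data.phiMat u) (app Data.phiMat v)) ∧
    (∀ k < 4, app Data.phiMat (app (target 1) (app Data.phiMat (2 ^ k))) = nib Data.hMat k) ∧
    (∀ k < 4, app Data.phiMat (nib Data.phiMat k) = 2 ^ k) ∧
    pack4 (nib Data.hMat 0) (nib Data.hMat 1) (nib Data.hMat 2) (nib Data.hMat 3) = Data.hMat := by decide +kernel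

theorem Classes.of (K : Ctx t R M A V) (F : Frame t M A a z y x 0 0 0) {el : ℕ → G}
    (P : PTable Certs.PSplit.cert Data.treeP t M a z y x el) {L bas : List ℕ} {Fm : ℕ}
    (hL : ∀ g, g ∈ R ↔ ∃ c ∈ L, el c = g) (hok : listOK Certs.PSplit.cert Data.treeP L bas Fm = true)
    [Finite G] : Classes Certs.PSplit.cert Data.treeP t R M A V a z y x el L bas Fm where
  ctx := K
  tab := P
  a_mem := F.a_mem
  t_eq := F.t_eq
  b_mem := ⟨(F.abasis K).mb, (F.abasis K).mc⟩
  memR := hL
  vsurj := fun {v} hv => by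
    have h := (F.vbasis K).surj K hv
    have hb : z * t * z⁻¹ = z * a * z⁻¹ * (z * a * z⁻¹) := by rw [← F.t_eq]; group
    have hc : z * (z * t * z⁻¹) * z⁻¹ = z * (z * a * z⁻¹) * z⁻¹ * (z * (z * a * z⁻¹) * z⁻¹) := by
      rw [← F.t_eq]; group
    rwa [hc, hb] at h
  pairs := split_pairs
  ok := hok

theorem exists_five [Finite G] (K : Ctx t R M A V) :
    ∃ h ∈ centralizer ({t} : Set G), h ^ 5 = 1 ∧ h ≠ 1 := by
  haveI : Fact (Nat.Prime 5) := ⟨by norm_num⟩
  obtain ⟨⟨h, hh⟩, ho⟩ := exists_prime_orderOf_dvd_card' (G := centralizer ({t} : Set G)) 5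
    (by rw [K.card_C]; norm_num)
  rw [← Subgroup.orderOf_coe] at ho
  refine ⟨h, hh, by rw [← ho]; exact pow_orderOf_eq_one _, fun e => ?_⟩
  simp only at ho
  rw [e, orderOf_one] at ho
  norm_num at ho

/-- The second candidate for `O_2(C(t))` admits no element of order five. -/
theorem Frame.classes [Finite G] (F : Frame t M A a z y x 0 0 0) (K : Ctx t R M A V) :
    ∃ el, Classes Certs.PSplit.cert Data.treeP t R M A V a z y x el DataR.list0 DataR.bas0 DataR.form0 := by
  obtain ⟨el, P, L, hL, h⟩ := F.split K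
  simp only [List.mem_cons, List.not_mem_nil, or_false] at hL
  rcases hL with rfl | rfl
  · exact ⟨el, Classes.of K F P h list0_ok⟩
  · obtain ⟨g, hg, g5, g1⟩ := exists_five K
    exact absurd ((Classes.of K F P h list1_ok).candidate gens1_ok enum_one g5 g1 hg) (by simp)

variable {el : ℕ → G}

theorem Classes.mat_word {C : Cert} {T : Q ℕ} {L bas gens mats : List ℕ} {Fm : ℕ}
    (S : Classes C T t R M A V a z y x el L bas Fm) (hG : gensOK C T L bas gens mats = true) :
    ∀ w : List ℕ, (∀ j ∈ w, j < 6) → Tab.ev C w < C.n ∧ mat L el bas (el (Tab.ev C w)) = wordMat gens w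
  | [], _ => ⟨by rw [S.tab.n_eq]; show 0 < 1536; norm_num, by
      show mat L el bas (el 0) = _
      rw [S.tab.elts.el_zero, S.mat_one]; rfl⟩
  | j :: w, h => by
    obtain ⟨h1, h2⟩ := S.mat_word hG w fun i hi => h i (List.mem_cons_of_mem _ hi)
    obtain ⟨l1, e1⟩ := S.tab.ev (w := j :: w) h
    obtain ⟨l0, e0⟩ := S.tab.ev (w := w) fun i hi => h i (List.mem_cons_of_mem _ hi)
    obtain ⟨lj, ej⟩ := S.mat_gen hG (h j List.mem_cons_self)
    refine ⟨l1, ?_⟩
    have e : el (Tab.ev C (j :: w)) = el (Tab.ev C [j]) * el (Tab.ev C w) := by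
      rw [e1, e0, (S.tab.ev (w := [j]) (fun i hi => by rw [List.mem_singleton.1 hi]; exact h j List.mem_cons_self)).2]
      simp
    rw [e, S.mat_mul (S.el_mem lj) (S.el_mem h1), ej, h2]
    rfl

open Certs in
theorem Frame.shift (F : Frame t M A a z y x 0 0 0) (K : Ctx t R M A V) :
    Frame t M A a z y (a * a * x) 0 0 0 ∧ z * (a * a * x) * z⁻¹ = z * x * z⁻¹ * (z * a * z⁻¹ * (z * a * z⁻¹)) := by
  have hok := shift_ok
  simp only [Bool.and_eq_true, List.all_eq_true, decide_eq_true_eq] at hok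
  have hone : ∀ w : List ℕ, traced MSplit.closers w = true → (w.map (lets [a, z, y, x, 1])).prod = 1 := fun w h =>
    traced_eq_one (F.setup (C := MSplit.cert) (by decide +kernel)) MSplit.valid rfl MSplit.closers_ok h
  have hsh : ∀ w : List ℕ, (∀ l ∈ w, l < 8) →
      ((shiftX w).map (lets [a, z, y, x, 1])).prod = (w.map (lets [a, z, y, a * a * x, 1])).prod := by
    intro w hw
    induction w with
    | nil => rfl
    | cons l w ih =>
      rw [show shiftX (l :: w) = (if l = 6 then [0, 0, 6] else if l = 7 then [7, 1, 1] else [l]) ++ shiftX w from rfl,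
        List.map_append, List.prod_append, ih fun i hi => hw i (List.mem_cons_of_mem _ hi), List.map_cons,
        List.prod_cons]
      congr 1
      have := hw l List.mem_cons_self
      interval_cases l <;> simp [lets, mul_assoc]
  refine ⟨⟨F.a_mem, F.z_mem, F.y_mem, mul_mem (mul_mem (K.A_le F.a_mem) (K.A_le F.a_mem)) F.x_mem, F.t_eq, F.z_t,
    fun w hw => by rw [← hsh w (hok.1 w hw).1]; exact hone _ (hok.1 w hw).2, F.basis, F.inj, ?_, F.act_y⟩, ?_⟩
  · have hv : z * (z * t * z⁻¹) * z⁻¹ ∈ A := K.V_le ((F.vbasis K).mem₃)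
    rw [show a * a * x * (z * t * z⁻¹) * (a * a * x)⁻¹ = a * a * (x * (z * t * z⁻¹) * x⁻¹) * (a * a)⁻¹ by group,
      F.act_x, K.A_comm _ (mul_mem F.a_mem F.a_mem) _ hv, mul_inv_cancel_right]
  · have h := hone _ hok.2
    rw [List.map_append, List.prod_append, prod_iw (lets_inv _)] at h
    rw [← mul_inv_eq_one]
    simpa [bWord, lets, mul_assoc] using h

open Certs in
/-- A frame and an element of order five acting by the chosen matrix. -/
theorem exists_good [Finite G] (K : Ctx t R M A V) : ∃ a z y x el h, Frame t M A a z y x 0 0 0 ∧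
    Classes PSplit.cert Data.treeP t R M A V a z y x el DataR.list0 DataR.bas0 DataR.form0 ∧
    h ∈ centralizer ({t} : Set G) ∧ h ^ 5 = 1 ∧ h ≠ 1 ∧ Classes.mat DataR.list0 el DataR.bas0 h = Data.hMat := by
  obtain ⟨a, z, y, x, -, F, -⟩ := exists_split K
  obtain ⟨el, S⟩ := F.classes K
  obtain ⟨h, hh, h5, h1⟩ := exists_five K
  obtain ⟨e, he, hM⟩ := List.mem_map.1 (S.candidate gens0_ok enum_zero h5 h1 hh)
  have hc := cands_ok
  simp only [candsOK, List.all_eq_true, Bool.and_eq_true, Bool.or_eq_true, Bool.not_eq_true', Nat.beq_eq,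
    decide_eq_true_eq] at hc
  obtain ⟨⟨hcl, hw⟩, hP, huniq⟩ := hc e he
  obtain ⟨hl, hp⟩ := S.mat_word gens0_ok _ hw
  set p := el (Tab.ev PSplit.cert (Data.pMats.getD e.2.2 (0, [])).2) with hpd
  have hpC : p ∈ centralizer ({t} : Set G) := S.el_mem hl
  set g := p * h * p⁻¹ with hg
  have hgC : g ∈ centralizer ({t} : Set G) := mul_mem (mul_mem hpC hh) (inv_mem hpC)
  have g5 : g ^ 5 = 1 := by rw [hg, ← conj_pow', h5, mul_one, mul_inv_cancel]
  have g1 : g ≠ 1 := fun e => h1 (conj_eq_one_iff.1 e)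
  have hgT : Classes.mat DataR.list0 el DataR.bas0 g = target e.2.1 := by
    obtain ⟨f, hf, hfM⟩ := List.mem_map.1 (S.candidate gens0_ok enum_zero g5 g1 hgC)
    rw [← hfM]
    refine (huniq f hf).resolve_left fun hne => ?_
    have : comp f.1 (wordMat DataR.gens0 (Data.pMats.getD e.2.2 (0, [])).2) =
        comp (target e.2.1) (wordMat DataR.gens0 (Data.pMats.getD e.2.2 (0, [])).2) := by
      rw [hfM, ← hp, ← S.mat_mul hgC hpC, show g * p = p * h by rw [hg, inv_mul_cancel_right], S.mat_mul hpC hh, hp,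
        ← hM, hP]
    exact absurd (Nat.eq_of_beq_eq_true (by simpa using this) : _ = _) (fun e' => by
      rw [← Bool.not_eq_true] at hne; exact hne (by simpa using e'))
  rcases hcl with hcl | hcl
  · exact ⟨a, z, y, x, el, g, F, S, hgC, g5, g1, by rw [hgT, hcl]; rfl⟩
  -- the other class: replace x
  obtain ⟨F', hw'⟩ := F.shift K
  obtain ⟨el', S'⟩ := F'.classes K
  refine ⟨a, z, y, a * a * x, el', g, F', S', hgC, g5, g1, ?_⟩
  replace hgT := hgT.trans (show target e.2.1 = target 1 by rw [hcl])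
  obtain ⟨n13, n18, n6, n124, m5, c5, m10, c10⟩ := frame_numbers
  obtain ⟨-, p0, p1, p2, p3, padd, pcj, pinv, hpack⟩ := app_phi
  -- the old classes of the new basis
  have hev : ∀ w : List ℕ, (∀ j ∈ w, j < 6) → el (Tab.ev PSplit.cert w) =
      (w.map fun j => pLets a z y x (2 * j)).prod ∧ el' (Tab.ev PSplit.cert w) =
      (w.map fun j => pLets a z y (a * a * x) (2 * j)).prod := fun w hw => ⟨(S.tab.ev hw).2, (S'.tab.ev hw).2⟩
  have b13 : el' 13 = el 13 := by
    obtain ⟨u, v⟩ := hev [1, 1] (by simp)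
    rw [n13] at u v
    rw [u, v]
    simp [pLets, lets, seven]
  have b18 : el' 18 = el 18 := by
    obtain ⟨u, v⟩ := hev [2, 2] (by simp)
    rw [n18] at u v
    rw [u, v]
    simp [pLets, lets, seven]
  have b6 : el' 6 = el (Tab.ev PSplit.cert [5, 1, 1]) := by
    obtain ⟨-, v⟩ := hev [5] (by simp)
    obtain ⟨u, -⟩ := hev [5, 1, 1] (by simp)
    rw [n6] at v
    rw [u, v]
    simp [pLets, lets, seven, mul_assoc]
    simpa [mul_assoc] using hw'
  have b124 : el' 124 = el (Tab.ev PSplit.cert [3, 5, 1, 1, 3, 3]) := by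
    obtain ⟨-, v⟩ := hev [3, 5, 3, 3] (by simp)
    obtain ⟨u, -⟩ := hev [3, 5, 1, 1, 3, 3] (by simp)
    rw [n124] at v
    rw [u, v]
    simp [pLets, lets, seven]
    rw [hw']
    group
  have hold : ∀ k < 4, gcls DataR.list0 el (el' (DataR.bas0.getD k 0)) = nib Data.phiMat k := by
    intro k hk
    interval_cases k
    · show gcls _ el (el' 13) = _
      rw [b13, p0]; exact (S.bas_mem (k := 0) (by norm_num)).2
    · show gcls _ el (el' 18) = _
      rw [b18, p1]; exact (S.bas_mem (k := 1) (by norm_num)).2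
    · show gcls _ el (el' 6) = _
      rw [b6, S.gcls_el (List.contains_iff_mem.1 m5), c5, p2]
    · show gcls _ el (el' 124) = _
      rw [b124, S.gcls_el (List.contains_iff_mem.1 m10), c10, p3]
  -- old classes from new ones
  have hcv : ∀ r ∈ R, gcls DataR.list0 el r = app Data.phiMat (gcls DataR.list0 el' r) := by
    intro r hr
    obtain ⟨j, -, ej⟩ := S'.decomp hr
    set v := gcls DataR.list0 el' r
    have q : ∀ k < 4, ∀ d < 2, el' (DataR.bas0.getD k 0) ^ d ∈ R ∧
        gcls DataR.list0 el (el' (DataR.bas0.getD k 0) ^ d) = cond (Nat.beq d 1) (nib Data.phiMat k) 0 :=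
      fun k hk d hd => by
      interval_cases d
      · rw [pow_zero, S.gcls_one]; exact ⟨one_mem R, rfl⟩
      · rw [pow_one]; exact ⟨(S'.bas_mem hk).1, hold k hk⟩
    obtain ⟨q0, w0⟩ := q 0 (by norm_num) (v % 2) (Nat.mod_lt _ (by norm_num))
    obtain ⟨q1, w1⟩ := q 1 (by norm_num) (v / 2 % 2) (Nat.mod_lt _ (by norm_num))
    obtain ⟨q2, w2⟩ := q 2 (by norm_num) (v / 4 % 2) (Nat.mod_lt _ (by norm_num))
    obtain ⟨q3, w3⟩ := q 3 (by norm_num) (v / 8 % 2) (Nat.mod_lt _ (by norm_num))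
    rw [ej, (S.gcls_mul (mul_mem (mul_mem (mul_mem q0 q1) q2) q3) (pow_mem S.a_R.1 _)).1,
      (S.gcls_mul (mul_mem (mul_mem q0 q1) q2) q3).1, (S.gcls_mul (mul_mem q0 q1) q2).1, (S.gcls_mul q0 q1).1,
      w0, w1, w2, w3, S.gcls_pow S.a_R.1 S.a_R.2]
    exact Nat.xor_zero _
  have hinv : ∀ r ∈ R, gcls DataR.list0 el' r = app Data.phiMat (gcls DataR.list0 el r) := fun r hr => by
    rw [hcv r hr]
    exact ((by decide +kernel : ∀ v < 16, app Data.phiMat (app Data.phiMat v) = v) _ (S'.gcls_lt hr)).symm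
  have key : ∀ k < 4, gcls DataR.list0 el' (g * el' (DataR.bas0.getD k 0) * g⁻¹) = nib Data.hMat k := fun k hk => by
    obtain ⟨hb, hbc⟩ := S'.bas_mem hk
    rw [hinv _ (S.conj_mem hgC hb), S.conj_lin hgC hb, hcv _ hb, hbc, hgT]
    exact pcj k hk
  rw [Classes.mat, key 0 (by norm_num), key 1 (by norm_num), key 2 (by norm_num), key 3 (by norm_num), hpack]

end CfsgLib.Recog.HsTwoLocal
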