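import Cfsg.Agent.Lib.Recog.HsTwoLocal.HAction

/-!
# Computations with the exact automorphism of order five (owner: helper28)
-/

set_option autoImplicit false

namespace CfsgLib.Recog.HsTwoLocal

open CfsgLib.Sporadic.PairEnum
open CfsgLib.Recog.SporBound (Q)

/-- The positions of a letter, an inverse becoming a power. -/
def posLetter (l : ℕ) : List ℕ :=
  cond (Nat.beq (l % 2) 0) [l / 2] ((cjPairs.getD (l / 2) ([], [])).2)

/-- A word of letters as positions. -/
def posWord (w : List ℕ) : List ℕ := w.flatMap posLetter

open Certs in
/-- The number of a word of the letters of the group of order 1536. -/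
noncomputable def evL (w : List ℕ) : ℕ := Tab.ev PSplit.cert (posWord w)

open Certs in
/-- The product in the group of order 1536. -/
noncomputable def pm (c d : ℕ) : ℕ := Tab.mul PSplit.cert Data.treeP c d

open Certs in
/-- The automorphism on the codes of the list. -/
noncomputable def phiC (c : ℕ) : ℕ :=
  pm (chain4 PSplit.cert Data.treeP Data.phiImg (DataR.list0.idxOf c / 4)) (aPow PSplit.cert (DataR.list0.idxOf c % 4))

open Certs in
/-- The automorphism preserves the list, has order five and lifts the matrix. -/
noncomputable def phiOK : Bool :=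
  (DataR.list0.all fun c => DataR.list0.contains (phiC c) && Nat.beq (phiC (phiC (phiC (phiC (phiC c))))) c) &&
    ((List.range 4).all fun k => DataR.list0.contains (Data.phiImg.getD k 0) &&
      Nat.beq (clsOf DataR.list0 (Data.phiImg.getD k 0)) (nib Data.hMat k) &&
      Nat.beq (pm (Data.phiImg.getD k 0) (Data.phiImg.getD k 0))
        (pm (DataR.bas0.getD k 0) (DataR.bas0.getD k 0))) &&
    ((List.range 16).all fun e => DataR.list0.any fun c => (List.range 4).all fun k =>
      Nat.beq (pm c (Data.phiImg.getD k 0))
        (pm (cond (Nat.testBit e k) (pm (Data.phiImg.getD k 0) (evL [0, 0])) (Data.phiImg.getD k 0)) c)) &&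
    !(Nat.beq (phiC 13) 13) && DataR.list0.contains 13 &&
    ([1, 2, 3, 4].all fun j => !(DataR.mats0.contains (comp 33825 (mpow Data.hMat j))))

open Certs in
/-- Only the powers of `a` centralise the listed subgroup. -/
noncomputable def centOK : Bool :=
  (List.range 1536).all fun c => !((List.range 4).all fun k =>
    Nat.beq (pm c (DataR.bas0.getD k 0)) (pm (DataR.bas0.getD k 0) c)) ||
    !(Nat.beq (pm c (evL [0])) (pm (evL [0]) c)) || (List.range 4).any fun j => Nat.beq c (aPow PSplit.cert j)

/-- Conjugation by a word on codes. -/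
noncomputable def cjW (w : List ℕ) (c : ℕ) : ℕ := pm (pm (evL w) c) (evL (iw w))

open Certs in
/-- The relators involving the new letter. -/
noncomputable def extraOK : Bool :=
  Nat.beq Data.relHExtra.length 7 && (Data.relHExtra.getD 0 [] == [12, 12, 12, 12, 12]) &&
    ([1, 2, 3, 4, 5].all fun i =>
      let w := (Data.relHExtra.getD i []).tail
      let p := w.takeWhile fun l => l != 13
      let q := (w.dropWhile fun l => l != 13).tail
      (Data.relHExtra.getD i [] == [12] ++ p ++ [13] ++ q) && ((p ++ q).all fun l => decide (l < 12)) &&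
        DataR.list0.contains (evL p) && Nat.beq (pm (phiC (evL p)) (evL q)) 0) &&
    (Data.relHExtra.getD 6 [] ==
      red (Data.tauP ++ [12] ++ iw Data.tauP ++ Data.tauR ++ [13, 13] ++ iw Data.tauR)) &&
    ((Data.tauP ++ Data.tauR ++ Data.cosetQ).all fun l => decide (l < 12)) &&
    (DataR.list0.all fun c => Nat.beq (cjW Data.tauP (phiC (cjW (iw Data.tauP) c)))
      (cjW Data.tauR (phiC (phiC (cjW (iw Data.tauR) c))))) &&
    (DataR.list0.all fun c => Nat.beq (phiC (cjW [2] (phiC (phiC c)))) (cjW Data.cosetQ c)) &&
    ((List.range 4).all fun i =>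
      let r := Data.relHVar.getD i []
      (r.take 5 == [12, 2, 13, 13, 13]) && ((r.drop 5).all fun l => decide (l < 12))) &&
    ((List.range 4).all fun j => (List.range 4).any fun i =>
      Nat.beq (pm (pm (evL Data.cosetQ) (aPow PSplit.cert j)) (evL ((Data.relHVar.getD i []).drop 5))) 0) &&
    (Data.relPSplit.all fun w => (w.all fun l => decide (l < 12)) && Nat.beq (evL w) 0) &&
    Nat.beq (evL [2]) (Tab.ev PSplit.cert [1])

theorem phi_ok : phiOK = true := by decide +kernel

theorem cent_ok : centOK = true := by decide +kernel

theorem extra_ok : extraOK = true := by decide +kernel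

end CfsgLib.Recog.HsTwoLocal
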