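import Cfsg.Agent.Lib.Recog.HsTwoLocal.HFrame
import Cfsg.Agent.Lib.Recog.HsTwoLocal.HRel
import Cfsg.Agent.Lib.Recog.HsTwoLocal.Certs.CTab.Valid
import Cfsg.Agent.Lib.Recog.HsTwoLocal.Certs.CBad0.Valid
import Cfsg.Agent.Lib.Recog.HsTwoLocal.Certs.CBad1.Valid
import Cfsg.Agent.Lib.Recog.HsTwoLocal.Certs.CBad2.Valid

/-!
# The table of `C(t)` (owner: helper28)
-/

set_option autoImplicit false

namespace CfsgLib.Recog.HsTwoLocal

open Subgroup CfsgLib.Sporadic.PairEnum
open CfsgLib.ThreeTrans.CosetIndex (forallFrom)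
open CfsgLib.Recog.SporBound (Q)

variable {G : Type*} [Group G] {t : G} {R M A V : Subgroup G} {a z y x h : G} {el : ℕ → G}

/-- The letters `a, b, c, y, x, w, h` and their inverses. -/
def cLets (a z y x h : G) : ℕ → G := lets (seven a z y x h)

theorem cLets_eq (a z y x h : G) {l : ℕ} (hl : l < 12) : cLets a z y x h l = pLets a z y x l := by
  interval_cases l <;> simp [cLets, pLets, lets, seven]

/-- The table of the involution centraliser. -/
structure CTable (t : G) (a z y x h : G) (el : ℕ → G) : Prop where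
  elts : Tab.Elts Certs.CTab.cert Data.treeC (cLets a z y x h) el
  n_eq : Certs.CTab.cert.n = 7680
  kl_eq : Certs.CTab.cert.kl = [0, 2, 4, 6, 8, 10, 12]
  inj : ∀ c < 7680, ∀ d < 7680, el c = el d → c = d
  mem : ∀ c < 7680, el c * t = t * el c
  surj : ∀ g : G, g * t = t * g → ∃ c < 7680, el c = g

open Certs in
theorem ctab_tree : forallFrom (Tab.treeOK CTab.cert Data.treeC) 0 CTab.cert.n = true := by decide +kernel

open Certs in
theorem exists_ctable [Finite G] (K : Ctx t R M A V) :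
    ∃ a z y x h el, Frame t M A a z y x 0 0 0 ∧ CTable t a z y x h el := by
  obtain ⟨a, z, y, x, el, h, F, S, hh, h5, h1, hmat⟩ := exists_good K
  have hE := S.tab.elts
  have hn : PSplit.cert.n = 1536 := S.tab.n_eq
  have h0n : 0 < PSplit.cert.n := by rw [hn]; norm_num
  set L := DataR.list0
  have hlt : ∀ c ∈ L, c < PSplit.cert.n := fun c hc => S.lt_of_mem hc
  -- words
  have hpos : ∀ l < 12, (∀ j ∈ posLetter l, j < 6) ∧
      ((posLetter l).map fun j => pLets a z y x (2 * j)).prod = pLets a z y x l := by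
    intro l hl
    have hp := S.pairs
    simp only [pairsOK, List.all_eq_true, Nat.beq_eq] at hp
    have inv : ∀ i < 6, ((cjPairs.getD i ([], [])).2.map fun j => pLets a z y x (2 * j)).prod =
        (pLets a z y x (2 * i))⁻¹ ∧ ∀ j ∈ (cjPairs.getD i ([], [])).2, j < 6 := by
      intro i hi
      have hin : cjPairs.getD i ([], []) ∈ cjPairs ∧ (cjPairs.getD i ([], [])).1 = [i] ∧
          ∀ j ∈ (cjPairs.getD i ([], [])).2, j < 6 := by interval_cases i <;> simp [cjPairs]
      obtain ⟨l1, e1⟩ := S.tab.ev (w := [i]) (by simpa using hi)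
      obtain ⟨l2, e2⟩ := S.tab.ev hin.2.2
      have h := hp _ hin.1
      rw [hin.2.1] at h
      refine ⟨eq_inv_of_mul_eq_one_right ?_, hin.2.2⟩
      rw [← e2, show pLets a z y x (2 * i) = el (Tab.ev PSplit.cert [i]) by rw [e1]; simp, ← hE.el_mul l1 l2, h,
        hE.el_zero]
    rcases Nat.mod_two_eq_zero_or_one l with e | e
    · rw [posLetter, show Nat.beq (l % 2) 0 = true by rw [e]; rfl, cond_true]
      exact ⟨by simp; omega, by simp; rw [show 2 * (l / 2) = l by omega]⟩
    · rw [posLetter, show Nat.beq (l % 2) 0 = false by rw [e]; rfl, cond_false]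
      obtain ⟨i1, i2⟩ := inv (l / 2) (by omega)
      refine ⟨i2, i1.trans ?_⟩
      have hl' := lets_inv (seven a z y x 1) (2 * (l / 2))
      rw [flp_eq, if_pos (by omega), show 2 * (l / 2) + 1 = l by omega] at hl'
      exact hl'.symm
  have hev : ∀ w : List ℕ, (∀ l ∈ w, l < 12) →
      evL w < PSplit.cert.n ∧ el (evL w) = (w.map (pLets a z y x)).prod := by
    intro w hw
    have hps : (∀ j ∈ posWord w, j < 6) ∧
        ((posWord w).map fun j => pLets a z y x (2 * j)).prod = (w.map (pLets a z y x)).prod := by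
      induction w with
      | nil => exact ⟨by simp [posWord], rfl⟩
      | cons l w ih =>
        obtain ⟨i1, i2⟩ := ih fun i hi => hw i (List.mem_cons_of_mem _ hi)
        obtain ⟨p1, p2⟩ := hpos l (hw l List.mem_cons_self)
        rw [show posWord (l :: w) = posLetter l ++ posWord w from rfl]
        exact ⟨fun j hj => (List.mem_append.1 hj).elim (p1 j) (i1 j),
          by rw [List.map_append, List.prod_append, p2, i2, List.map_cons, List.prod_cons]⟩
    obtain ⟨l1, e1⟩ := S.tab.ev hps.1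
    exact ⟨l1, e1.trans hps.2⟩
  have hiw : ∀ w : List ℕ, (∀ l ∈ w, l < 12) → (∀ l ∈ iw w, l < 12) ∧ el (evL (iw w)) = (el (evL w))⁻¹ := by
    intro w hw
    have hlt' : ∀ l ∈ iw w, l < 12 := fun l hl => by
      simp only [iw, List.mem_map, List.mem_reverse] at hl
      obtain ⟨i, hi, rfl⟩ := hl
      exact (by decide +kernel : ∀ i < 12, i ^^^ 1 < 12) i (hw i hi)
    refine ⟨hlt', ?_⟩
    rw [(hev _ hlt').2, (hev w hw).2]
    exact prod_iw (lets_inv _) w
  have hpm : ∀ c d, c < PSplit.cert.n → d < PSplit.cert.n → pm c d < PSplit.cert.n ∧ el (pm c d) = el c * el d :=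
    fun c d hc hd => ⟨hE.mul_lt hc hd, hE.el_mul hc hd⟩
  have hcode : ∀ {g}, g ∈ R → ∀ {c}, c < PSplit.cert.n → el c = g → c ∈ L := fun {g} hg {c} hc e => by
    obtain ⟨d, hd, ed⟩ := (S.memR g).1 hg
    rwa [S.tab.inj c hc d (hlt d hd) (e.trans ed.symm)]
  have hR : ∀ c ∈ L, el c ∈ R := fun c hc => (S.memR _).2 ⟨c, hc, rfl⟩
  have htc : ∀ g : G, g ∈ centralizer ({t} : Set G) → g * t = t * g := fun g => mem_centralizer_singleton_iff.1
  have haR := S.a_R.1
  -- `a` is fixed
  have ha4 : a ^ 4 = 1 := by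
    rw [show (4 : ℕ) = 2 * 2 from rfl, pow_mul, pow_two a, F.t_eq, pow_two, K.t_sq]
  have ha1 : a ≠ 1 := fun e => K.t_ne (by rw [← F.t_eq, e, one_mul])
  have hha : h * a * h⁻¹ = a := by
    obtain ⟨j, hj, ej⟩ := S.conj_a hh
    have hsq : h * t * h⁻¹ = t := by rw [htc h hh, mul_inv_cancel_right]
    have h5' : ∀ n : ℕ, h ^ n * a * (h ^ n)⁻¹ = a ^ (j ^ n) := fun n => by
      induction n with
      | zero => simp
      | succ n ih =>
        rw [pow_succ', show h * h ^ n * a * (h * h ^ n)⁻¹ = h * (h ^ n * a * (h ^ n)⁻¹) * h⁻¹ by group, ih,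
          conj_pow', ej, ← pow_mul, pow_succ']
    have hh5 := h5' 5
    rw [h5] at hh5
    simp at hh5
    interval_cases j
    · rw [zero_pow (by norm_num), pow_zero] at hh5; exact absurd hh5 ha1
    · rwa [pow_one] at ej
    · exfalso
      rw [pow_two, F.t_eq] at ej
      exact K.t_ne (mul_left_cancel (a := t) (by
        rw [mul_one]
        conv_rhs => rw [← hsq, ← F.t_eq]
        rw [show h * (a * a) * h⁻¹ = h * a * h⁻¹ * (h * a * h⁻¹) from by group, ej]))
    · exfalso
      rw [show (3 : ℕ) ^ 5 = 4 * 60 + 3 from rfl, pow_add, pow_mul, ha4, one_pow, one_mul, pow_succ', pow_two] at hh5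
      exact K.t_ne (by rw [← F.t_eq]; exact mul_eq_left.1 hh5.symm)
  have hpow : ∀ i : ℕ, h * a ^ i * h⁻¹ = a ^ i := fun i => by rw [conj_pow', hha]
  -- the exact action
  have hphi := phi_ok
  simp only [phiOK, Bool.and_eq_true, List.all_eq_true, List.any_eq_true, List.contains_iff_mem, Nat.beq_eq,
    Bool.not_eq_true', List.mem_range] at hphi
  obtain ⟨⟨⟨⟨⟨hL5, himg⟩, hcorr⟩, hmove⟩, h13⟩, hout⟩ := hphi
  set u := fun k => Data.phiImg.getD k 0 with hu
  have hbb : ∀ k < 4, DataR.bas0.getD k 0 ∈ L := fun k hk => (S.facts.2.2.2.1 k hk).1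
  obtain ⟨htl, hte⟩ := hev [0, 0] (by simp)
  simp [pLets, lets, seven, F.t_eq] at hte
  have hsign : ∀ k < 4, ∃ e : Bool, h * el (DataR.bas0.getD k 0) * h⁻¹ = el (u k) * cond e t 1 := by
    intro k hk
    obtain ⟨⟨hm, hcl⟩, hsqe⟩ := himg k hk
    have hconj := S.conj_mem hh (S.bas_mem hk).1
    have hquot : gcls L el ((el (u k))⁻¹ * (h * el (DataR.bas0.getD k 0) * h⁻¹)) = 0 := by
      have hi := inv_mem (hR _ hm)
      have h2 := (S.gcls_mul (hR _ hm) hi).1
      rw [mul_inv_cancel, S.gcls_one, S.gcls_el hm] at h2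
      rw [(S.gcls_mul hi hconj).1, ← S.nib_mat hh hk, hmat, Nat.xor_eq_zero_iff.1 h2.symm |>.symm, hcl]
      exact Nat.xor_self _
    obtain ⟨j, hj, ej⟩ := S.of_zero (mul_mem (inv_mem (hR _ hm)) hconj) hquot
    rw [inv_mul_eq_iff_eq_mul] at ej
    have hs : (h * el (DataR.bas0.getD k 0) * h⁻¹) * (h * el (DataR.bas0.getD k 0) * h⁻¹) =
        el (u k) * el (u k) := by
      have h1 := congrArg el hsqe
      rw [(hpm _ _ (hlt _ hm) (hlt _ hm)).2, (hpm _ _ (hlt _ (hbb k hk)) (hlt _ (hbb k hk))).2] at h1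
      rw [show h * el (DataR.bas0.getD k 0) * h⁻¹ * (h * el (DataR.bas0.getD k 0) * h⁻¹) =
        h * (el (DataR.bas0.getD k 0) * el (DataR.bas0.getD k 0)) * h⁻¹ by group, h1]
      rcases K.sq _ (S.bas_mem hk).1 with e | e <;> rw [e]
      · rw [mul_one, mul_inv_cancel]
      · rw [htc h hh, mul_inv_cancel_right]
    rw [ej, show el (u k) * a ^ j * (el (u k) * a ^ j) = el (u k) * (a ^ j * el (u k)) * a ^ j by group,
      ((show Commute (el (u k)) a from S.a_comm (hR _ hm)).pow_right j).eq.symm, ← mul_assoc, mul_assoc,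
      mul_eq_left, ← pow_add] at hs
    interval_cases j
    · exact ⟨false, by simpa [hu] using ej⟩
    · exact absurd (by rw [← F.t_eq, ← pow_two]; exact hs) K.t_ne
    · exact ⟨true, by rw [ej, pow_two, F.t_eq]; rfl⟩
    · rw [show 3 + 3 = 4 + 2 from rfl, pow_add, ha4, one_mul, pow_two, F.t_eq] at hs
      exact absurd hs K.t_ne
  obtain ⟨e0, he0⟩ := hsign 0 (by norm_num)
  obtain ⟨e1, he1⟩ := hsign 1 (by norm_num)
  obtain ⟨e2, he2⟩ := hsign 2 (by norm_num)
  obtain ⟨e3, he3⟩ := hsign 3 (by norm_num)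
  obtain ⟨E, hElt, b0, b1, b2, b3⟩ := (by decide +kernel : ∀ p q r s : Bool, ∃ E < 16, Nat.testBit E 0 = p ∧
    Nat.testBit E 1 = q ∧ Nat.testBit E 2 = r ∧ Nat.testBit E 3 = s) e0 e1 e2 e3
  obtain ⟨rc, hrc, hr⟩ := hcorr E hElt
  set r := el rc with hrd
  have hrR : r ∈ R := hR rc hrc
  set g := r * h with hg
  have hgC : g ∈ centralizer ({t} : Set G) := mul_mem (K.R_le hrR) hh
  have hga : g * a * g⁻¹ = a := by
    rw [hg, show r * h * a * (r * h)⁻¹ = r * (h * a * h⁻¹) * r⁻¹ by group, hha, S.a_comm hrR, mul_inv_cancel_right]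
  have hgk : ∀ k < 4, g * el (DataR.bas0.getD k 0) * g⁻¹ = el (u k) := by
    intro k hk
    have key : ∀ e : Bool, h * el (DataR.bas0.getD k 0) * h⁻¹ = el (u k) * cond e t 1 → Nat.testBit E k = e →
        g * el (DataR.bas0.getD k 0) * g⁻¹ = el (u k) := by
      intro e he hb
      have hm := (himg k hk).1.1
      have h2 := congrArg el (hr k hk)
      rw [hb] at h2
      rw [(hpm _ _ (hlt _ hrc) (hlt _ hm)).2] at h2
      rw [hg, show r * h * el (DataR.bas0.getD k 0) * (r * h)⁻¹ = r * (h * el (DataR.bas0.getD k 0) * h⁻¹) * r⁻¹ by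
        group, he]
      cases e
      · rw [cond_false, mul_one]
        rw [cond_false, (hpm _ _ (hlt _ hm) (hlt _ hrc)).2] at h2
        rw [← hu] at *
        rw [h2, mul_inv_cancel_right]
      · rw [cond_true]
        rw [cond_true, (hpm _ _ (hpm _ _ (hlt _ hm) htl).1 (hlt _ hrc)).2, (hpm _ _ (hlt _ hm) htl).2, hte] at h2
        rw [← mul_assoc, h2, mul_assoc _ r t, htc r (K.R_le hrR), ← mul_assoc, mul_inv_cancel_right, mul_assoc,
          K.t_sq, mul_one]
    interval_cases k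
    exacts [key e0 he0 b0, key e1 he1 b1, key e2 he2 b2, key e3 he3 b3]
  have hphiC : ∀ c ∈ L, phiC c ∈ L ∧ g * el c * g⁻¹ = el (phiC c) := by
    intro c hc
    refine ⟨(hL5 c hc).1, ?_⟩
    have hi : L.idxOf c < 64 := S.facts.1 ▸ List.idxOf_lt_length_iff.2 hc
    have hc' := S.facts.2.2.1 _ hi
    rw [List.getD_eq_getElem _ _ (List.idxOf_lt_length_iff.2 hc), List.getElem_idxOf] at hc'
    obtain ⟨hl, he⟩ := S.tab.ev (w := List.replicate (L.idxOf c % 4) 0) (fun j hj => by
      rw [List.eq_of_mem_replicate hj]; norm_num)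
    rw [List.map_replicate, List.prod_replicate, show pLets a z y x (2 * 0) = a by simp [pLets, lets, seven]] at he
    -- selections
    have sel : ∀ (bas : List ℕ), (∀ k < 4, bas.getD k 0 < PSplit.cert.n) → ∀ v,
        chain4 PSplit.cert Data.treeP bas v < PSplit.cert.n ∧ el (chain4 PSplit.cert Data.treeP bas v) =
          el (bas.getD 0 0) ^ (v % 2) * el (bas.getD 1 0) ^ (v / 2 % 2) * el (bas.getD 2 0) ^ (v / 4 % 2) *
            el (bas.getD 3 0) ^ (v / 8 % 2) := by
      intro bas hb v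
      have one : ∀ v k, k < 4 → cond (Nat.beq (v % 2) 1) (bas.getD k 0) 0 < PSplit.cert.n ∧
          el (cond (Nat.beq (v % 2) 1) (bas.getD k 0) 0) = el (bas.getD k 0) ^ (v % 2) := fun v k hk => by
        rcases Nat.mod_two_eq_zero_or_one v with e | e <;> rw [e]
        · exact ⟨h0n, by rw [pow_zero]; exact hE.el_zero⟩
        · exact ⟨hb k hk, (pow_one _).symm⟩
      obtain ⟨a0, d0⟩ := one v 0 (by norm_num)
      obtain ⟨a1, d1⟩ := one (v / 2) 1 (by norm_num)
      obtain ⟨a2, d2⟩ := one (v / 4) 2 (by norm_num)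
      obtain ⟨a3, d3⟩ := one (v / 8) 3 (by norm_num)
      have m1 := hE.mul_lt a0 a1
      have m2 := hE.mul_lt m1 a2
      refine ⟨hE.mul_lt m2 a3, ?_⟩
      rw [chain4, hE.el_mul m2 a3, hE.el_mul m1 a2, hE.el_mul a0 a1, d0, d1, d2, d3]
    obtain ⟨l1, s1⟩ := sel DataR.bas0 (fun k hk => hlt _ (hbb k hk)) (L.idxOf c / 4)
    obtain ⟨l2, s2⟩ := sel Data.phiImg (fun k hk => hlt _ (himg k hk).1.1) (L.idxOf c / 4)
    conv_lhs => rw [hc']
    rw [phiC, show aPow PSplit.cert (L.idxOf c % 4) = Tab.ev PSplit.cert (List.replicate (L.idxOf c % 4) 0) from rfl,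
      (hpm _ _ l2 hl).2, hE.el_mul l1 hl, s1, s2, he]
    rw [show ∀ p q r s v : G, g * (p * q * r * s * v) * g⁻¹ =
      (g * p * g⁻¹) * (g * q * g⁻¹) * (g * r * g⁻¹) * (g * s * g⁻¹) * (g * v * g⁻¹) from fun p q r s v => by group,
      conj_pow', conj_pow', conj_pow', conj_pow', conj_pow', hgk 0 (by norm_num), hgk 1 (by norm_num),
      hgk 2 (by norm_num), hgk 3 (by norm_num), hga]
  -- an element of order five with this action
  have hgh : ∀ n : ℕ, g ^ n * (h ^ n)⁻¹ ∈ R := fun n => by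
    induction n with
    | zero => simp
    | succ n ih =>
      rw [pow_succ', pow_succ', show g * g ^ n * (h * h ^ n)⁻¹ = r * (h * (g ^ n * (h ^ n)⁻¹) * h⁻¹) by
        rw [hg]; group]
      exact mul_mem hrR (S.conj_mem hh ih)
  have hg5R : g ^ 5 ∈ R := by simpa [h5] using hgh 5
  have hg5c : gcls L el (g ^ 5) = 0 := by
    refine S.central hg5R fun v hv => ?_
    obtain ⟨c, hc, rfl⟩ := (S.memR v).1 hv
    obtain ⟨p1, q1⟩ := hphiC c hc
    obtain ⟨p2, q2⟩ := hphiC _ p1
    obtain ⟨p3, q3⟩ := hphiC _ p2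
    obtain ⟨p4, q4⟩ := hphiC _ p3
    obtain ⟨-, q5⟩ := hphiC _ p4
    have : g ^ 5 * el c * (g ^ 5)⁻¹ = el c := by
      rw [show g ^ 5 * el c * (g ^ 5)⁻¹ = g * (g * (g * (g * (g * el c * g⁻¹) * g⁻¹) * g⁻¹) * g⁻¹) * g⁻¹ by
        simp [pow_succ, mul_assoc], q1, q2, q3, q4, q5, (hL5 c hc).2]
    exact (mul_inv_eq_iff_eq_mul.1 this).symm
  obtain ⟨i, -, hi⟩ := S.of_zero hg5R hg5c
  have hcga : Commute g a := mul_inv_eq_iff_eq_mul.1 hga
  set f := g * a ^ (3 * i) with hf
  have hfC : f ∈ centralizer ({t} : Set G) := mul_mem hgC (K.R_le (pow_mem haR _))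
  have hf5 : f ^ 5 = 1 := by
    rw [hf, (hcga.pow_right _).mul_pow, hi, ← pow_mul, ← pow_add, show i + 3 * i * 5 = 4 * (4 * i) by ring, pow_mul,
      ha4, one_pow]
  have hfC' : ∀ c ∈ L, f * el c * f⁻¹ = el (phiC c) := fun c hc => by
    rw [hf, show g * a ^ (3 * i) * el c * (g * a ^ (3 * i))⁻¹ = g * (a ^ (3 * i) * el c * (a ^ (3 * i))⁻¹) * g⁻¹ by
      group, ((show Commute (el c) a from S.a_comm (hR c hc)).pow_right _).eq.symm, mul_inv_cancel_right,
      (hphiC c hc).2]
  have hf1 : f ≠ 1 := fun e => by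
    have h2 := hfC' 13 h13
    rw [e, one_mul, inv_one, mul_one] at h2
    have h3 := S.tab.inj _ (hlt _ h13) _ (hlt _ (hL5 13 h13).1) h2
    rw [← h3] at hmove
    simp at hmove
  have hfm : ∀ k < 4, gcls L el (f * el (DataR.bas0.getD k 0) * f⁻¹) = nib Data.hMat k := fun k hk => by
    obtain ⟨⟨hm, hcl⟩, -⟩ := himg k hk
    rw [hf, show g * a ^ (3 * i) * el (DataR.bas0.getD k 0) * (g * a ^ (3 * i))⁻¹ =
      g * (a ^ (3 * i) * el (DataR.bas0.getD k 0) * (a ^ (3 * i))⁻¹) * g⁻¹ by group,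
      ((show Commute (el (DataR.bas0.getD k 0)) a from S.a_comm (S.bas_mem hk).1).pow_right _).eq.symm,
      mul_inv_cancel_right, hgk k hk, S.gcls_el hm, hcl]
  have hfmat : Classes.mat L el DataR.bas0 f = Data.hMat := by
    rw [Classes.mat, hfm 0 (by norm_num), hfm 1 (by norm_num), hfm 2 (by norm_num), hfm 3 (by norm_num)]
    exact app_phi.2.2.2.2.2.2.2.2
  have hfa : ∀ i : ℕ, f * a ^ i * f⁻¹ = a ^ i := fun i => by
    rw [conj_pow', hf]
    congr 1
    rw [show g * a ^ _ * a * (g * a ^ _)⁻¹ = g * a * g⁻¹ from by group, hga]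
  -- the centraliser of `R`
  have hcentR : ∀ v ∈ centralizer ({t} : Set G), (∀ c ∈ L, v * el c * v⁻¹ = el c) → ∃ j < 4, v = a ^ j := by
    intro v hv hfix
    obtain ⟨c, hc, l, hl, e⟩ := S.cover hf5 hf1 hfC hv
    have hc' : c < PSplit.cert.n := by rw [hn]; exact hc
    have hvm : Classes.mat L el DataR.bas0 v = 33825 := by
      rw [Classes.mat, hfix _ (hbb 0 (by norm_num)), hfix _ (hbb 1 (by norm_num)), hfix _ (hbb 2 (by norm_num)),
        hfix _ (hbb 3 (by norm_num)), (S.bas_mem (k := 0) (by norm_num)).2, (S.bas_mem (k := 1) (by norm_num)).2,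
        (S.bas_mem (k := 2) (by norm_num)).2, (S.bas_mem (k := 3) (by norm_num)).2]
      rfl
    have hl0 : l = 0 := by
      by_contra hne
      have e2 : el c = v * f ^ (5 - l) := by
        rw [e, mul_assoc, ← pow_add, show l + (5 - l) = 5 by omega, hf5, mul_one]
      have hin := S.mat_el gens0_ok c hc'
      rw [e2, S.mat_mul hv (pow_mem hfC _), S.mat_pow hfC, hvm, hfmat] at hin
      have := hout (5 - l) (by interval_cases l <;> simp at hne ⊢)
      rw [List.contains_iff_mem.2 hin] at this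
      exact absurd this (by simp)
    subst hl0
    rw [pow_zero, mul_one] at e
    have hcm : ∀ d, d < PSplit.cert.n → el c * el d = el d * el c → pm c d = pm d c := fun d hd h =>
      S.tab.inj _ (hpm _ _ hc' hd).1 _ (hpm _ _ hd hc').1 (by rw [(hpm _ _ hc' hd).2, (hpm _ _ hd hc').2, h])
    have hcomm : ∀ d ∈ L, el c * el d = el d * el c := fun d hd => by
      have := hfix d hd
      rw [e] at this
      exact mul_inv_eq_iff_eq_mul.1 this
    obtain ⟨hla, hea⟩ := hev [0] (by simp)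
    have haL : evL [0] ∈ L := hcode haR hla (by rw [hea]; simp [pLets, lets, seven])
    have hcc := cent_ok
    simp only [centOK, List.all_eq_true, List.any_eq_true, Bool.or_eq_true, Bool.not_eq_true', Nat.beq_eq,
      List.mem_range] at hcc
    rcases hcc c hc with (h' | h') | ⟨j, hj, hj'⟩
    · rw [← Bool.not_eq_true, List.all_eq_true] at h'
      exact absurd (fun k hk => by
        simp only [List.mem_range] at hk
        simpa using hcm _ (hlt _ (hbb k hk)) (hcomm _ (hbb k hk))) h'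
    · rw [← Bool.not_eq_true] at h'
      exact absurd (by simpa using hcm _ hla (hcomm _ haL)) h'
    · refine ⟨j, hj, ?_⟩
      obtain ⟨-, he⟩ := S.tab.ev (w := List.replicate j 0) (fun i hi => by
        rw [List.eq_of_mem_replicate hi]; norm_num)
      rw [e, hj', show aPow PSplit.cert j = Tab.ev PSplit.cert (List.replicate j 0) from rfl, he,
        List.map_replicate, List.prod_replicate]
      rfl
  -- conjugation by words
  have hcjW : ∀ w : List ℕ, (∀ l ∈ w, l < 12) → ∀ c ∈ L,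
      cjW w c ∈ L ∧ el (cjW w c) = el (evL w) * el c * (el (evL w))⁻¹ := by
    intro w hw c hc
    obtain ⟨l1, -⟩ := hev w hw
    obtain ⟨i1, i2⟩ := hiw w hw
    have m1 := hpm _ _ l1 (hlt c hc)
    have m2 := hpm _ _ m1.1 (hev _ i1).1
    have e : el (cjW w c) = el (evL w) * el c * (el (evL w))⁻¹ := by rw [cjW, m2.2, m1.2, i2]
    exact ⟨hcode (S.conj_mem (S.el_mem l1) (hR c hc)) m2.1 e, e⟩
  have hex := extra_ok
  simp only [extraOK, Bool.and_eq_true, List.all_eq_true, List.any_eq_true, List.contains_iff_mem, Nat.beq_eq,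
    beq_iff_eq, decide_eq_true_eq, List.mem_range] at hex
  obtain ⟨⟨⟨⟨⟨⟨⟨⟨⟨⟨hlen, h55⟩, hconjs⟩, htau⟩, hwl⟩, htauc⟩, hcos⟩, hvar⟩, hvars⟩, hRP⟩, hb2⟩ := hex
  -- the relators
  have inv : ∀ l, cLets a z y x f (flp l) = (cLets a z y x f l)⁻¹ := lets_inv _
  have low : ∀ w : List ℕ, (∀ l ∈ w, l < 12) → (w.map (cLets a z y x f)).prod = el (evL w) := fun w hw => by
    rw [(hev w hw).2]
    congr 1
    exact List.map_congr_left fun l hl => cLets_eq a z y x f (hw l hl)
  have l12 : cLets a z y x f 12 = f := by simp [cLets, lets, seven]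
  have l13 : cLets a z y x f 13 = f⁻¹ := by simp [cLets, lets, seven]
  have hwP : ∀ l ∈ Data.tauP, l < 12 := fun l hl => hwl l (by simp [hl])
  have hwR : ∀ l ∈ Data.tauR, l < 12 := fun l hl => hwl l (by simp [hl])
  have hwQ : ∀ l ∈ Data.cosetQ, l < 12 := fun l hl => hwl l (by simp [hl])
  have htau' : ((Data.relHExtra.getD 6 []).map (cLets a z y x f)).prod = 1 := by
    rw [htau, prod_red inv]
    simp only [List.map_append, List.prod_append, prod_iw inv, low _ hwP, low _ hwR, List.map_cons, List.map_nil,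
      List.prod_cons, List.prod_nil, mul_one, l12, l13]
    set p := el (evL Data.tauP) with hp
    set q := el (evL Data.tauR) with hq
    have hpC : p ∈ centralizer ({t} : Set G) := S.el_mem (hev _ hwP).1
    have hqC : q ∈ centralizer ({t} : Set G) := S.el_mem (hev _ hwR).1
    have hf2 : f * f ∈ centralizer ({t} : Set G) := mul_mem hfC hfC
    have hv : p * f * p⁻¹ * (q * (f * f) * q⁻¹)⁻¹ ∈ centralizer ({t} : Set G) :=
      mul_mem (mul_mem (mul_mem hpC hfC) (inv_mem hpC)) (inv_mem (mul_mem (mul_mem hqC hf2) (inv_mem hqC)))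
    have hact : ∀ c ∈ L, p * f * p⁻¹ * el c * (p * f * p⁻¹)⁻¹ =
        q * (f * f) * q⁻¹ * el c * (q * (f * f) * q⁻¹)⁻¹ := fun c hc => by
      obtain ⟨a1, b1⟩ := hcjW (iw Data.tauP) (hiw _ hwP).1 c hc
      obtain ⟨a2, b2⟩ := hcjW Data.tauP hwP _ (hphiC _ a1).1
      obtain ⟨a3, b3⟩ := hcjW (iw Data.tauR) (hiw _ hwR).1 c hc
      obtain ⟨a4, b4⟩ := hcjW Data.tauR hwR _ (hphiC _ (hphiC _ a3).1).1
      rw [(hiw _ hwP).2, inv_inv] at b1
      rw [(hiw _ hwR).2, inv_inv] at b3
      have h2 := congrArg el (htauc c hc)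
      rw [b2, b4, ← hfC' _ a1, ← hfC' _ (hphiC _ a3).1, ← hfC' _ a3, b1, b3, ← hp, ← hq] at h2
      calc p * f * p⁻¹ * el c * (p * f * p⁻¹)⁻¹ = p * (f * (p⁻¹ * el c * p) * f⁻¹) * p⁻¹ := by group
        _ = q * (f * (f * (q⁻¹ * el c * q) * f⁻¹) * f⁻¹) * q⁻¹ := h2
        _ = q * (f * f) * q⁻¹ * el c * (q * (f * f) * q⁻¹)⁻¹ := by group
    set m := q * (f * f) * q⁻¹ with hm
    set n := p * f * p⁻¹ with hnd
    have hv' : ∀ c ∈ L, n * m⁻¹ * el c * (n * m⁻¹)⁻¹ = el c := fun c hc => by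
      have hmC : m ∈ centralizer ({t} : Set G) := mul_mem (mul_mem hqC hf2) (inv_mem hqC)
      obtain ⟨d, hd, ed⟩ := (S.memR _).1 (S.conj_mem (inv_mem hmC) (hR c hc))
      rw [inv_inv] at ed
      rw [show n * m⁻¹ * el c * (n * m⁻¹)⁻¹ = n * (m⁻¹ * el c * m) * n⁻¹ by group, ← ed, hact d hd, ed]
      group
    obtain ⟨j, hj, ej⟩ := hcentR _ hv hv'
    have hmn : n = a ^ j * m := by rw [← ej, inv_mul_cancel_right]
    have hca : Commute (a ^ j) m := by
      obtain ⟨k, -, ek⟩ := S.conj_a (inv_mem hqC)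
      rw [inv_inv] at ek
      have e : m * a ^ j * m⁻¹ = a ^ j := by
        rw [hm, show q * (f * f) * q⁻¹ * a ^ j * (q * (f * f) * q⁻¹)⁻¹ =
          q * (f * (f * (q⁻¹ * a ^ j * q) * f⁻¹) * f⁻¹) * q⁻¹ by group]
        have : q⁻¹ * a ^ j * q = a ^ (k * j) := by
          rw [pow_mul, ← ek]
          have := conj_pow' q⁻¹ a j
          rwa [inv_inv] at this
        rw [this, hfa, hfa, ← this]
        group
      exact (mul_inv_eq_iff_eq_mul.1 e).symm
    have hn5 : n ^ 5 = 1 := by rw [hnd, ← conj_pow', hf5, mul_one, mul_inv_cancel]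
    have hm5 : m ^ 5 = 1 := by
      rw [hm, ← conj_pow', ← pow_two, ← pow_mul, mul_comm, pow_mul, hf5, one_pow, mul_one, mul_inv_cancel]
    rw [hmn, hca.mul_pow, hm5, mul_one, ← pow_mul, show j * 5 = 4 * j + j by ring, pow_add, pow_mul, ha4, one_pow,
      one_mul] at hn5
    rw [hn5, one_mul] at hmn
    rw [hmn, hm]
    group
  have hconj : ∀ i ∈ [1, 2, 3, 4, 5], ((Data.relHExtra.getD i []).map (cLets a z y x f)).prod = 1 := by
    intro i hi
    obtain ⟨⟨⟨hw, hl⟩, hp⟩, hq⟩ := hconjs i hi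
    set p := (Data.relHExtra.getD i []).tail.takeWhile fun l => l != 13
    set q := ((Data.relHExtra.getD i []).tail.dropWhile fun l => l != 13).tail
    have hp' : ∀ l ∈ p, l < 12 := fun l h => hl l (List.mem_append_left _ h)
    have hq' : ∀ l ∈ q, l < 12 := fun l h => hl l (List.mem_append_right _ h)
    rw [hw]
    simp only [List.map_append, List.prod_append, List.map_cons, List.map_nil, List.prod_cons, List.prod_nil, mul_one,
      l12, l13, low _ hp', low _ hq']
    rw [hfC' _ hp, ← (hpm _ _ (hlt _ (hphiC _ hp).1) (hev _ hq').1).2, hq, hE.el_zero]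
  have hcoset : ∃ i < 4, ((Data.relHVar.getD i []).map (cLets a z y x f)).prod = 1 := by
    obtain ⟨lb, eb⟩ := hev [2] (by simp)
    set b := el (evL [2]) with hbd
    set q := el (evL Data.cosetQ) with hqd
    have hbC : b ∈ centralizer ({t} : Set G) := S.el_mem lb
    have hqC : q ∈ centralizer ({t} : Set G) := S.el_mem (hev _ hwQ).1
    have hv : q⁻¹ * (f * b * (f * f)) ∈ centralizer ({t} : Set G) :=
      mul_mem (inv_mem hqC) (mul_mem (mul_mem hfC hbC) (mul_mem hfC hfC))
    have hv' : ∀ c ∈ L, q⁻¹ * (f * b * (f * f)) * el c * (q⁻¹ * (f * b * (f * f)))⁻¹ = el c := fun c hc => by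
      obtain ⟨a1, -⟩ := hphiC c hc
      obtain ⟨a2, -⟩ := hphiC _ a1
      obtain ⟨a3, b3⟩ := hcjW [2] (by simp) _ a2
      obtain ⟨a4, b4⟩ := hcjW Data.cosetQ hwQ c hc
      have h2 := congrArg el (hcos c hc)
      rw [b4, ← hfC' _ a3, b3, ← hfC' _ a1, ← hfC' _ hc, ← hbd, ← hqd] at h2
      rw [show q⁻¹ * (f * b * (f * f)) * el c * (q⁻¹ * (f * b * (f * f)))⁻¹ =
        q⁻¹ * (f * (b * (f * (f * el c * f⁻¹) * f⁻¹) * b⁻¹) * f⁻¹) * q by group, h2]
      group
    obtain ⟨j, hj, ej⟩ := hcentR _ hv hv'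
    obtain ⟨i, hi, hi'⟩ := hvars j hj
    obtain ⟨htake, hdrop⟩ := hvar i hi
    refine ⟨i, hi, ?_⟩
    rw [← List.take_append_drop 5 (Data.relHVar.getD i []), htake, List.map_append, List.prod_append,
      low _ hdrop]
    obtain ⟨lj, ej'⟩ := S.tab.ev (w := List.replicate j 0) (fun i hi => by rw [List.eq_of_mem_replicate hi]; norm_num)
    rw [List.map_replicate, List.prod_replicate, show pLets a z y x (2 * 0) = a by simp [pLets, lets, seven]] at ej'
    have h2 := congrArg el hi'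
    rw [show aPow PSplit.cert j = Tab.ev PSplit.cert (List.replicate j 0) from rfl,
      (hpm _ _ (hpm _ _ (hev _ hwQ).1 lj).1 (hev _ hdrop).1).2, (hpm _ _ (hev _ hwQ).1 lj).2, ej', hE.el_zero, ← hqd,
      ← ej, mul_inv_cancel_left] at h2
    rw [← h2]
    congr 1
    simp [cLets, lets, seven]
    rw [eb]
    simp [pLets, lets, seven]
    have : f⁻¹ * (f⁻¹ * f⁻¹) = f * f := by
      rw [inv_eq_of_mul_eq_one_right (show f * f ^ 4 = 1 by rw [← pow_succ']; exact hf5)]
      calc f ^ 4 * (f ^ 4 * f ^ 4) = (f ^ 5) ^ 2 * f ^ 2 := by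
            rw [← pow_add, ← pow_add, ← pow_mul, ← pow_add]
        _ = f * f := by rw [hf5, one_pow, one_mul, pow_two]
    simp [mul_assoc, this]
  obtain ⟨i, hi, hiv⟩ := hcoset
  set RH := Data.relPSplit ++ Data.relHExtra with hRH
  have hrels : ∀ w ∈ RH ++ [Data.relHVar.getD i []], (w.map (cLets a z y x f)).prod = 1 := by
    intro w hw
    simp only [hRH, List.mem_append, List.mem_singleton] at hw
    rcases hw with (hw | hw) | hw
    · obtain ⟨hl, h0⟩ := hRP w hw
      rw [low w hl, h0, hE.el_zero]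
    · obtain ⟨k, hk, rfl⟩ := List.getElem_of_mem hw
      rw [← List.getD_eq_getElem _ [] hk]
      rw [hlen] at hk
      interval_cases k
      · rw [h55]
        simp only [List.map_cons, List.map_nil, List.prod_cons, List.prod_nil, l12, mul_one]
        simpa [pow_succ, mul_assoc] using hf5
      · exact hconj 1 (by simp)
      · exact hconj 2 (by simp)
      · exact hconj 3 (by simp)
      · exact hconj 4 (by simp)
      · exact hconj 5 (by simp)
      · exact htau'
    · rw [hw]; exact hiv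
  have hbad : ∀ (C : Cert), C.rels = (RH ++ [Data.relHVar.getD i []]).map List.reverse → C.OK → C.subs = [] →
      ∀ {cl : List (List ℕ × ℕ)}, cl.all C.closesOK = true → traced cl [0, 0] = true → False :=
    fun C hr hC hs cl hL ht => by
      have := traced_eq_one (setup_of_rels _ (by simp [seven]) hr hrels) hC hs hL ht
      simp [lets, seven] at this
      exact K.t_ne (F.t_eq ▸ this)
  interval_cases i
  · exact (hbad CBad0.cert (by decide +kernel) CBad0.valid rfl CBad0.closers_ok (by decide +kernel)).elim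
  rotate_left
  · exact (hbad CBad1.cert (by decide +kernel) CBad1.valid rfl CBad1.closers_ok (by decide +kernel)).elim
  · exact (hbad CBad2.cert (by decide +kernel) CBad2.valid rfl CBad2.closers_ok (by decide +kernel)).elim
  obtain ⟨elC, EC⟩ := Tab.exists_el (setup_of_rels _ (by simp [seven]) (show CTab.cert.rels = _ by decide +kernel)
    hrels) CTab.valid rfl ctab_tree
  have hn7 : CTab.cert.n = 7680 := rfl
  have hkl : CTab.cert.kl = [0, 2, 4, 6, 8, 10, 12] := rfl
  set Kc := closure {g | ∃ l ∈ CTab.cert.kl, g = cLets a z y x f l} with hKc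
  have hgen : ∀ l ∈ CTab.cert.kl, cLets a z y x f l ∈ centralizer ({t} : Set G) := fun l hl => by
    rw [hkl] at hl
    simp only [List.mem_cons, List.not_mem_nil, or_false] at hl
    have hP : ∀ l < 12, cLets a z y x f l ∈ centralizer ({t} : Set G) := fun l hl => by
      obtain ⟨p1, p2⟩ := hev [l] (by simpa using hl)
      rw [cLets_eq a z y x f hl, show pLets a z y x l = el (evL [l]) by rw [p2]; simp]
      exact S.el_mem p1
    rcases hl with rfl | rfl | rfl | rfl | rfl | rfl | rfl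
    all_goals first
      | exact l12.symm ▸ hfC
      | exact hP _ (by norm_num)
  have hKeq : Kc = centralizer ({t} : Set G) := by
    refine le_antisymm ((closure_le _).2 fun g ⟨l, hl, e⟩ => e ▸ hgen l hl) fun g hg => ?_
    obtain ⟨c, hc, l, -, rfl⟩ := S.cover hf5 hf1 hfC hg
    have hfK : f ∈ Kc := subset_closure ⟨12, by rw [hkl]; simp, l12.symm⟩
    refine mul_mem ?_ (pow_mem hfK _)
    clear hg
    have hc' : c < PSplit.cert.n := by rw [hn]; exact hc
    clear hc
    induction c using Nat.strong_induction_on with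
    | _ c ih =>
      by_cases hc0 : c = 0
      · rw [hc0, hE.el_zero]; exact one_mem _
      obtain ⟨hp, hj, hx⟩ := hE.step_spec hc' hc0
      rw [← hx, hE.el_nx _ (by omega) _ hj]
      refine mul_mem (subset_closure ⟨PSplit.cert.kl.getD (Tab.step Data.treeP c % 16) 0, ?_, ?_⟩)
        (ih _ hp (by omega))
      · rw [hkl, S.tab.kl_eq]
        rw [S.tab.kl_eq] at hj
        exact (by decide +kernel : ∀ i < 6, [0, 2, 4, 6, 8, 10].getD i 0 ∈ [0, 2, 4, 6, 8, 10, 12]) _ hj
      · refine (cLets_eq a z y x f ?_).symm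
        rw [S.tab.kl_eq] at hj ⊢
        exact (by decide +kernel : ∀ i < 6, [0, 2, 4, 6, 8, 10].getD i 0 < 12) _ hj
  have h07 : 0 < CTab.cert.n := by rw [hn7]; norm_num
  refine ⟨a, z, y, x, f, elC, F, EC, hn7, hkl, fun c hc d hd => ?_, fun c hc => ?_, fun g hg => ?_⟩
  · exact EC.inj h07 (by show CTab.cert.n ≤ Nat.card Kc; rw [hKeq, K.card_C, hn7]) c (hn7 ▸ hc) d (hn7 ▸ hd)
  · refine mem_centralizer_singleton_iff.1 (?_ : elC c ∈ centralizer ({t} : Set G))
    induction c using Nat.strong_induction_on with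
    | _ c ih =>
      by_cases hc0 : c = 0
      · rw [hc0, EC.el_zero]; exact one_mem _
      obtain ⟨hp, hj, hx⟩ := EC.step_spec (hn7 ▸ hc) hc0
      rw [← hx, EC.el_nx _ (by omega) _ hj]
      exact mul_mem (hgen _ (by rw [List.getD_eq_getElem _ _ hj]; exact List.getElem_mem _)) (ih _ hp (by omega))
  · obtain ⟨c, hc, e⟩ := EC.surj h07 (g := g) (by
      show g ∈ Kc
      rw [hKeq]; exact mem_centralizer_singleton_iff.2 hg)
    exact ⟨c, hn7 ▸ hc, e⟩

end CfsgLib.Recog.HsTwoLocal
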