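import Cfsg.Agent.Lib.Sporadic.PairEnum.Sound

/-!
# Group elements numbered by a closure certificate over the trivial subgroup (owner: helper28)

The final chains of such a certificate are the left Cayley table of the group generated by the followed letters, and a
search tree of that table gives a word for each number, hence the multiplication.
-/

set_option autoImplicit false

namespace CfsgLib.Recog.HsTwoLocal

open CfsgLib.Sporadic.PairEnum
open CfsgLib.ThreeTrans.CosetIndex (fld Good forallFrom forallFrom_elim actW actW_eq)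

namespace Tab

variable (C : Cert)

/-- The chain of a final step. -/
noncomputable def chain (i : ℕ) : ℕ := (C.finals.get (Nat.div i 64)).getD (Nat.mod i 64) 0

/-- The number of the product of a followed letter and an element. -/
noncomputable def nx (c j : ℕ) : ℕ := fld (chain C (Nat.add (Nat.mul c C.kl.length) j)) 0

/-- Parent and letter of a number in the search tree, `parent * 16 + letter`. -/
noncomputable def step (T : CfsgLib.Recog.SporBound.Q ℕ) (c : ℕ) : ℕ := fld (T.get (Nat.shiftRight c 7)) (Nat.land c 127)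

/-- The tree leads down to zero along the table. -/
noncomputable def treeOK (T : CfsgLib.Recog.SporBound.Q ℕ) (c : ℕ) : Bool :=
  Nat.beq c 0 || (Nat.blt (Nat.div (step T c) 16) c && (Nat.blt (Nat.mod (step T c) 16) C.kl.length &&
    Nat.beq (nx C (Nat.div (step T c) 16) (Nat.mod (step T c) 16)) c))

/-- The product of two numbers, with fuel. -/
noncomputable def mulAux (T : CfsgLib.Recog.SporBound.Q ℕ) (d : ℕ) (fuel : ℕ) : ℕ → ℕ :=
  Nat.rec (motive := fun _ => ℕ → ℕ) (fun _ => d)
    (fun _ ih c => cond (Nat.beq c 0) d (nx C (ih (Nat.div (step T c) 16)) (Nat.mod (step T c) 16))) fuel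

/-- The product of two numbers. -/
noncomputable def mul (T : CfsgLib.Recog.SporBound.Q ℕ) (c d : ℕ) : ℕ := mulAux C T d C.n c

/-- The number of a word in the positions of the followed letters, read as a product. -/
noncomputable def ev (w : List ℕ) : ℕ := w.foldr (fun j c => nx C c j) 0

theorem allIdx_getD {f : ℕ → ℕ → Bool} : ∀ {L : List ℕ} {start : ℕ}, Cert.allIdx f L start = true →
    ∀ k < L.length, f (start + k) (L.getD k 0) = true
  | [], _, _, k, hk => absurd hk (by simp)
  | p :: L, start, h, k, hk => by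
    have h' : (f start p && Cert.allIdx f L (start + 1)) = true := h
    rw [Bool.and_eq_true] at h'
    cases k with
    | zero => simpa using h'.1
    | succ k =>
      simp only [List.length_cons] at hk
      have := allIdx_getD h'.2 k (by omega)
      rwa [show start + 1 + k = start + (k + 1) by omega] at this

variable {C}

theorem finalOK_chain (hC : C.OK) {i : ℕ} (hi : i < C.n * C.kl.length) : C.finalOK i (chain C i) = true := by
  have h := hC.finals
  rw [Cert.finalsPart, Cert.finalChunks] at h
  have hh := forallFrom_elim h (i := i / 64) (Nat.zero_le _) (by omega)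
  simp only [Bool.and_eq_true, Bool.or_eq_true, Nat.beq_eq, Nat.ble_eq] at hh
  obtain ⟨h1, h2⟩ := hh
  have hlen : i % 64 < (C.finals.get (i / 64)).length := by
    rcases h2 with h2 | h2 <;> omega
  have := allIdx_getD h1 (i % 64) hlen
  rw [show 64 * (i / 64) + i % 64 = i by omega] at this
  exact this

/-- The group elements of the numbers. -/
structure Elts (C : Cert) (T : CfsgLib.Recog.SporBound.Q ℕ) {G : Type*} [Group G] (a : ℕ → G) (el : ℕ → G) : Prop where
  el_zero : el 0 = 1
  nx_lt : ∀ c < C.n, ∀ j < C.kl.length, nx C c j < C.n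
  el_nx : ∀ c < C.n, ∀ j < C.kl.length, el (nx C c j) = a (C.kl.getD j 0) * el c
  tree : ∀ c < C.n, treeOK C T c = true

variable {G : Type*} [Group G] {a : ℕ → G} {T : CfsgLib.Recog.SporBound.Q ℕ}

theorem exists_el (hS : Cert.Setup C a) (hC : C.OK) (hsubs : C.subs = [])
    (hT : forallFrom (treeOK C T) 0 C.n = true) : ∃ el : ℕ → G, Elts C T a el := by
  have hb : 0 < C.n ∧ C.nodeOf 0 = 0 ∧ C.nd ≤ C.nf := by simpa [and_assoc] using hC.base
  obtain ⟨v, hv0, good⟩ := Cert.exists_nodes hS hC.defs hC.steps ⊥ (by simp [hsubs])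
  let e := (QuotientGroup.quotientBot (G := G)).toEquiv
  have esmul : ∀ (g : G) (q : G ⧸ (⊥ : Subgroup G)), e (g • q) = g * e q := by
    intro g q
    induction q using QuotientGroup.induction_on with
    | H x => rfl
  have hfin : ∀ c < C.n, ∀ j < C.kl.length,
      nx C c j < C.n ∧ a (C.kl.getD j 0) • v (C.nodeOf c) = v (C.nodeOf (nx C c j)) := by
    intro c hc j hj
    have hlt : c * C.kl.length + j < C.n * C.kl.length := by
      have := Nat.mul_le_mul_right C.kl.length (show c + 1 ≤ C.n from hc)
      rw [Nat.add_mul] at this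
      omega
    have hp := finalOK_chain hC hlt
    have hlen : 0 < C.kl.length := by omega
    rw [Cert.finalOK, show (c * C.kl.length + j) / C.kl.length = c by
        rw [Nat.mul_comm, Nat.mul_add_div hlen, Nat.div_eq_of_lt hj, Nat.add_zero],
      show (c * C.kl.length + j) % C.kl.length = j by
        rw [Nat.mul_comm, Nat.mul_add_mod, Nat.mod_eq_of_lt hj]] at hp
    unfold Cert.endsAt at hp
    cases hw : C.walk C.nf (chain C (c * C.kl.length + j)) 2 (fld (chain C (c * C.kl.length + j)) 1)
        (C.nodeOf c, [C.kl.getD j 0]) with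
    | none => rw [hw] at hp; simp at hp
    | some r =>
      rw [hw] at hp
      simp only [Bool.and_eq_true, Nat.beq_eq, List.isEmpty_iff] at hp
      obtain ⟨u, hu, hu'⟩ := Cert.walk_sound hS.inv hS.eq good hw
      rw [hp.2.2, List.append_nil] at hu
      dsimp only at hu hu'
      rw [← hu, hp.2.1] at hu'
      simp only [actW] at hu'
      exact ⟨by show fld _ 0 < C.n; simpa using hp.1, hu'⟩
  refine ⟨fun c => e (v (C.nodeOf c)), ?_, fun c hc j hj => (hfin c hc j hj).1, fun c hc j hj => ?_,
    fun c hc => forallFrom_elim hT (Nat.zero_le c) (by omega)⟩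
  · show e (v (C.nodeOf 0)) = 1
    rw [hb.2.1, hv0]
    rfl
  · show e (v (C.nodeOf (nx C c j))) = _ * e (v (C.nodeOf c))
    rw [← (hfin c hc j hj).2, esmul]

namespace Elts

variable {el : ℕ → G}

theorem step_spec (E : Elts C T a el) {c : ℕ} (hc : c < C.n) (h0 : c ≠ 0) :
    step T c / 16 < c ∧ step T c % 16 < C.kl.length ∧
      nx C (step T c / 16) (step T c % 16) = c := by
  have h := E.tree c hc
  simp only [treeOK, Bool.or_eq_true, Bool.and_eq_true, Nat.beq_eq, Nat.blt_eq] at h
  exact h.resolve_left h0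

theorem mulAux_spec (E : Elts C T a el) {d : ℕ} (hd : d < C.n) : ∀ fuel c, c ≤ fuel → c < C.n →
    mulAux C T d fuel c < C.n ∧ el (mulAux C T d fuel c) = el c * el d
  | 0, c, hf, _ => by
    obtain rfl : c = 0 := by omega
    exact ⟨hd, by rw [E.el_zero, one_mul]; rfl⟩
  | fuel + 1, c, hf, hc => by
    by_cases h0 : c = 0
    · subst h0
      exact ⟨hd, by rw [E.el_zero, one_mul]; rfl⟩
    obtain ⟨hp, hj, hx⟩ := E.step_spec hc h0
    obtain ⟨h1, h2⟩ := mulAux_spec E hd fuel (step T c / 16) (by omega) (by omega)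
    have hb : Nat.beq c 0 = false := Bool.eq_false_iff.2 fun h => h0 (Nat.eq_of_beq_eq_true h)
    have hu : mulAux C T d (fuel + 1) c = nx C (mulAux C T d fuel (step T c / 16)) (step T c % 16) := by
      show cond (Nat.beq c 0) d _ = _
      rw [hb]
      rfl
    rw [hu]
    refine ⟨E.nx_lt _ h1 _ hj, ?_⟩
    rw [E.el_nx _ h1 _ hj, h2, ← mul_assoc, ← E.el_nx _ (by omega) _ hj, hx]

theorem mul_lt (E : Elts C T a el) {c d : ℕ} (hc : c < C.n) (hd : d < C.n) : mul C T c d < C.n :=
  (E.mulAux_spec hd C.n c hc.le hc).1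

theorem el_mul (E : Elts C T a el) {c d : ℕ} (hc : c < C.n) (hd : d < C.n) : el (mul C T c d) = el c * el d :=
  (E.mulAux_spec hd C.n c hc.le hc).2

theorem ev_spec (E : Elts C T a el) (h0 : 0 < C.n) : ∀ {w : List ℕ}, (∀ j ∈ w, j < C.kl.length) →
    ev C w < C.n ∧ el (ev C w) = (w.map fun j => a (C.kl.getD j 0)).prod
  | [], _ => ⟨h0, by simp [ev, E.el_zero]⟩
  | j :: w, h => by
    obtain ⟨h1, h2⟩ := ev_spec E h0 (w := w) fun i hi => h i (List.mem_cons_of_mem _ hi)
    have hj := h j List.mem_cons_self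
    show nx C (ev C w) j < C.n ∧ el (nx C (ev C w) j) = _
    exact ⟨E.nx_lt _ h1 _ hj, by rw [E.el_nx _ h1 _ hj, h2, List.map_cons, List.prod_cons]⟩

/-- Every product of letters has a number. -/
theorem surj [Finite G] (E : Elts C T a el) (h0 : 0 < C.n) {g : G}
    (hg : g ∈ Subgroup.closure {g | ∃ x ∈ C.kl, g = a x}) : ∃ c < C.n, el c = g := by
  induction hg using Subgroup.closure_induction with
  | mem g h =>
    obtain ⟨x, hx, rfl⟩ := h
    have hj : C.kl.idxOf x < C.kl.length := List.idxOf_lt_length_iff.2 hx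
    refine ⟨nx C 0 (C.kl.idxOf x), E.nx_lt _ h0 _ hj, ?_⟩
    rw [E.el_nx _ h0 _ hj, E.el_zero, mul_one, List.getD_eq_getElem _ _ hj, List.getElem_idxOf]
  | one => exact ⟨0, h0, E.el_zero⟩
  | mul g g' _ _ ih ih' =>
    obtain ⟨c, hc, rfl⟩ := ih
    obtain ⟨d, hd, rfl⟩ := ih'
    exact ⟨_, E.mul_lt hc hd, E.el_mul hc hd⟩
  | inv g _ ih =>
    obtain ⟨c, hc, rfl⟩ := ih
    obtain ⟨k, hk⟩ : (el c)⁻¹ ∈ Submonoid.powers (el c) := by
      rw [mem_powers_iff_mem_zpowers]
      exact (Subgroup.zpowers (el c)).inv_mem (Subgroup.mem_zpowers _)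
    rw [← hk]
    clear hk
    induction k with
    | zero => exact ⟨0, h0, by simp [E.el_zero]⟩
    | succ k ih =>
      obtain ⟨d, hd, e⟩ := ih
      exact ⟨_, E.mul_lt hd hc, by show _ = el c ^ (k + 1); rw [E.el_mul hd hc, e, pow_succ]⟩

/-- The numbers are injective when the group is large enough. -/
theorem inj [Finite G] (E : Elts C T a el) (h0 : 0 < C.n)
    (hcard : C.n ≤ Nat.card (Subgroup.closure {g | ∃ x ∈ C.kl, g = a x})) :
    ∀ c < C.n, ∀ d < C.n, el c = el d → c = d := by
  classical
  set K := Subgroup.closure {g | ∃ x ∈ C.kl, g = a x} with hK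
  have hsub : (K : Set G) ⊆ el '' Set.Iio C.n := fun g hg => by
    obtain ⟨c, hc, e⟩ := E.surj h0 hg
    exact ⟨c, hc, e⟩
  have h1 : C.n ≤ (el '' Set.Iio C.n).ncard := by
    refine hcard.trans ?_
    rw [show Nat.card K = (K : Set G).ncard from (Nat.card_coe_set_eq _).symm ▸ rfl]
    exact Set.ncard_le_ncard hsub (Set.toFinite _)
  have h2 : (Set.Iio C.n).ncard = C.n := by
    rw [← Nat.card_coe_set_eq, Nat.card_eq_fintype_card]
    simp
  have hi : Set.InjOn el (Set.Iio C.n) := Set.injOn_of_ncard_image_eq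
    (le_antisymm (Set.ncard_image_le (Set.finite_Iio _)) (by omega)) (Set.finite_Iio _)
  exact fun c hc d hd e => hi hc hd e

end Elts

end Tab

end CfsgLib.Recog.HsTwoLocal
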