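import Cfsg.Agent.Lib.Recog.HsTwoLocal.Frame
import Cfsg.Agent.Lib.Recog.HsTwoLocal.Table
import Cfsg.Agent.Lib.Recog.HsTwoLocal.Data
import Cfsg.Agent.Lib.Recog.HsTwoLocal.DataR
import Cfsg.Agent.Lib.Recog.HsTwoLocal.Certs.MBad0.Valid
import Cfsg.Agent.Lib.Recog.HsTwoLocal.Certs.MBad1.Valid
import Cfsg.Agent.Lib.Recog.HsTwoLocal.Certs.MBad2.Valid
import Cfsg.Agent.Lib.Recog.HsTwoLocal.Certs.MBad3.Valid
import Cfsg.Agent.Lib.Recog.HsTwoLocal.Certs.MBad4.Valid
import Cfsg.Agent.Lib.Recog.HsTwoLocal.Certs.MBad5.Valid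
import Cfsg.Agent.Lib.Recog.HsTwoLocal.Certs.MBad6.Valid
import Cfsg.Agent.Lib.Recog.HsTwoLocal.Certs.MBad7.Valid
import Cfsg.Agent.Lib.Recog.HsTwoLocal.Certs.MBad8.Valid
import Cfsg.Agent.Lib.Recog.HsTwoLocal.Certs.MBad9.Valid
import Cfsg.Agent.Lib.Recog.HsTwoLocal.Certs.MBad10.Valid
import Cfsg.Agent.Lib.Recog.HsTwoLocal.Certs.MBad11.Valid
import Cfsg.Agent.Lib.Recog.HsTwoLocal.Certs.MBad12.Valid
import Cfsg.Agent.Lib.Recog.HsTwoLocal.Certs.MBad13.Valid
import Cfsg.Agent.Lib.Recog.HsTwoLocal.Certs.MSplit.Valid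
import Cfsg.Agent.Lib.Recog.HsTwoLocal.Certs.MNon.Valid
import Cfsg.Agent.Lib.Recog.HsTwoLocal.Certs.PSplit.Valid
import Cfsg.Agent.Lib.Recog.HsTwoLocal.Certs.PNon.Valid

/-!
# The centraliser of `t` in `N(V)` (owner: helper28)

Fourteen of the sixteen choices of constants collapse. In the two extensions that remain the centraliser of `t` is a
group of order 1536 with known multiplication table; in the non-split one it has no room for `O_2(C(t))`, in the split
one there are two candidates.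
-/

set_option autoImplicit false

namespace CfsgLib.Recog.HsTwoLocal

open Subgroup CfsgLib.Sporadic.PairEnum
open CfsgLib.ThreeTrans.CosetIndex (forallFrom)
open CfsgLib.Recog.SporBound (Q)

variable {G : Type*} [Group G] {t : G} {R M A V : Subgroup G} {a z y x : G} {k f₁ f₂ : ℕ}

/-- A word is, after free reduction, empty or among the traced ones. -/
def traced (cl : List (List ℕ × ℕ)) (w : List ℕ) : Bool :=
  (red w).isEmpty || cl.any fun e => e.1.reverse == red w

theorem traced_eq_one {C : Cert} {φ : ℕ → G} (hS : Cert.Setup C φ) (hC : C.OK) (hsubs : C.subs = [])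
    {cl : List (List ℕ × ℕ)} (hL : cl.all C.closesOK = true) {w : List ℕ} (h : traced cl w = true) :
    (w.map φ).prod = 1 := by
  have hb : (Nat.beq (C.nodeOf 0) 0 && Nat.ble C.nd C.nf) = true := by
    have hb : 0 < C.n ∧ C.nodeOf 0 = 0 ∧ C.nd ≤ C.nf := by simpa [and_assoc] using hC.base
    simp [hb.2.1, hb.2.2]
  rw [← prod_red hS.inv]
  simp only [traced, Bool.or_eq_true, List.isEmpty_iff, List.any_eq_true, beq_iff_eq] at h
  rcases h with h | ⟨e, he, h⟩
  · simp [h]
  · rw [← h]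
    exact Cert.closer_eq_one hS hb hC.defs hC.steps hsubs hL e he

theorem Frame.setup (F : Frame t M A a z y x k f₁ f₂) {C : Cert}
    (hr : C.rels = (relM k f₁ f₂).map List.reverse) : Cert.Setup C (lets [a, z, y, x, 1]) :=
  setup_of_rels _ (by simp) hr F.rels

theorem Frame.collapse (F : Frame t M A a z y x k f₁ f₂) (ht : t ≠ 1) {C : Cert}
    (hr : C.rels = (relM k f₁ f₂).map List.reverse) (hC : C.OK) (hsubs : C.subs = []) {cl : List (List ℕ × ℕ)}
    (hL : cl.all C.closesOK = true) (h : traced cl [0, 0] = true) : False := by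
  have := traced_eq_one (F.setup hr) hC hsubs hL h
  simp [lets] at this
  exact ht (F.t_eq ▸ this)

open Certs in
theorem Frame.good (F : Frame t M A a z y x k f₁ f₂) (ht : t ≠ 1) (hk : k = 0 ∨ k = 2) (h₁ : f₁ = 0 ∨ f₁ = 38)
    (h₂ : f₂ = 0 ∨ f₂ = 25 ∨ f₂ = 34 ∨ f₂ = 59) :
    k = 0 ∧ ((f₁ = 0 ∧ f₂ = 0) ∨ (f₁ = 38 ∧ f₂ = 59)) := by
  rcases hk with rfl | rfl <;> rcases h₁ with rfl | rfl <;> rcases h₂ with rfl | rfl | rfl | rfl
  · exact ⟨rfl, Or.inl ⟨rfl, rfl⟩⟩
  · exact (F.collapse ht (C := MBad0.cert) (by decide +kernel) MBad0.valid rfl MBad0.closers_ok (by decide +kernel)).elim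
  · exact (F.collapse ht (C := MBad1.cert) (by decide +kernel) MBad1.valid rfl MBad1.closers_ok (by decide +kernel)).elim
  · exact (F.collapse ht (C := MBad2.cert) (by decide +kernel) MBad2.valid rfl MBad2.closers_ok (by decide +kernel)).elim
  · exact (F.collapse ht (C := MBad3.cert) (by decide +kernel) MBad3.valid rfl MBad3.closers_ok (by decide +kernel)).elim
  · exact (F.collapse ht (C := MBad4.cert) (by decide +kernel) MBad4.valid rfl MBad4.closers_ok (by decide +kernel)).elim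
  · exact (F.collapse ht (C := MBad5.cert) (by decide +kernel) MBad5.valid rfl MBad5.closers_ok (by decide +kernel)).elim
  · exact ⟨rfl, Or.inr ⟨rfl, rfl⟩⟩
  · exact (F.collapse ht (C := MBad6.cert) (by decide +kernel) MBad6.valid rfl MBad6.closers_ok (by decide +kernel)).elim
  · exact (F.collapse ht (C := MBad7.cert) (by decide +kernel) MBad7.valid rfl MBad7.closers_ok (by decide +kernel)).elim
  · exact (F.collapse ht (C := MBad8.cert) (by decide +kernel) MBad8.valid rfl MBad8.closers_ok (by decide +kernel)).elim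
  · exact (F.collapse ht (C := MBad9.cert) (by decide +kernel) MBad9.valid rfl MBad9.closers_ok (by decide +kernel)).elim
  · exact (F.collapse ht (C := MBad10.cert) (by decide +kernel) MBad10.valid rfl MBad10.closers_ok (by decide +kernel)).elim
  · exact (F.collapse ht (C := MBad11.cert) (by decide +kernel) MBad11.valid rfl MBad11.closers_ok (by decide +kernel)).elim
  · exact (F.collapse ht (C := MBad12.cert) (by decide +kernel) MBad12.valid rfl MBad12.closers_ok (by decide +kernel)).elim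
  · exact (F.collapse ht (C := MBad13.cert) (by decide +kernel) MBad13.valid rfl MBad13.closers_ok (by decide +kernel)).elim

/-! ### the action on `V` -/

theorem Frame.abasis (F : Frame t M A a z y x k f₁ f₂) (K : Ctx t R M A V) :
    ABasis A a (z * a * z⁻¹) (z * (z * a * z⁻¹) * z⁻¹) :=
  ⟨F.a_mem, K.A_conj z F.z_mem a F.a_mem, K.A_conj z F.z_mem _ (K.A_conj z F.z_mem a F.a_mem)⟩

theorem Frame.vbasis (F : Frame t M A a z y x k f₁ f₂) (K : Ctx t R M A V) :
    VBasis V t (z * t * z⁻¹) (z * (z * t * z⁻¹) * z⁻¹) := by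
  have B := F.abasis K
  set b := z * a * z⁻¹ with hb
  set c := z * b * z⁻¹ with hc
  have hbb : z * t * z⁻¹ = b * b := by rw [hb, ← F.t_eq]; group
  rw [hbb, show z * (b * b) * z⁻¹ = c * c by rw [hc]; group, ← F.t_eq]
  have e2 : vel a b c 2 = a * a := by simp [vel, pow_two]
  have e8 : vel a b c 8 = b * b := by simp [vel, pow_two]
  have e32 : vel a b c 32 = c * c := by simp [vel, pow_two]
  have e10 : vel a b c 10 = a * a * (b * b) := by simp [vel, pow_two]
  have e0 : vel a b c 0 = 1 := by simp [vel]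
  have m : ∀ n < 64, vadd n n = 0 → vel a b c n ∈ V := fun n hn h => (K.mem_V _).2
    ⟨B.vel_mem n, by rw [B.vel_mul K, h, e0]⟩
  have d : ∀ {p q : ℕ}, p < 64 → q < 64 → p ≠ q → vel a b c p ≠ vel a b c q := fun hp hq hne e =>
    hne (F.inj _ hp _ hq e)
  refine ⟨e2 ▸ m 2 (by norm_num) (by decide), e8 ▸ m 8 (by norm_num) (by decide), e32 ▸ m 32 (by norm_num) (by decide),
    ?_, ?_, ?_, ?_, ?_, ?_, ?_⟩
  · rw [← e2, ← e0]; exact d (by norm_num) (by norm_num) (by norm_num)
  · rw [← e8, ← e0]; exact d (by norm_num) (by norm_num) (by norm_num)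
  · rw [← e2, ← e8]; exact d (by norm_num) (by norm_num) (by norm_num)
  · rw [← e32, ← e0]; exact d (by norm_num) (by norm_num) (by norm_num)
  · rw [← e32, ← e2]; exact d (by norm_num) (by norm_num) (by norm_num)
  · rw [← e32, ← e8]; exact d (by norm_num) (by norm_num) (by norm_num)
  · rw [← e32, ← e10]; exact d (by norm_num) (by norm_num) (by norm_num)

theorem Frame.z_seven (F : Frame t M A a z y x k f₁ f₂) : z ^ 7 = 1 := by
  simpa [lets, pow_succ, mul_assoc] using
    F.rels [2, 2, 2, 2, 2, 2, 2] (List.mem_map.2 ⟨[2, 2, 2, 2, 2, 2, 2], by simp, rfl⟩)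

theorem Frame.actions (F : Frame t M A a z y x k f₁ f₂) (K : Ctx t R M A V) {n : ℕ} (hn : n < 8) :
    let v := vv t (z * t * z⁻¹) (z * (z * t * z⁻¹) * z⁻¹)
    z * v n * z⁻¹ = v (lin2 2 4 5 n) ∧ y * v n * y⁻¹ = v (lin2 1 4 7 n) ∧ x * v n * x⁻¹ = v (lin2 1 4 2 n) := by
  intro v
  have B := F.abasis K
  have BV := F.vbasis K
  have r : ∀ w : List ℕ, red w = w → w ∈ [[0, 0, 0, 0], cmWord [0] bWord, cmWord [0] cWord,
      [2, 2, 2, 2, 2, 2, 2], [4, 4, 4], [4, 2, 5, 3, 3], [4, 0, 5, 1],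
      [2] ++ cWord ++ [3] ++ iw ([0] ++ bWord ++ bWord ++ cWord), [6, 0, 7, 0],
      [6] ++ bWord ++ [7] ++ cWord, [6, 4, 7, 4]] → (w.map (lets [a, z, y, x, 1])).prod = 1 := fun w h hw => by
    refine F.rels w (List.mem_map.2 ⟨w, ?_, h⟩)
    simp only [List.mem_cons, List.not_mem_nil, or_false] at hw ⊢
    tauto
  have hyz : y * z * y⁻¹ = z * z := by
    have := r [4, 2, 5, 3, 3] (by decide) (by simp)
    simp [lets] at this
    rw [← mul_inv_eq_one, ← this]; simp [mul_assoc]
  have hya : y * a * y⁻¹ = a := by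
    have := r [4, 0, 5, 1] (by decide) (by simp)
    simp [lets] at this
    rw [← mul_inv_eq_one, ← this]; simp [mul_assoc]
  have hxa : x * a * x⁻¹ = a⁻¹ := by
    have := r [6, 0, 7, 0] (by decide) (by simp)
    simp [lets] at this
    rw [eq_inv_iff_mul_eq_one, ← this]; simp [mul_assoc]
  have hxy : x * y * x⁻¹ = y⁻¹ := by
    have := r [6, 4, 7, 4] (by decide) (by simp)
    simp [lets] at this
    rw [eq_inv_iff_mul_eq_one, ← this]; simp [mul_assoc]
  have hzc : z * (z * (z * a * z⁻¹) * z⁻¹) * z⁻¹ = vel a (z * a * z⁻¹) (z * (z * a * z⁻¹) * z⁻¹) 25 := by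
    have := F.rels _ (List.mem_map.2 ⟨[2] ++ cWord ++ [3] ++ iw ([0] ++ bWord ++ bWord ++ cWord), by simp, rfl⟩)
    rw [prod_red (lets_inv _)] at this
    simp [bWord, cWord, iw, lets] at this
    rw [← mul_inv_eq_one, ← this]; simp [vel, pow_two, mul_assoc]
  set u := z * t * z⁻¹ with hu
  set w := z * u * z⁻¹ with hw
  have v1 : v 1 = t := by simp [v, vv]
  have v2 : v 2 = u := by simp [v, vv]; rfl
  have v4 : v 4 = w := by simp [v, vv]; rfl
  have hwc : w = z * (z * a * z⁻¹) * z⁻¹ * (z * (z * a * z⁻¹) * z⁻¹) := by rw [hw, hu, ← F.t_eq]; group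
  have hzw : z * w * z⁻¹ = v 5 := by
    rw [hwc, show z * (z * (z * a * z⁻¹) * z⁻¹ * (z * (z * a * z⁻¹) * z⁻¹)) * z⁻¹ =
      (z * (z * (z * a * z⁻¹) * z⁻¹) * z⁻¹) * (z * (z * (z * a * z⁻¹) * z⁻¹) * z⁻¹) by group, hzc, B.vel_sq K]
    show vv _ _ _ 5 = vv _ _ _ 5
    rw [F.t_eq, show z * a * z⁻¹ * (z * a * z⁻¹) = u by rw [hu, ← F.t_eq]; group, ← hwc]
  have hyt : y * t * y⁻¹ = t := by
    rw [← F.t_eq, show y * (a * a) * y⁻¹ = (y * a * y⁻¹) * (y * a * y⁻¹) by group, hya]
  have hz : ∀ n < 8, z * v n * z⁻¹ = v (lin2 2 4 5 n) := fun n hn =>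
    BV.conj K (by norm_num) (by norm_num) (by norm_num) (hu.symm.trans v2.symm) (hw.symm.trans v4.symm)
      hzw hn
  have ay : y * u * y⁻¹ = w := F.act_y
  have ax : x * u * x⁻¹ = w := F.act_x
  have hy : ∀ n < 8, y * v n * y⁻¹ = v (lin2 1 4 7 n) := fun n hn => by
    refine BV.conj K (by norm_num) (by norm_num) (by norm_num) (hyt.trans v1.symm) (F.act_y.trans v4.symm) ?_ hn
    rw [hw, show y * (z * u * z⁻¹) * y⁻¹ = (y * z * y⁻¹) * (y * u * y⁻¹) * (y * z * y⁻¹)⁻¹ by group, hyz, ay,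
      ← hw, show z * z * w * (z * z)⁻¹ = z * (z * w * z⁻¹) * z⁻¹ by group, hzw, hz 5 (by norm_num)]
    rfl
  refine ⟨hz n hn, hy n hn, BV.conj K (by norm_num) (by norm_num) (by norm_num) ?_ (F.act_x.trans v4.symm) ?_ hn⟩
  · refine Eq.trans ?_ v1.symm
    rw [← F.t_eq, show x * (a * a) * x⁻¹ = (x * a * x⁻¹) * (x * a * x⁻¹) by group, hxa, ← mul_inv_rev, F.t_eq,
      inv_eq_of_mul_eq_one_right K.t_sq]
  · refine Eq.trans ?_ v2.symm
    have hyi : ∀ p q : G, y * p * y⁻¹ = q → y⁻¹ * q * y = p := fun p q e => by rw [← e]; group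
    rw [← ay, show x * (y * u * y⁻¹) * x⁻¹ = (x * y * x⁻¹) * (x * u * x⁻¹) * (x * y * x⁻¹)⁻¹ by group, hxy,
      ax, inv_inv]
    exact hyi _ _ ay

/-- The action of a word in `z, y, x` on the codes of `V`. -/
def wAct (w : List ℕ) (n : ℕ) : ℕ :=
  w.foldr (fun l v => if l = 2 then lin2 2 4 5 v else if l = 4 then lin2 1 4 7 v else lin2 1 4 2 v) n

theorem Frame.act_word (F : Frame t M A a z y x k f₁ f₂) (K : Ctx t R M A V) : ∀ {w : List ℕ},
    (∀ l ∈ w, l = 2 ∨ l = 4 ∨ l = 6) → ∀ {n : ℕ}, n < 8 → wAct w n < 8 ∧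
      (w.map (lets [a, z, y, x, 1])).prod * vv t (z * t * z⁻¹) (z * (z * t * z⁻¹) * z⁻¹) n *
        ((w.map (lets [a, z, y, x, 1])).prod)⁻¹ = vv t (z * t * z⁻¹) (z * (z * t * z⁻¹) * z⁻¹) (wAct w n)
  | [], _, n, hn => ⟨hn, by simp [wAct]⟩
  | l :: w, h, n, hn => by
    obtain ⟨h1, h2⟩ := F.act_word K (w := w) (fun l hl => h l (List.mem_cons_of_mem _ hl)) hn
    have hlt : ∀ m < 8, lin2 2 4 5 m < 8 ∧ lin2 1 4 7 m < 8 ∧ lin2 1 4 2 m < 8 := by decide +kernel
    obtain ⟨a1, a2, a3⟩ := F.actions K h1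
    rw [List.map_cons, List.prod_cons, show ∀ p q r : G, p * q * r * (p * q)⁻¹ = p * (q * r * q⁻¹) * p⁻¹ from
      fun p q r => by group, h2]
    rcases h l List.mem_cons_self with rfl | rfl | rfl
    · exact ⟨(hlt _ h1).1, by simpa [lets, wAct] using a1⟩
    · exact ⟨(hlt _ h1).2.1, by simpa [lets, wAct] using a2⟩
    · exact ⟨(hlt _ h1).2.2, by simpa [lets, wAct] using a3⟩

theorem gl_letters : (Data.glWords.all fun w => w.all fun l => l == 2 || l == 4 || l == 6) = true := by
  decide +kernel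

theorem gl_length : Data.glWords.length = 168 := by decide +kernel

theorem gl_nodup : (Data.glWords.map fun w => (wAct w 1, wAct w 2, wAct w 4)).Nodup := by decide +kernel

theorem Frame.gen [Finite G] (F : Frame t M A a z y x k f₁ f₂) (K : Ctx t R M A V) :
    closure ({a, z, y, x} : Set G) = M := by
  classical
  set B := closure ({a, z, y, x} : Set G) with hB
  have hle : B ≤ M := (closure_le M).2 fun g hg => by
    simp only [Set.mem_insert_iff, Set.mem_singleton_iff] at hg
    rcases hg with rfl | rfl | rfl | rfl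
    exacts [K.A_le F.a_mem, F.z_mem, F.y_mem, F.x_mem]
  have ha : a ∈ B := subset_closure (by simp)
  have hz : z ∈ B := subset_closure (by simp)
  have hy : y ∈ B := subset_closure (by simp)
  have hx : x ∈ B := subset_closure (by simp)
  have hA : ∀ g ∈ A, g ∈ B := fun g hg => by
    obtain ⟨n, -, rfl⟩ := F.basis g hg
    exact mul_mem (mul_mem (pow_mem ha _) (pow_mem (mul_mem (mul_mem hz ha) (inv_mem hz)) _))
      (pow_mem (mul_mem (mul_mem hz (mul_mem (mul_mem hz ha) (inv_mem hz))) (inv_mem hz)) _)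
  have hlet : ∀ i : Fin 168, ∀ l ∈ Data.glWords[i.1]'(by rw [gl_length]; exact i.2), l = 2 ∨ l = 4 ∨ l = 6 :=
    fun i l hl => by
      simpa [or_assoc] using List.all_eq_true.1 (List.all_eq_true.1 gl_letters _ (List.getElem_mem _)) l hl
  let g : Fin 168 → G := fun i => ((Data.glWords[i.1]'(by rw [gl_length]; exact i.2)).map (lets [a, z, y, x, 1])).prod
  have hgB : ∀ i, g i ∈ B := fun i => B.list_prod_mem fun q hq => by
    obtain ⟨l, hl, rfl⟩ := List.mem_map.1 hq
    rcases hlet i l hl with rfl | rfl | rfl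
    · simpa [lets] using hz
    · simpa [lets] using hy
    · simpa [lets] using hx
  let f : Fin 168 × A → B := fun p => ⟨g p.1 * p.2, mul_mem (hgB p.1) (hA _ p.2.2)⟩
  have hf : Function.Injective f := by
    rintro ⟨i, α⟩ ⟨j, β⟩ e
    have e' : g i * α = g j * β := congrArg Subtype.val e
    have same : ∀ n < 8, wAct (Data.glWords[i.1]'(by rw [gl_length]; exact i.2)) n =
        wAct (Data.glWords[j.1]'(by rw [gl_length]; exact j.2)) n := fun n hn => by
      obtain ⟨h1, h2⟩ := F.act_word K (hlet i) hn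
      obtain ⟨h3, h4⟩ := F.act_word K (hlet j) hn
      refine (F.vbasis K).vv_inj K _ h1 _ h3 ?_
      rw [← h2, ← h4]
      have hv := (F.vbasis K).vv_mem n
      generalize vv t (z * t * z⁻¹) (z * (z * t * z⁻¹) * z⁻¹) n = v at hv ⊢
      show g i * v * (g i)⁻¹ = g j * v * (g j)⁻¹
      rw [show g i = g j * β * (α : G)⁻¹ by rw [← e', mul_inv_cancel_right],
        show g j * β * (α : G)⁻¹ * v * (g j * β * (α : G)⁻¹)⁻¹ = g j * ((β * (α : G)⁻¹) * v * (β * (α : G)⁻¹)⁻¹) * (g j)⁻¹ by
          group, K.A_comm _ (mul_mem β.2 (inv_mem α.2)) v (K.V_le hv), mul_inv_cancel_right]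
    have hij : i = j := by
      have := (List.Nodup.getElem_inj_iff gl_nodup (i := i.1) (j := j.1)
        (hi := by rw [List.length_map, gl_length]; exact i.2) (hj := by rw [List.length_map, gl_length]; exact j.2)).1
        (by rw [List.getElem_map, List.getElem_map, same 1 (by norm_num), same 2 (by norm_num), same 4 (by norm_num)])
      exact Fin.ext this
    subst hij
    exact Prod.ext rfl (Subtype.ext (mul_left_cancel e'))
  have hc := Nat.card_le_card_of_injective f hf
  rw [Nat.card_prod, Nat.card_fin, K.card_A] at hc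
  exact Subgroup.eq_of_le_of_card_ge hle (by rw [K.card_M]; exact hc)

/-! ### the centraliser of `t` in `M` -/

/-- The letters `a, b, c, y, x, w` and their inverses. -/
def pLets (a z y x : G) : ℕ → G := lets (seven a z y x 1)

/-- The group table of the centraliser of `t` in `M`. -/
structure PTable (C : Cert) (T : Q ℕ) (t : G) (M : Subgroup G) (a z y x : G) (el : ℕ → G) : Prop where
  elts : Tab.Elts C T (pLets a z y x) el
  n_eq : C.n = 1536
  kl_eq : C.kl = [0, 2, 4, 6, 8, 10]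
  inj : ∀ c < C.n, ∀ d < C.n, el c = el d → c = d
  mem : ∀ c < C.n, el c ∈ M ∧ el c * t = t * el c
  surj : ∀ g ∈ M, g * t = t * g → ∃ c < C.n, el c = g

/-- The relation `z^i g = p z^j` of a rule as a word. -/
def ruleWord (r : List ℕ) : List ℕ :=
  List.replicate (r.getD 0 0) 2 ++ [[0, 4, 6].getD (r.getD 1 0) 0] ++ List.replicate (r.getD 2 0) 3 ++
    iw (trans (r.drop 3))

/-- All rules hold and every case has a rule. -/
def rulesOK (cl : List (List ℕ × ℕ)) (rules : List (List ℕ)) : Bool :=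
  (rules.all fun r => traced cl (ruleWord r) && ((r.drop 3).all fun l => decide (l < 12)) && decide (r.getD 2 0 < 7)) &&
    (List.range 7).all fun i => (List.range 3).all fun g => rules.any fun r => r.getD 0 0 == i && r.getD 1 0 == g

theorem Frame.exists_table [Finite G] (F : Frame t M A a z y x k f₁ f₂) (K : Ctx t R M A V) {MC : Cert}
    (hr : MC.rels = (relM k f₁ f₂).map List.reverse) (hMC : MC.OK) (hMs : MC.subs = [])
    {cl : List (List ℕ × ℕ)} (hL : cl.all MC.closesOK = true) {C : Cert} (hC : C.OK) (hs : C.subs = [])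
    (hkl : C.kl = [0, 2, 4, 6, 8, 10]) (hn : C.n = 1536) {RP : List (List ℕ)} (hRP : C.rels = RP.map List.reverse)
    (hcl : (RP.all fun w => traced cl (trans w)) = true) {rules : List (List ℕ)} (hrules : rulesOK cl rules = true)
    {T : Q ℕ} (hT : forallFrom (Tab.treeOK C T) 0 C.n = true) :
    ∃ el, PTable C T t M a z y x el := by
  classical
  have hone : ∀ w : List ℕ, traced cl w = true → (w.map (lets [a, z, y, x, 1])).prod = 1 :=
    fun w h => traced_eq_one (F.setup hr) hMC hMs hL h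
  have hS : Cert.Setup C (pLets a z y x) := setup_of_rels _ (by simp [seven]) hRP fun w hw => by
    have h := hone _ (List.all_eq_true.1 hcl w hw)
    rwa [prod_trans] at h
  obtain ⟨el, E⟩ := Tab.exists_el hS hC hs hT
  set P := closure {g | ∃ i ∈ C.kl, g = pLets a z y x i} with hP
  have hpl : ∀ i < 12, pLets a z y x i ∈ P := by
    intro i hi
    have hev : ∀ i ∈ [0, 2, 4, 6, 8, 10], pLets a z y x i ∈ P := fun i hi =>
      subset_closure ⟨i, hkl ▸ hi, rfl⟩
    obtain ⟨j, hj, rfl | rfl⟩ := (by decide +kernel :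
      ∀ i < 12, ∃ j ∈ [0, 2, 4, 6, 8, 10], i = j ∨ i = flp j) i hi
    · exact hev _ hj
    · rw [show pLets a z y x (flp j) = (pLets a z y x j)⁻¹ from lets_inv _ j]
      exact inv_mem (hev _ hj)
  have hPM : ∀ g ∈ P, g ∈ M ∧ g * t = t * g := by
    have hle : P ≤ M ⊓ centralizer {t} := (closure_le _).2 fun g hg => by
      obtain ⟨i, hi, rfl⟩ := hg
      rw [hkl] at hi
      have B := F.abasis K
      have hct : ∀ g ∈ A, g * t = t * g := fun g hg => K.A_comm g hg t (K.V_le K.t_V)
      obtain ⟨z1, y1, x1⟩ := F.actions K (n := 1) (by norm_num)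
      obtain ⟨z6, -, x6⟩ := F.actions K (n := 6) (by norm_num)
      have v1 : vv t (z * t * z⁻¹) (z * (z * t * z⁻¹) * z⁻¹) 1 = t := by simp [vv]
      rw [v1, show lin2 1 4 7 1 = 1 from rfl, v1] at y1
      rw [v1, show lin2 1 4 2 1 = 1 from rfl, v1] at x1
      rw [show lin2 2 4 5 6 = 1 from rfl, v1] at z6
      rw [show lin2 1 4 2 6 = 6 from rfl] at x6
      simp only [SetLike.mem_coe, mem_inf, mem_centralizer_singleton_iff]
      simp only [List.mem_cons, List.not_mem_nil, or_false] at hi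
      rcases hi with rfl | rfl | rfl | rfl | rfl | rfl <;> simp [pLets, lets, seven]
      · exact ⟨K.A_le F.a_mem, hct a F.a_mem⟩
      · exact ⟨K.A_le B.mb, hct _ B.mb⟩
      · exact ⟨K.A_le B.mc, hct _ B.mc⟩
      · exact ⟨F.y_mem, mul_inv_eq_iff_eq_mul.1 y1⟩
      · exact ⟨F.x_mem, mul_inv_eq_iff_eq_mul.1 x1⟩
      · refine ⟨mul_mem (mul_mem F.z_mem F.x_mem) (inv_mem F.z_mem), mul_inv_eq_iff_eq_mul.1 ?_⟩
        conv_lhs => rw [← z6]
        rw [show z * x * z⁻¹ * (z * vv t (z * t * z⁻¹) (z * (z * t * z⁻¹) * z⁻¹) 6 * z⁻¹) * (z * x * z⁻¹)⁻¹ =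
          z * (x * vv t (z * t * z⁻¹) (z * (z * t * z⁻¹) * z⁻¹) 6 * x⁻¹) * z⁻¹ by group, x6, z6]
    exact fun g hg => ⟨(hle hg).1, mem_centralizer_singleton_iff.1 (hle hg).2⟩
  -- the seven classes of `P`
  let S : Set G := {g | ∃ p ∈ P, ∃ j < 7, g = p * z ^ j}
  simp only [rulesOK, Bool.and_eq_true, List.all_eq_true, List.any_eq_true, beq_iff_eq, decide_eq_true_eq] at hrules
  have hstep : ∀ g ∈ ({a, z, y, x} : Set G), ∀ q ∈ S, q * g ∈ S := by
    rintro g hg _ ⟨p, hp, i, hi, rfl⟩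
    by_cases hgz : g = z
    · subst hgz
      rcases Nat.lt_or_ge (i + 1) 7 with h | h
      · exact ⟨p, hp, i + 1, h, by rw [mul_assoc, pow_succ]⟩
      · refine ⟨p, hp, 0, by norm_num, ?_⟩
        rw [mul_assoc, ← pow_succ, show i + 1 = 7 by omega, F.z_seven, pow_zero]
    obtain ⟨m, hm, rfl⟩ : ∃ m < 3, g = lets [a, z, y, x, 1] ([0, 4, 6].getD m 0) := by
      simp only [Set.mem_insert_iff, Set.mem_singleton_iff] at hg
      rcases hg with rfl | rfl | rfl | rfl
      · exact ⟨0, by norm_num, by simp [lets]⟩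
      · exact absurd rfl hgz
      · exact ⟨1, by norm_num, by simp [lets]⟩
      · exact ⟨2, by norm_num, by simp [lets]⟩
    obtain ⟨r, hr', hr0, hr1⟩ := hrules.2 i (List.mem_range.2 hi) m (List.mem_range.2 hm)
    obtain ⟨⟨htr, hl⟩, hj⟩ := hrules.1 r hr'
    have h := hone _ htr
    rw [ruleWord, List.map_append, List.map_append, List.map_append, List.prod_append, List.prod_append,
      List.prod_append, prod_iw (lets_inv _), prod_trans, hr0, hr1, List.map_replicate, List.map_replicate,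
      List.prod_replicate, List.prod_replicate, List.map_singleton, List.prod_singleton] at h
    refine ⟨p * ((r.drop 3).map (pLets a z y x)).prod, mul_mem hp (P.list_prod_mem fun q hq => by
      obtain ⟨l, hl', rfl⟩ := List.mem_map.1 hq
      exact hpl l (hl l hl')), r.getD 2 0, hj, ?_⟩
    rw [show lets [a, z, y, x, 1] 2 = z by simp [lets], show lets [a, z, y, x, 1] 3 = z⁻¹ by simp [lets],
      inv_pow, mul_inv_eq_one, mul_inv_eq_iff_eq_mul] at h
    rw [mul_assoc, h, mul_assoc]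
    rfl
  have hall : ∀ g ∈ M, g ∈ S := by
    have hsub : ∀ g ∈ Submonoid.closure ({a, z, y, x} : Set G), ∀ q ∈ S, q * g ∈ S := by
      intro g hg
      induction hg using Submonoid.closure_induction with
      | mem g hg => exact hstep g hg
      | one => intro q hq; rwa [mul_one]
      | mul g g' _ _ h h' => intro q hq; rw [← mul_assoc]; exact h' _ (h q hq)
    intro g hg
    rw [← F.gen K, ← mem_toSubmonoid, closure_toSubmonoid_of_finite] at hg
    have := hsub g hg 1 ⟨1, one_mem _, 0, by norm_num, by simp⟩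
    rwa [one_mul] at this
  have hcard : C.n ≤ Nat.card P := by
    have hb : Nat.card M ≤ Nat.card (Fin 7 × P) := Nat.card_le_card_of_surjective
      (fun q : Fin 7 × P => (⟨(q.2 : G) * z ^ q.1.1, mul_mem (hPM _ q.2.2).1 (pow_mem F.z_mem _)⟩ : M))
      fun ⟨g, hg⟩ => by
        obtain ⟨p, hp, j, hj, rfl⟩ := hall g hg
        exact ⟨(⟨j, hj⟩, ⟨p, hp⟩), rfl⟩
    rw [K.card_M, Nat.card_prod, Nat.card_fin] at hb
    omega
  have h0 : 0 < C.n := by omega
  refine ⟨el, E, hn, hkl, E.inj h0 hcard, fun c hc => ?_, fun g hg hgt => ?_⟩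
  · suffices h : ∀ c, c < C.n → el c ∈ P from hPM _ (h c hc)
    intro c
    induction c using Nat.strong_induction_on with
    | _ c ih =>
      intro hc
      by_cases hc0 : c = 0
      · rw [hc0, E.el_zero]; exact one_mem _
      obtain ⟨hp, hj, hx⟩ := E.step_spec hc hc0
      rw [← hx, E.el_nx _ (by omega) _ hj]
      exact mul_mem (subset_closure ⟨_, by rw [List.getD_eq_getElem _ _ hj]; exact List.getElem_mem _, rfl⟩)
        (ih _ hp (by omega))
  · obtain ⟨p, hp, j, hj, rfl⟩ := hall g hg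
    suffices j = 0 by
      subst this
      rw [pow_zero, mul_one]
      exact E.surj h0 hp
    have hzt : z ^ j * t * (z ^ j)⁻¹ = t := by
      have hpt := (hPM p hp).2
      have e : z ^ j * t = t * z ^ j := by
        refine mul_left_cancel (a := p) ?_
        rw [← mul_assoc, hgt, ← mul_assoc, ← mul_assoc, ← hpt]
      rw [e, mul_inv_cancel_right]
    obtain ⟨h1, h2⟩ := F.act_word K (w := List.replicate j 2) (fun l hl => Or.inl (List.eq_of_mem_replicate hl))
      (n := 1) (by norm_num)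
    rw [List.map_replicate, List.prod_replicate, show lets [a, z, y, x, 1] 2 = z by simp [lets],
      show vv t (z * t * z⁻¹) (z * (z * t * z⁻¹) * z⁻¹) 1 = t by simp [vv], hzt] at h2
    have h3 := (F.vbasis K).vv_inj K 1 (by norm_num) _ h1 (by
      rw [← h2]; simp [vv])
    exact (by decide +kernel : ∀ j < 7, 1 = wAct (List.replicate j 2) 1 → j = 0) j hj h3

/-! ### the normal subgroup of order 64 -/

section

variable (C : Cert) (T : Q ℕ)

/-- The square is `1` or `t`. -/
noncomputable def sqOK (c : ℕ) : Bool :=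
  Nat.beq (Tab.mul C T c c) 0 || Nat.beq (Tab.mul C T c c) (Tab.ev C [0, 0])

/-- Positions of conjugating elements with their inverses. -/
def cjPairs : List (List ℕ × List ℕ) :=
  [([0], [0, 0, 0]), ([1], [1, 1, 1]), ([2], [2, 2, 2]), ([3], [3, 3]), ([4], [4]), ([5], [5]), ([3, 3], [3])]

/-- The element and its products with conjugates square into `<t>`. -/
noncomputable def inS (c : ℕ) : Bool :=
  sqOK C T c && cjPairs.all fun p =>
    sqOK C T (Tab.mul C T c (Tab.mul C T (Tab.mul C T (Tab.ev C p.1) c) (Tab.ev C p.2)))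

/-- The listed pairs are inverse pairs. -/
noncomputable def pairsOK : Bool :=
  cjPairs.all fun p => Nat.beq (Tab.mul C T (Tab.ev C p.1) (Tab.ev C p.2)) 0

end

variable {C : Cert} {T : Q ℕ} {el : ℕ → G}

theorem PTable.ev (P : PTable C T t M a z y x el) {w : List ℕ} (h : ∀ j ∈ w, j < 6) :
    Tab.ev C w < C.n ∧ el (Tab.ev C w) = (w.map fun j => pLets a z y x (2 * j)).prod := by
  obtain ⟨h1, h2⟩ := P.elts.ev_spec (by rw [P.n_eq]; norm_num) (w := w) fun j hj => by
    rw [P.kl_eq]; exact h j hj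
  refine ⟨h1, h2.trans ?_⟩
  congr 1
  refine List.map_congr_left fun j hj => ?_
  have := h j hj
  rw [P.kl_eq]
  interval_cases j <;> rfl

theorem PTable.R_codes (P : PTable C T t M a z y x el) (K : Ctx t R M A V) (hp : pairsOK C T = true)
    (hat : a * a = t) {g : G} (hg : g ∈ R) : ∃ c < C.n, el c = g ∧ inS C T c = true := by
  have ht' : ∀ g ∈ R, g * t = t * g := fun g hg => mem_centralizer_singleton_iff.1 (K.R_le hg)
  obtain ⟨c, hc, rfl⟩ := P.surj g (K.R_M hg) (ht' g hg)
  have h0 : 0 < C.n := by rw [P.n_eq]; norm_num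
  obtain ⟨htl, hte⟩ := P.ev (w := [0, 0]) (by simp)
  simp [pLets, lets, seven, hat] at hte
  have hsq : ∀ d < C.n, el d ∈ R → sqOK C T d = true := fun d hd h => by
    simp only [sqOK, Bool.or_eq_true, Nat.beq_eq]
    rcases K.sq _ h with e | e
    · exact Or.inl (P.inj _ (P.elts.mul_lt hd hd) _ h0 (by rw [P.elts.el_mul hd hd, e, P.elts.el_zero]))
    · exact Or.inr (P.inj _ (P.elts.mul_lt hd hd) _ htl (by rw [P.elts.el_mul hd hd, e, hte]))
  refine ⟨c, hc, rfl, ?_⟩
  simp only [inS, Bool.and_eq_true, List.all_eq_true]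
  refine ⟨hsq c hc hg, fun p hp' => ?_⟩
  have hlt : ∀ j, (j ∈ p.1 ∨ j ∈ p.2) → j < 6 := by
    simp only [cjPairs, List.mem_cons, List.not_mem_nil, or_false] at hp'
    rcases hp' with rfl | rfl | rfl | rfl | rfl | rfl | rfl <;> simp
  obtain ⟨l1, -⟩ := P.ev (w := p.1) fun j hj => hlt j (Or.inl hj)
  obtain ⟨l2, -⟩ := P.ev (w := p.2) fun j hj => hlt j (Or.inr hj)
  have hinv : el (Tab.ev C p.2) = (el (Tab.ev C p.1))⁻¹ := by
    refine eq_inv_of_mul_eq_one_right ?_
    rw [← P.elts.el_mul l1 l2, Nat.eq_of_beq_eq_true (List.all_eq_true.1 hp p hp'), P.elts.el_zero]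
  have m1 := P.elts.mul_lt l1 hc
  have m2 := P.elts.mul_lt m1 l2
  refine hsq _ (P.elts.mul_lt hc m2) ?_
  rw [P.elts.el_mul hc m2, P.elts.el_mul m1 l2, P.elts.el_mul l1 hc, hinv]
  exact mul_mem hg (K.R_conj _ (mem_centralizer_singleton_iff.2 (P.mem _ l1).2) _ hg)

theorem codes_bound [Finite G] {S : Subgroup G} {L : List ℕ} (h : ∀ g ∈ S, ∃ c ∈ L, el c = g) :
    Nat.card S ≤ L.length ∧ (L.length ≤ Nat.card S → ∀ c ∈ L, el c ∈ S) := by
  classical
  have hsub : (S : Set G) ⊆ (L.toFinset.image el : Set G) := fun g hg => by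
    obtain ⟨c, hc, e⟩ := h g hg
    simp only [Finset.coe_image, Set.mem_image, Finset.mem_coe, List.mem_toFinset]
    exact ⟨c, hc, e⟩
  have h1 := Set.ncard_le_ncard hsub (Finset.finite_toSet _)
  have h2 := (Finset.card_image_le (s := L.toFinset) (f := el)).trans L.toFinset_card_le
  rw [← Nat.card_coe_set_eq, Set.ncard_coe_finset] at h1
  refine ⟨h1.trans h2, fun hle c hc => ?_⟩
  have := Set.eq_of_subset_of_ncard_le hsub (by
    rw [Set.ncard_coe_finset, ← Nat.card_coe_set_eq]; exact h2.trans hle) (Finset.finite_toSet _)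
  exact this.ge (by simpa using ⟨c, hc, rfl⟩)

open Certs in
theorem non_few : ((List.range 1536).filter fun c => inS PNon.cert Data.treeN c).length < 64 := by decide +kernel

open Certs in
theorem non_pairs : pairsOK PNon.cert Data.treeN = true := by decide +kernel

open Certs in
theorem split_pairs : pairsOK PSplit.cert Data.treeP = true := by decide +kernel

open Certs in
theorem split_cover : ((List.range 1536).all fun c =>
    !(inS PSplit.cert Data.treeP c) || (DataR.list0.contains c || DataR.list1.contains c)) = true := by decide +kernel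

open Certs in
theorem split_apart : (DataR.list0.all fun c => DataR.list1.contains c || DataR.list1.all fun d =>
    DataR.list0.contains d || !(inS PSplit.cert Data.treeP (Tab.mul PSplit.cert Data.treeP c d))) = true := by
  decide +kernel

theorem lists_length : DataR.list0.length = 64 ∧ DataR.list1.length = 64 := by decide +kernel

open Certs in
theorem Frame.non_split [Finite G] (F : Frame t M A a z y x 0 38 59) (K : Ctx t R M A V) : False := by
  obtain ⟨el, P⟩ := F.exists_table K (MC := MNon.cert) (by decide +kernel) MNon.valid rfl MNon.closers_ok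
    (C := PNon.cert) PNon.valid rfl rfl rfl (RP := Data.relPNon) (by decide +kernel) (by decide +kernel)
    (rules := Data.rulesNon) (by decide +kernel) (T := Data.treeN) (by decide +kernel)
  have h := (codes_bound (S := R) (L := (List.range 1536).filter fun c => inS PNon.cert Data.treeN c) (el := el)
    fun g hg => by
      obtain ⟨c, hc, e, h⟩ := P.R_codes K non_pairs F.t_eq hg
      exact ⟨c, List.mem_filter.2 ⟨List.mem_range.2 hc, h⟩, e⟩).1
  rw [K.card_R] at h
  exact absurd non_few (by omega)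

open Certs in
theorem Frame.split [Finite G] (F : Frame t M A a z y x 0 0 0) (K : Ctx t R M A V) :
    ∃ el, PTable PSplit.cert Data.treeP t M a z y x el ∧
      ∃ L ∈ [DataR.list0, DataR.list1], ∀ g, g ∈ R ↔ ∃ c ∈ L, el c = g := by
  obtain ⟨el, P⟩ := F.exists_table K (MC := MSplit.cert) (by decide +kernel) MSplit.valid rfl MSplit.closers_ok
    (C := PSplit.cert) PSplit.valid rfl rfl rfl (RP := Data.relPSplit) (by decide +kernel) (by decide +kernel)
    (rules := Data.rulesSplit) (by decide +kernel) (T := Data.treeP) (by decide +kernel)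
  refine ⟨el, P, ?_⟩
  have hn : PSplit.cert.n = 1536 := P.n_eq
  have hcov : ∀ g ∈ R, ∃ c < 1536, el c = g ∧ inS PSplit.cert Data.treeP c = true ∧
      (c ∈ DataR.list0 ∨ c ∈ DataR.list1) := fun g hg => by
    obtain ⟨c, hc, e, h⟩ := P.R_codes K split_pairs F.t_eq hg
    have := List.all_eq_true.1 split_cover c (List.mem_range.2 (hn ▸ hc))
    simp [h] at this
    exact ⟨c, hn ▸ hc, e, h, this⟩
  have main : ∀ L : List ℕ, L.length = 64 → (∀ g ∈ R, ∃ c ∈ L, el c = g) → ∀ g, g ∈ R ↔ ∃ c ∈ L, el c = g :=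
    fun L hL h g => ⟨h g, fun ⟨c, hc, e⟩ => e ▸ (codes_bound h).2 (by rw [hL, K.card_R]) c hc⟩
  by_cases h0 : ∀ g ∈ R, ∃ c ∈ DataR.list0, el c = g
  · exact ⟨_, by simp, main _ lists_length.1 h0⟩
  refine ⟨_, by simp, main DataR.list1 lists_length.2 fun g hg => ?_⟩
  push Not at h0
  obtain ⟨g', hg', hne⟩ := h0
  obtain ⟨d, hd, ed, -, hd'⟩ := hcov g' hg'
  have hd0 : d ∉ DataR.list0 := fun h => hne d h ed
  obtain ⟨c, hc, ec, -, hc'⟩ := hcov g hg
  refine ⟨c, ?_, ec⟩
  rcases hc' with h | h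
  · by_contra hc1
    have := List.all_eq_true.1 split_apart c h
    simp [hc1] at this
    have hbad := (this d (hd'.resolve_left hd0)).resolve_left hd0
    obtain ⟨e', he', ee, hS, -⟩ := hcov (el c * el d) (by rw [ec, ed]; exact mul_mem hg hg')
    rw [← P.elts.el_mul (hn ▸ hc) (hn ▸ hd)] at ee
    rw [P.inj _ (hn ▸ he') _ (P.elts.mul_lt (hn ▸ hc) (hn ▸ hd)) ee] at hS
    rw [hS] at hbad
    exact absurd hbad (by simp)
  · exact h

/-- The split extension, with the table of `C(t) ⊓ N(V)` and the two candidates for `O_2(C(t))`. -/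
theorem exists_split [Finite G] (K : Ctx t R M A V) :
    ∃ a z y x el, Frame t M A a z y x 0 0 0 ∧ PTable Certs.PSplit.cert Data.treeP t M a z y x el ∧
      ∃ L ∈ [DataR.list0, DataR.list1], ∀ g, g ∈ R ↔ ∃ c ∈ L, el c = g := by
  obtain ⟨a, z, y, x, k, f₁, f₂, F, hk, h₁, h₂⟩ := exists_frame K
  obtain ⟨rfl, ⟨rfl, rfl⟩ | ⟨rfl, rfl⟩⟩ := F.good K.t_ne hk h₁ h₂
  · obtain ⟨el, P, h⟩ := F.split K
    exact ⟨a, z, y, x, el, F, P, h⟩
  · exact (F.non_split K).elim

end CfsgLib.Recog.HsTwoLocal
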